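import Cfsg.Agent.H440.TwoGen.Basic
import Cfsg.Agent.H490.Der_m3
import Cfsg.Agent.H868.ExtAlt
import Cfsg.Agent.S2119
import Cfsg.Agent.H994.TwoGen.Chain
import Cfsg.Agent.H679.SporOut
import Cfsg.Agent.H994.TwoGen.M11
import Cfsg.Agent.H994.TwoGen.M12
import Cfsg.Agent.H994.TwoGen.M22
import Cfsg.Agent.H994.TwoGen.M23_m3
import Cfsg.Agent.H70.SzAutThm
import Cfsg.Agent.H967.CopMat
import Cfsg.Agent.Lib.FieldAutCard
import Cfsg.Agent.H71.FldAut
import Cfsg.Agent.ChevalleyStructure.Ree.Perfect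
import Cfsg.Agent.H440.TwoGen.Cox
import Cfsg.Agent.H391.PslRow
import Cfsg.Agent.ClassicalGeometry.AutPSL.Main
import Cfsg.Agent.H135.SLCyc
import Cfsg.Agent.H136.FieldLem
import Cfsg.Agent.H136.TwoGen
import Cfsg.Agent.H450.GenU.Frame
import Cfsg.Agent.H206.FieldKill
import Cfsg.Agent.FastGrp
import Cfsg.Agent.Prune
set_option linter.all false

section
prune_inst 0x7f00000000000000000000000000000000000000000000000000000000000000000000000000000000000000000000000000000000000000000000000000000000000000000000000000000000000000003fffffffffffffffffffffffffffbeffbdffffffff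

section
prune_inst 0xbceefbeff8a9dfdfff7e7ff6dccffdfdfdfffff6dff9cbffe0e1ff8f9f4b02c9e56b8d0feb58fe1ed6e03410f87b53ffffeeffe36fdc7ffffd5ff45ffbff8fedf7bf0951d78c340fbc0ff703f0778e7f000000000000000000000000000000000200000000

-- part: H487/Gen/Outer
section
set_option linter.all false
open scoped Cfsg.Agent.FastGrp

/-!
# TEAM GEN, piece J: almost simple groups with `|Out T| ≤ 2` (helper487)

`T` is a normal subgroup of `G` with trivial centralizer, `e : T ≃* M`:

* `twoGen_of_inner` : if all the automorphisms of `M` are inner then `G = T`;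
* `twoGen_of_outer` : if `α` represents the only nontrivial class of outer automorphisms of `M` and
  `M = ⟨t, α t⟩` then `G` is 2-generated.
-/

set_option autoImplicit false

namespace Cfsg.Agent.H487.Gen

open Cfsg.Agent.H440.TwoGen Subgroup

universe u v

variable {G : Type u} [Group G] {T : Subgroup G} {M : Type v} [Group M]

/-- the automorphism of `M` induced by `g` -/
noncomputable def ind (hT : T.Normal) (e : T ≃* M) (g : G) : MulAut M :=
  MulAut.congr e (@MulAut.conjNormal G _ T hT g)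

theorem ind_apply (hT : T.Normal) (e : T ≃* M) (g : G) (t : T) :
    ind hT e g (e t) = e ⟨g * t * g⁻¹, hT.conj_mem t t.2 g⟩ := by
  change e (@MulAut.conjNormal G _ T hT g (e.symm (e t))) = _
  rw [e.symm_apply_apply]
  congr 1

theorem ind_mul (hT : T.Normal) (e : T ≃* M) (g h : G) : ind hT e (g * h) = ind hT e g * ind hT e h := by
  rw [ind, ind, ind, map_mul, map_mul]

theorem ind_inv (hT : T.Normal) (e : T ≃* M) (g : G) : ind hT e g⁻¹ = (ind hT e g)⁻¹ := by
  rw [ind, ind, map_inv, map_inv]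

theorem ind_of_mem (hT : T.Normal) (e : T ≃* M) (s : T) : ind hT e (s : G) = MulAut.conj (e s) := by
  apply MulEquiv.ext
  intro x
  obtain ⟨t, rfl⟩ := e.surjective x
  rw [ind_apply, MulAut.conj_apply, ← map_inv, ← map_mul, ← map_mul]
  rfl

theorem mem_of_ind (hT : T.Normal) (hC : centralizer (T : Set G) = ⊥) (e : T ≃* M) {g : G}
    (h : ind hT e g ∈ (MulAut.conj : M →* MulAut M).range) : g ∈ T := by
  obtain ⟨m, hm⟩ := h
  obtain ⟨s, rfl⟩ := e.surjective m
  rw [← ind_of_mem hT e s] at hm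
  have h1 : (s : G)⁻¹ * g ∈ centralizer (T : Set G) := by
    rw [mem_centralizer_iff]
    intro t ht
    have h2 := DFunLike.congr_fun hm (e ⟨t, ht⟩)
    rw [ind_apply, ind_apply] at h2
    have h3 := congrArg Subtype.val (e.injective h2)
    simp only at h3
    calc t * ((s : G)⁻¹ * g) = (s : G)⁻¹ * ((s : G) * t * (s : G)⁻¹) * g := by group
      _ = (s : G)⁻¹ * (g * t * g⁻¹) * g := by rw [h3]
      _ = (s : G)⁻¹ * g * t := by group
  rw [hC, mem_bot, inv_mul_eq_one] at h1
  rw [← h1]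
  exact s.2

theorem twoGen_of_eq_top (h : T = ⊤) (hM : TwoGen M) (e : T ≃* M) : TwoGen G :=
  (hM.of_equiv' ⟨e⟩).of_equiv ((MulEquiv.subgroupCongr h).trans Subgroup.topEquiv)

/-- all the automorphisms of `M` are inner -/
theorem twoGen_of_inner (hT : T.Normal) (hC : centralizer (T : Set G) = ⊥) (e : T ≃* M)
    (hin : ∀ φ : MulAut M, φ ∈ (MulAut.conj : M →* MulAut M).range) (hM : TwoGen M) : TwoGen G := by
  refine twoGen_of_eq_top ?_ hM e
  rw [eq_top_iff]
  intro g _
  exact mem_of_ind hT hC e (hin _)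

/-- `Out M` has at most two elements, `1` and the class of `α`, and `M = ⟨t, α t⟩`. -/
theorem twoGen_of_outer (hT : T.Normal) (hC : centralizer (T : Set G) = ⊥) (e : T ≃* M) (α : MulAut M)
    (hα : ∀ φ : MulAut M, φ ∈ (MulAut.conj : M →* MulAut M).range ∨ α * φ ∈ (MulAut.conj : M →* MulAut M).range)
    (t : M) (ht : closure ({t, α t} : Set M) = ⊤) : TwoGen G := by
  have hM : TwoGen M := ⟨t, α t, ht⟩
  by_cases hall : ∀ g : G, ind hT e g ∈ (MulAut.conj : M →* MulAut M).range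
  · refine twoGen_of_eq_top ?_ hM e
    rw [eq_top_iff]
    intro g _
    exact mem_of_ind hT hC e (hall g)
  push Not at hall
  obtain ⟨g, hg⟩ := hall
  obtain ⟨m, hm⟩ := (hα (ind hT e g)).resolve_left hg
  obtain ⟨s, rfl⟩ := e.surjective m
  rw [← ind_of_mem hT e s] at hm
  set h : G := s * g⁻¹ with hh
  have hind : ind hT e h = α := by
    rw [hh, ind_mul, ind_inv, hm, mul_inv_cancel_right]
  set τ : T := e.symm t with hτ
  have hτ1 : t = e τ := by rw [hτ, e.apply_symm_apply]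
  refine ⟨τ, h, ?_⟩
  have h1 : (τ : G) ∈ closure ({(τ : G), h} : Set G) := subset_closure (by simp)
  have h2 : h ∈ closure ({(τ : G), h} : Set G) := subset_closure (by simp)
  have h3 : h * τ * h⁻¹ ∈ closure ({(τ : G), h} : Set G) := mul_mem (mul_mem h2 h1) (inv_mem h2)
  have hTle : T ≤ closure ({(τ : G), h} : Set G) := by
    intro x hx
    have h4 : e ⟨x, hx⟩ ∈ closure ({t, α t} : Set M) := by rw [ht]; exact mem_top _
    have h5 : (closure ({t, α t} : Set M)).map (T.subtype.comp (e.symm : M →* T)) ≤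
        closure ({(τ : G), h} : Set G) := by
      rw [MonoidHom.map_closure, closure_le, Set.image_pair]
      have k1 : (T.subtype.comp (e.symm : M →* T)) t = τ := rfl
      have k2 : (T.subtype.comp (e.symm : M →* T)) (α t) = h * τ * h⁻¹ := by
        change ((e.symm (α t) : T) : G) = _
        rw [← hind, hτ1, ind_apply, e.symm_apply_apply]
      rw [k1, k2]
      rintro z (rfl | hz)
      · exact h1
      · rw [Set.mem_singleton_iff] at hz
        subst hz
        exact h3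
    have h6 : (T.subtype.comp (e.symm : M →* T)) (e ⟨x, hx⟩) = x := by
      change ((e.symm (e ⟨x, hx⟩) : T) : G) = _
      rw [e.symm_apply_apply]
    have h7 := h5 (mem_map_of_mem _ h4)
    rwa [h6] at h7
  rw [eq_top_iff]
  intro x _
  rcases hα (ind hT e x) with h4 | h4
  · exact hTle (mem_of_ind hT hC e h4)
  · rw [← hind, ← ind_mul] at h4
    have h5 := hTle (mem_of_ind hT hC e h4)
    exact (mul_mem_cancel_left h2).1 h5

/-- conjugation by `z`, restricted to `K` -/
def conjOn {P : Type v} [Group P] (K : Subgroup P) (z : P) (hz : ∀ q, q ∈ K ↔ z * q * z⁻¹ ∈ K) : MulAut K where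
  toFun q := ⟨z * q * z⁻¹, (hz q).1 q.2⟩
  invFun q := ⟨z⁻¹ * q * z, by rw [hz]; convert q.2 using 1; group⟩
  left_inv q := by
    apply Subtype.ext
    change z⁻¹ * (z * q * z⁻¹) * z = q
    group
  right_inv q := by
    apply Subtype.ext
    change z * (z⁻¹ * q * z) * z⁻¹ = q
    group
  map_mul' a b := by
    apply Subtype.ext
    change z * (a * b) * z⁻¹ = z * a * z⁻¹ * (z * b * z⁻¹)
    group

/-- `M = K` is a subgroup of `P` and all its automorphisms are induced by a subgroup `A` with `A = K ∪ z⁻¹ K`. -/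
theorem twoGen_of_conj (hT : T.Normal) (hC : centralizer (T : Set G) = ⊥) {P : Type v} [Group P] (K A : Subgroup P)
    (e : T ≃* K) (hφ : ∀ φ : MulAut K, ∃ p ∈ A, ∀ q : K, ((φ q : K) : P) = p * q * p⁻¹) (z : P)
    (hz : ∀ q, q ∈ K ↔ z * q * z⁻¹ ∈ K) (hA : ∀ p ∈ A, p ∈ K ∨ z * p ∈ K) (t : P) (ht : t ∈ K)
    (hgen : closure ({t, z * t * z⁻¹} : Set P) = K) : TwoGen G := by
  refine twoGen_of_outer hT hC e (conjOn K z hz) ?_ ⟨t, ht⟩ ?_
  · intro φ
    obtain ⟨p, hp, h⟩ := hφ φ
    rcases hA p hp with h1 | h1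
    · refine Or.inl ⟨⟨p, h1⟩, ?_⟩
      apply MulEquiv.ext
      intro q
      apply Subtype.ext
      rw [h q]
      rfl
    · refine Or.inr ⟨⟨z * p, h1⟩, ?_⟩
      apply MulEquiv.ext
      intro q
      apply Subtype.ext
      change z * p * q * (z * p)⁻¹ = z * ((φ q : K) : P) * z⁻¹
      rw [h q]
      group
  · apply Subgroup.map_injective K.subtype_injective
    rw [MonoidHom.map_closure, Set.image_pair]
    change closure ({t, z * t * z⁻¹} : Set P) = _
    rw [hgen, ← MonoidHom.range_eq_map, Subgroup.range_subtype]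

end Cfsg.Agent.H487.Gen

private theorem dce_5f6e9cc92cc0 : _root_.True := by
  try have : _root_.True := by simp only [_root_.Cfsg.Agent.H487.Gen.ind.eq_1]
  try have : _root_.True := by simp only [_root_.Cfsg.Agent.H487.Gen.ind.congr_simp]
  exact _root_.True.intro
end

-- part: H487/Gen/A67
section
prune_inst 0x100001001420020000000012200020002000000000030000c1e00204020390210900260040000a00000080000008800000000000001000002000820040010000840262c28308a10426008f800800000000000000000000000000000000041000000000000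
set_option linter.all false
open scoped Cfsg.Agent.FastGrp

/-!
# TEAM GEN: `LinRows.a67` (helper487)

`A_6`, `A_7` in dimension 4 over the field with two elements.
-/

set_option autoImplicit false

namespace Cfsg.Agent.H487.Gen.ASixSeven

open Cfsg.Agent.H440.TwoGen Cfsg.Agent.H891.Gen Cfsg.Agent.H50.Her Module Subgroup Equiv
open Cfsg.Agent.H994.TwoGen.Chain Cfsg.Agent.PermutationGroups.RegularLinear

universe u

/-! ### generators of `A_6` and `A_7` -/

/-- a permutation of `Fin n` from its table and the table of the inverse -/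
def mk (n : ℕ) (t s : Fin n → Fin n) (h1 : ∀ i, s (t i) = i) (h2 : ∀ i, t (s i) = i) : Perm (Fin n) :=
  ⟨t, s, h1, h2⟩

/-- `(0 1)(2 3)` -/
def x6 : Perm (Fin 6) := mk 6 ![1, 0, 3, 2, 4, 5] ![1, 0, 3, 2, 4, 5] (by decide) (by decide)
/-- `(1 2 3 4 5)` -/
def y6 : Perm (Fin 6) := mk 6 ![0, 2, 3, 4, 5, 1] ![0, 5, 1, 2, 3, 4] (by decide) (by decide)
/-- `(0 1)(2 3)` -/
def x7 : Perm (Fin 7) := mk 7 ![1, 0, 3, 2, 4, 5, 6] ![1, 0, 3, 2, 4, 5, 6] (by decide) (by decide)
/-- `(1 2)(3 4 5 6)` -/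
def y7 : Perm (Fin 7) := mk 7 ![0, 2, 1, 4, 5, 6, 3] ![0, 2, 1, 6, 3, 4, 5] (by decide) (by decide)
/-- `(0 1 2 3 4 5 6)` -/
def t7 : Perm (Fin 7) := mk 7 ![1, 2, 3, 4, 5, 6, 0] ![6, 0, 1, 2, 3, 4, 5] (by decide) (by decide)
/-- `(0 1)` -/
def z7 : Perm (Fin 7) := mk 7 ![1, 0, 2, 3, 4, 5, 6] ![1, 0, 2, 3, 4, 5, 6] (by decide) (by decide)

/-- the stabiliser chain of `⟨x6, y6⟩` -/
def c6 : List (Fin 6 × List (List ℕ)) :=
  [(0, [[], [0], [1, 0], [0, 1, 0], [3, 3, 0], [3, 0]]), (1, [[], [1], [1, 1], [3, 3], [3]]), (2, [[], [0, 1, 1, 0, 3, 3, 0, 1], [0, 3, 3, 0, 1, 0, 3], [1, 0, 3, 0, 1, 1, 0]]), (3, [[], [3, 3, 0, 1, 0, 3, 0], [0, 1, 0, 3, 0, 1, 1]])]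
/-- the stabiliser chain of `⟨x7, y7⟩` -/
def c7 : List (Fin 7 × List (List ℕ)) :=
  [(0, [[], [0], [1, 0], [0, 1, 0], [1, 0, 1, 0], [1, 1, 0, 1, 0], [3, 0, 1, 0]]), (1, [[], [1], [1, 1, 0, 1, 1, 0, 1], [3, 0, 1, 1, 0, 1], [0, 1, 1, 0, 1], [1, 0, 1, 1, 0, 1]]), (2, [[], [1, 1, 0, 1, 1, 0], [3, 0, 1, 0, 3, 0, 1, 0, 1, 0], [0, 1, 1, 0], [1, 0, 1, 0, 3, 0, 1, 0, 1, 0]]), (3, [[], [0, 3, 0, 1, 0, 3, 0, 1, 0, 1], [1, 1], [0, 1, 0, 3, 0, 1, 0, 3, 0, 3]]), (4, [[], [0, 1, 0, 3, 0, 1, 0, 3, 0, 1], [0, 3, 0, 1, 0, 3, 0, 1, 0, 3]])]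
/-- the stabiliser chain of `⟨t7, z7 t7 z7⟩` -/
def d7 : List (Fin 7 × List (List ℕ)) :=
  [(0, [[], [0], [1], [0, 1], [0, 0, 1], [2, 2], [2]]), (1, [[], [3, 0, 0], [1, 0], [0, 3, 0, 1, 0], [2, 3], [0, 3, 3]]), (2, [[], [0, 3, 0], [0, 0, 0, 3, 2, 2], [2, 1, 2, 2, 1, 2], [2, 1, 2]]), (3, [[], [0, 0, 0, 1, 0, 0, 0], [2, 2, 1, 0, 1, 2, 2], [2, 1, 0, 1, 1, 0, 0, 0]]), (4, [[], [2, 2, 2, 1, 0, 0], [2, 2, 3, 0, 0, 0]])]

theorem card6 : Nat.card (alternatingGroup (Fin 6)) = 360 := by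
  rw [nat_card_alternatingGroup]
  simp [Nat.factorial]

theorem card7 : Nat.card (alternatingGroup (Fin 7)) = 2520 := by
  rw [nat_card_alternatingGroup]
  simp [Nat.factorial]

theorem gen6 : _root_.Subgroup.closure ({x6, y6} : Set (Perm (Fin 6))) = alternatingGroup (Fin 6) :=
  closure_eq (by rw [Perm.mem_alternatingGroup]; decide +kernel) (by rw [Perm.mem_alternatingGroup]; decide +kernel)
    c6 (by decide +kernel) (by rw [card6]; decide)

theorem gen7 : _root_.Subgroup.closure ({x7, y7} : Set (Perm (Fin 7))) = alternatingGroup (Fin 7) :=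
  closure_eq (by rw [Perm.mem_alternatingGroup]; decide +kernel) (by rw [Perm.mem_alternatingGroup]; decide +kernel)
    c7 (by decide +kernel) (by rw [card7]; decide)

theorem gen7' : _root_.Subgroup.closure ({t7, z7 * t7 * z7⁻¹} : Set (Perm (Fin 7))) = alternatingGroup (Fin 7) :=
  closure_eq (by rw [Perm.mem_alternatingGroup]; decide +kernel) (by rw [Perm.mem_alternatingGroup]; decide +kernel)
    d7 (by decide +kernel) (by rw [card7]; decide)

/-! ### 2-generation -/

theorem twoGen_a7 {G : Type u} [Group G] {T : Subgroup G} (hT : T.Normal) (hC : centralizer (T : Set G) = ⊥)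
    (e : T ≃* alternatingGroup (Fin 7)) : TwoGen G := by
  have hz : ∀ q : Perm (Fin 7), q ∈ alternatingGroup (Fin 7) ↔ z7 * q * z7⁻¹ ∈ alternatingGroup (Fin 7) := by
    intro q
    rw [Perm.mem_alternatingGroup, Perm.mem_alternatingGroup, map_mul, map_mul, map_inv, mul_comm (Perm.sign z7),
      mul_inv_cancel_right]
  refine twoGen_of_conj hT hC (alternatingGroup (Fin 7)) ⊤ e (fun φ => ?_) z7 hz (fun p _ => ?_) t7
    (by rw [Perm.mem_alternatingGroup]; decide +kernel) gen7'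
  · obtain ⟨p, hp⟩ := (Cfsg.Agent.S2119.result 7 (by norm_num) (by norm_num)).2 φ
    refine ⟨p, mem_top _, fun q => ?_⟩
    rw [← hp]
    rfl
  · rcases Int.units_eq_one_or (Perm.sign p) with h1 | h1
    · exact Or.inl (Perm.mem_alternatingGroup.2 h1)
    · right
      have h2 : Perm.sign z7 = -1 := by decide +kernel
      rw [Perm.mem_alternatingGroup, map_mul, h1, h2]
      decide

theorem twoGen_a6 {G : Type u} [Group G] {T : Subgroup G} (hT : T.Normal) (hC : centralizer (T : Set G) = ⊥)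
    (e : T ≃* alternatingGroup (Fin 6)) : TwoGen G := by
  obtain ⟨F, _, _, hF, ⟨f⟩⟩ := Cfsg.Agent.H868.ExtAlt.alt_six
  exact Cfsg.Agent.H791.Gen.twoGen_of_aut T hC (e.trans f) fun S hS =>
    Cfsg.Agent.H791.Gen.twoGen_sub (by omega) S hS

/-! ### derivations -/

variable {V : Type u} [AddCommGroup V] [Module (ZMod 2) V] [Finite V]

theorem small_alt (L : Subgroup (V ≃ₗ[ZMod 2] V)) {n : ℕ} (e : L ≃* alternatingGroup (Fin n)) {a b : Perm (Fin n)}
    (ha : a * a = 1) (ha1 : a ≠ 1) (hab : _root_.Subgroup.closure ({a, b} : Set (Perm (Fin n))) = alternatingGroup (Fin n)) :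
    Small ↥L V := by
  have hfin := finite_gl (p := 2) (V := V)
  have hma : a ∈ alternatingGroup (Fin n) := by rw [← hab]; exact _root_.Subgroup.subset_closure (by simp)
  have hmb : b ∈ alternatingGroup (Fin n) := by rw [← hab]; exact _root_.Subgroup.subset_closure (by simp)
  have h1 : _root_.Subgroup.closure ({(⟨a, hma⟩ : alternatingGroup (Fin n)), ⟨b, hmb⟩} : Set (alternatingGroup (Fin n))) = ⊤ := by
    apply Subgroup.map_injective (alternatingGroup (Fin n)).subtype_injective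
    rw [MonoidHom.map_closure, Set.image_pair]
    change _root_.Subgroup.closure ({a, b} : Set (Perm (Fin n))) = _
    rw [hab, ← MonoidHom.range_eq_map, Subgroup.range_subtype]
  have h2 : _root_.Subgroup.closure ({e.symm ⟨a, hma⟩, e.symm ⟨b, hmb⟩} : Set L) = ⊤ := by
    have h3 := MonoidHom.map_closure (e.symm : alternatingGroup (Fin n) →* L)
      ({(⟨a, hma⟩ : alternatingGroup (Fin n)), ⟨b, hmb⟩} : Set (alternatingGroup (Fin n)))
    rw [h1, Set.image_pair, ← MonoidHom.range_eq_map, MonoidHom.range_eq_top.2 e.symm.surjective] at h3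
    exact h3.symm
  have h4 : (e.symm ⟨a, hma⟩ : L) ≠ 1 := by
    intro h
    apply ha1
    have h5 : (⟨a, hma⟩ : alternatingGroup (Fin n)) = 1 := by
      apply e.symm.injective
      rw [h, map_one]
    exact congrArg Subtype.val h5
  obtain ⟨v, hv⟩ : ∃ v : V, (e.symm ⟨a, hma⟩ : L) • v ≠ v := by
    by_contra hcon
    push Not at hcon
    apply h4
    apply Subtype.ext
    ext v
    exact hcon v
  refine Cfsg.Agent.H490.Der.small_of_involution (fun v => ZModModule.char_nsmul_eq_zero 2 v) h2 ?_ hv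
  rw [← map_pow, pow_two]
  have h5 : (⟨a, hma⟩ * ⟨a, hma⟩ : alternatingGroup (Fin n)) = 1 := Subtype.ext ha
  rw [h5, map_one]

/-- the order of `GL(U)` -/
theorem card_gl {p : ℕ} [Fact p.Prime] {W : Type*} [AddCommGroup W] [Module (ZMod p) W] [Finite W] {n : ℕ}
    (hW : finrank (ZMod p) W = n) : Nat.card (W ≃ₗ[ZMod p] W) = ∏ i : Fin n, (p ^ n - p ^ (i : ℕ)) := by
  let b : Basis (Fin n) (ZMod p) W := Module.finBasisOfFinrankEq (ZMod p) W hW
  have e1 : (W ≃ₗ[ZMod p] W) ≃ Matrix.GeneralLinearGroup (Fin n) (ZMod p) :=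
    ((LinearMap.GeneralLinearGroup.generalLinearEquiv (ZMod p) W).symm.trans
      (Units.mapEquiv (LinearMap.toMatrixAlgEquiv b).toMulEquiv)).toEquiv
  rw [Nat.card_congr e1, Matrix.card_GL_field, ZMod.card]

/-- the group `A` is trivial -/
theorem A_eq_bot [Nontrivial V] {G A L : Subgroup (V ≃ₗ[ZMod 2] V)}
    (htr : ∀ v w : V, v ≠ 0 → w ≠ 0 → ∃ g ∈ G, g v = w) (hL : Perf G A L)
    (hq : Quasi A L) (hd : finrank (ZMod 2) V = 4) (hc : Nat.card L = 360 ∨ Nat.card L = 2520)
    (hs : IsSimpleGroup L) : A = ⊥ := by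
  have hfin := finite_gl (p := 2) (V := V)
  have hfinV : FiniteDimensional (ZMod 2) V := Module.Finite.of_finite
  obtain ⟨b, h1, h2, h3⟩ := hL.exists_cfg htr hq
  have hb1 := h3.b_dvd
  have hb2 := h3.b_lt
  rw [hd] at hb1 hb2
  have hA : Nat.card A = 1 ∨ Nat.card A = 3 := by
    have hb : b = 1 ∨ b = 2 := by
      have h0 := h3.b_pos
      interval_cases b <;> omega
    rcases hb with rfl | rfl
    · left
      simpa only [_root_.Subgroup.card_eq_one, _root_.pow_one, _root_.Nat.add_one_sub_one, _root_.Nat.dvd_one] using h1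
    · have h4 : Nat.card A ∣ 3 := by simpa only [_root_.Nat.reducePow, _root_.Nat.add_one_sub_one] using h1
      exact (Nat.dvd_prime Nat.prime_three).1 h4
  rcases hA with hA | hA
  · exact Subgroup.eq_bot_of_card_eq A hA
  exfalso
  have hcomm : ∀ (a : A) (l : L), Commute (A.subtype a) (L.subtype l) := fun a l =>
    (Subgroup.mem_centralizer_iff.1 (hL.L_le l.2)) a a.2
  let f : A × L →* (V ≃ₗ[ZMod 2] V) := MonoidHom.noncommCoprod A.subtype L.subtype hcomm
  have hf : Function.Injective f := by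
    rw [MonoidHom.noncommCoprod_injective]
    refine ⟨A.subtype_injective, L.subtype_injective, ?_⟩
    rw [Subgroup.range_subtype, Subgroup.range_subtype, disjoint_iff]
    -- `A ⊓ L` is central in `L`
    have h5 : (A.subgroupOf L) ≤ center L := by
      intro z hz
      rw [mem_center_iff]
      intro g
      apply Subtype.ext
      exact ((Subgroup.mem_centralizer_iff.1 (hL.L_le g.2)) z (mem_subgroupOf.1 hz)).symm
    have h6 : center L = ⊥ := by
      rcases hs.eq_bot_or_eq_top_of_normal (center L) inferInstance with h | h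
      · exact h
      · exfalso
        apply Cfsg.Agent.H50.Her.not_com_of_perfect hL.perf hL.not_le
        intro a ha b hb
        have h7 : (⟨a, ha⟩ : L) ∈ center L := by rw [h]; exact mem_top _
        exact (congrArg Subtype.val (mem_center_iff.1 h7 ⟨b, hb⟩)).symm
    rw [h6, le_bot_iff, subgroupOf_eq_bot, disjoint_iff] at h5
    exact h5
  have h5 : Nat.card (A × L) ∣ Nat.card (V ≃ₗ[ZMod 2] V) := by
    rw [Nat.card_congr (MonoidHom.ofInjective hf).toEquiv]
    exact Subgroup.card_subgroup_dvd_card _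
  have h6 : Nat.card (V ≃ₗ[ZMod 2] V) = 20160 := by
    rw [card_gl hd]
    decide
  rw [Nat.card_prod, hA, h6] at h5
  rcases hc with h | h <;> rw [h] at h5 <;> revert h5 <;> decide

/-- **`LinRows.a67`.** -/
theorem row_a67 : ∀ (V : Type u) [AddCommGroup V] [Module (ZMod 2) V] [Finite V]
    (G A L : Subgroup (V ≃ₗ[ZMod 2] V)), (∀ v w : V, v ≠ 0 → w ≠ 0 → ∃ g ∈ G, g v = w) → MaxAb G A → Perf G A L →
    Quasi A L → finrank (ZMod 2) V = 4 →
    (Nonempty (L ≃* alternatingGroup (Fin 6)) ∨ Nonempty (L ≃* alternatingGroup (Fin 7))) → LGood G := by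
  intro V _ _ _ G A L htr _ hL hq hd he
  have hfin := finite_gl (p := 2) (V := V)
  have hnt : Nontrivial V := Module.nontrivial_of_finrank_pos (R := ZMod 2) (by omega)
  have hcs : (Nat.card L = 360 ∨ Nat.card L = 2520) ∧ IsSimpleGroup L := by
    rcases he with he | he <;> obtain ⟨e⟩ := he
    · refine ⟨Or.inl ?_, ?_⟩
      · rw [Nat.card_congr e.toEquiv, card6]
      · have := alternatingGroup.isSimpleGroup (α := Fin 6) (by simp)
        exact e.isSimpleGroup
    · refine ⟨Or.inr ?_, ?_⟩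
      · rw [Nat.card_congr e.toEquiv, card7]
      · have := alternatingGroup.isSimpleGroup (α := Fin 7) (by simp)
        exact e.isSimpleGroup
  have hA : A = ⊥ := A_eq_bot htr hL hq hd hcs.1 hcs.2
  have hT : (L.subgroupOf G).Normal := by
    constructor
    intro n hn g
    rw [mem_subgroupOf] at hn ⊢
    exact hL.nor g g.2 n hn
  have hC : centralizer ((L.subgroupOf G : Subgroup G) : Set G) = ⊥ := by
    rw [eq_bot_iff]
    intro x hx
    rw [mem_bot]
    apply Subtype.ext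
    have h1 : (x : V ≃ₗ[ZMod 2] V) ∈ G ⊓ centralizer (L : Set (V ≃ₗ[ZMod 2] V)) := by
      refine mem_inf.2 ⟨x.2, ?_⟩
      rw [mem_centralizer_iff]
      intro l hl
      exact congrArg Subtype.val ((mem_centralizer_iff.1 hx) ⟨l, hL.le hl⟩ (mem_subgroupOf.2 hl))
    rw [hL.centralizer_eq, hA, mem_bot] at h1
    exact h1
  refine ⟨?_, ?_⟩
  · rcases he with he | he <;> obtain ⟨e⟩ := he
    · exact twoGen_a6 hT hC ((subgroupOfEquivOfLe hL.le).trans e)
    · exact twoGen_a7 hT hC ((subgroupOfEquivOfLe hL.le).trans e)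
  · have hsL : Small ↥L V := by
      rcases he with he | he <;> obtain ⟨e⟩ := he
      · exact small_alt L e (a := x6) (b := y6) (by decide +kernel) (by decide +kernel) gen6
      · exact small_alt L e (a := x7) (b := y7) (by decide +kernel) (by decide +kernel) gen7
    refine Cfsg.Agent.H490.Der.small_of_map_normal (inclusion hL.le) (fun _ _ => rfl) ?_ ?_ hsL
    · intro g k
      refine ⟨⟨(g : V ≃ₗ[ZMod 2] V)⁻¹ * k * (g : V ≃ₗ[ZMod 2] V)⁻¹⁻¹, hL.nor _ (inv_mem g.2) k k.2⟩, ?_⟩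
      apply Subtype.ext
      change (k : V ≃ₗ[ZMod 2] V) * g = g * ((g : V ≃ₗ[ZMod 2] V)⁻¹ * k * (g : V ≃ₗ[ZMod 2] V)⁻¹⁻¹)
      group
    · intro v hv
      by_contra hv0
      apply hL.not_le
      intro l hl
      have h1 : l = 1 := by
        ext w
        by_cases hw : w = 0
        · rw [hw]; simp
        obtain ⟨g, hg, rfl⟩ := htr v w hv0 hw
        have h2 : g⁻¹ * l * g⁻¹⁻¹ ∈ L := hL.nor _ (inv_mem hg) l hl
        have h3 : (g⁻¹ * l * g⁻¹⁻¹) v = v := hv ⟨_, h2⟩
        rw [inv_inv] at h3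
        have h4 : g ((g⁻¹ * l * g) v) = g v := by rw [h3]
        have h5 : g ((g⁻¹ * l * g) v) = (g * (g⁻¹ * l * g)) v := rfl
        have h6 : g * (g⁻¹ * l * g) = l * g := by group
        rw [h5, h6] at h4
        exact h4
      rw [h1]
      exact one_mem _

end Cfsg.Agent.H487.Gen.ASixSeven
end

-- part: H487/Gen/SporRows_mg
section
prune_inst 0x211000000140000000000080310020000000009200600001c00000040000834000000900002010121028220000080000011000c0020000000a000000000400000008000000000000000000000084000000000000000000000000000000000004000000000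
set_option linter.all false
open scoped Cfsg.Agent.FastGrp

-- part: H487/Gen/SporRows
section
/-!
# TEAM GEN, piece J: the sporadic rows of `ASRows` (helper487)

The full automorphism groups of `M12`, `M22`, `HS` are 2-generated: for `t = X` (one of the two elements of
helper994) and an outer involution `z` the group is generated by `t` and `z t z`.
-/

set_option autoImplicit false

namespace Cfsg.Agent.H487.Gen.SporRows

open Cfsg Cfsg.Agent.H440.TwoGen Cfsg.Agent.H384.TwoTrans Subgroup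

universe u v

variable {G : Type u} [Group G] {T : Subgroup G}

/-! ### no outer automorphisms -/

theorem m11 (hT : T.Normal) (hC : centralizer (T : Set G) = ⊥) (h : Spor.IsoM11 T) : TwoGen G := by
  have hfin : Finite T := by
    obtain ⟨e⟩ := h
    exact Finite.of_equiv _ e.symm.toEquiv
  refine twoGen_of_inner hT hC (MulEquiv.refl T) (fun φ => ?_) (Cfsg.Agent.H994.TwoGen.M11.twoGen h)
  obtain ⟨g, hg⟩ := Cfsg.Agent.UGT.End.MEleven.inner h φ
  exact ⟨g, hg.symm⟩

theorem m23 (hT : T.Normal) (hC : centralizer (T : Set G) = ⊥) (h : Spor.IsoM23 T) : TwoGen G := by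
  have h2 := Cfsg.Agent.H994.TwoGen.M23.twoGen h
  obtain ⟨e⟩ := h
  refine twoGen_of_inner hT hC e (fun φ => ?_) (TwoGen.of_equiv e h2)
  obtain ⟨g, hg⟩ := Cfsg.Agent.UGT.MTwentyThree.Aut.exists_conj φ
  exact ⟨g, hg.symm⟩

theorem m24 (hT : T.Normal) (hC : centralizer (T : Set G) = ⊥) (h : Spor.IsoM24 T) : TwoGen G := by
  have h2 := Cfsg.Agent.H994.TwoGen.M24.twoGen h
  obtain ⟨e⟩ := h
  refine twoGen_of_inner hT hC e (fun φ => ?_) (TwoGen.of_equiv e h2)
  obtain ⟨g, hg⟩ := Cfsg.Agent.KFacts.M24Two.Out.exists_conj φ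
  exact ⟨g, hg.symm⟩

theorem co3 (hT : T.Normal) (hC : centralizer (T : Set G) = ⊥) (h : Spor.IsoCo3 T) : TwoGen G := by
  have h2 := Cfsg.Agent.H136.Gen2.Co3.twoGen h
  obtain ⟨e⟩ := h
  refine twoGen_of_inner hT hC (MulEquiv.refl T) (fun φ => ?_) h2
  obtain ⟨g, hg⟩ := Cfsg.Agent.KFacts.Co3.Sheet.inner_of
    (e.trans Cfsg.Agent.SporRec.Co3.Model.equivCo3.symm).symm φ
  exact ⟨g, hg.symm⟩

/-! ### `M22` -/

section m22

open Cfsg.Agent.J4Type.Aut22 (D22 mem_D22_iff M22_le_D22 exists_conj)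
open Cfsg.Agent.SporadicA.MathieuRecog (mem_M22_iff)
open Cfsg.Agent.H994.TwoGen.Chain (ew ew_mem)
open Cfsg.Agent.H994.TwoGen.M22 (X Y X_mem Y_mem closure_eq)

/-- table of `x ↦ -1 / x` -/
def tz22 : List ℕ := [23, 22, 11, 15, 17, 9, 19, 13, 20, 5, 16, 2, 21, 7, 18, 3, 10, 4, 14, 6, 8, 12, 1, 0]

/-- `x ↦ -1 / x` -/
def z22 : Equiv.Perm GolayPt where
  toFun := Cfsg.Agent.J4.M24Hom.fn tz22
  invFun := Cfsg.Agent.J4.M24Hom.fn tz22
  left_inv := by unfold Function.LeftInverse; decide +kernel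
  right_inv := by unfold Function.RightInverse Function.LeftInverse; decide +kernel

theorem z22_mem24 : z22 ∈ M24 :=
  SporadicA.GolayWalk.mem_M24_of_table z22 tz22 rfl (by decide +kernel) (by decide +kernel)

theorem z22_none : z22 none = some 0 := by decide +kernel

theorem z22_zero : z22 (some 0) = none := by decide +kernel

theorem z22_mem : z22 ∈ D22 := (mem_D22_iff _).2 ⟨z22_mem24, Or.inr ⟨z22_none, z22_zero⟩⟩

theorem conj22 {q : Equiv.Perm GolayPt} (hq : q ∈ Spor.M22) {z : Equiv.Perm GolayPt} (hz : z ∈ D22) :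
    z * q * z⁻¹ ∈ Spor.M22 := by
  obtain ⟨h1, h2, h3⟩ := (mem_M22_iff q).1 hq
  obtain ⟨h4, h5⟩ := (mem_D22_iff _).1 (inv_mem hz)
  have h6 : ∀ x, z (z⁻¹ x) = x := fun x => by rw [← Equiv.Perm.mul_apply, mul_inv_cancel]; rfl
  refine (mem_M22_iff _).2 ⟨mul_mem (mul_mem ((mem_D22_iff _).1 hz).1 h1) h4, ?_, ?_⟩
  · rcases h5 with ⟨h5, h7⟩ | ⟨h5, h7⟩
    · rw [Equiv.Perm.mul_apply, Equiv.Perm.mul_apply, h5, h2]
      conv_lhs => rw [← h5]
      exact h6 none
    · rw [Equiv.Perm.mul_apply, Equiv.Perm.mul_apply, h5, h3]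
      conv_lhs => rw [← h5]
      exact h6 none
  · rcases h5 with ⟨h5, h7⟩ | ⟨h5, h7⟩
    · rw [Equiv.Perm.mul_apply, Equiv.Perm.mul_apply, h7, h3]
      conv_lhs => rw [← h7]
      exact h6 (some 0)
    · rw [Equiv.Perm.mul_apply, Equiv.Perm.mul_apply, h7, h2]
      conv_lhs => rw [← h7]
      exact h6 (some 0)

theorem Y22 : Y = ew X (z22 * X * z22⁻¹) [1, 2, 2, 2, 1, 0, 0, 0, 3, 0, 0] := by
  refine Equiv.ext fun i => ?_
  revert i
  decide +kernel

theorem gen22 : closure ({X, z22 * X * z22⁻¹} : Set (Equiv.Perm GolayPt)) = Spor.M22 := by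
  apply le_antisymm
  · rw [closure_le]
    rintro z (rfl | hz)
    · exact X_mem
    · rw [Set.mem_singleton_iff] at hz
      subst hz
      exact conj22 X_mem z22_mem
  · rw [← closure_eq, closure_le]
    rintro z (rfl | hz)
    · exact subset_closure (by simp)
    · rw [Set.mem_singleton_iff] at hz
      rw [hz, Y22]
      exact ew_mem _ _ _

theorem m22 (hT : T.Normal) (hC : centralizer (T : Set G) = ⊥) (h : Spor.IsoM22 T) : TwoGen G := by
  obtain ⟨e⟩ := h
  refine twoGen_of_conj hT hC Spor.M22 D22 e exists_conj z22 (fun q => ⟨fun h => conj22 h z22_mem, fun h => ?_⟩) ?_ X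
    X_mem gen22
  · have h1 := conj22 h (inv_mem z22_mem)
    have h2 : z22⁻¹ * (z22 * q * z22⁻¹) * z22⁻¹⁻¹ = q := by group
    rwa [h2] at h1
  · intro p hp
    obtain ⟨h1, h2 | h2⟩ := (mem_D22_iff _).1 hp
    · exact Or.inl ((mem_M22_iff _).2 ⟨h1, h2⟩)
    · refine Or.inr ((mem_M22_iff _).2 ⟨mul_mem z22_mem24 h1, ?_, ?_⟩)
      · rw [Equiv.Perm.mul_apply, h2.1, z22_zero]
      · rw [Equiv.Perm.mul_apply, h2.2, z22_none]

end m22

/-! ### `M12` -/

section m12

open Cfsg.Agent.CoThreeStd.OutAut (pPi alpha)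
open Cfsg.Agent.OddHalf.Table.OutMTwelve (al mem_or_mem)
open Cfsg.Agent.H994.TwoGen.Chain (ew ew_mem)
open Cfsg.Agent.H994.TwoGen.M12 (X Y X_mem Y_mem closure_eq)

theorem Y12 : Y = ew X (pPi * X * pPi⁻¹) [1, 0, 3, 0, 3, 0, 1, 1, 0, 3, 3, 3, 0] := by
  refine Equiv.ext fun i => ?_
  revert i
  decide +kernel

theorem gen12 : closure ({X, pPi * X * pPi⁻¹} : Set (Equiv.Perm GolayPt)) = Spor.M12 := by
  apply le_antisymm
  · rw [closure_le]
    rintro z (rfl | hz)
    · exact X_mem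
    · rw [Set.mem_singleton_iff] at hz
      subst hz
      exact Cfsg.Agent.CoThreeStd.OutAut.alpha_mem ⟨X, X_mem⟩
  · rw [← closure_eq, closure_le]
    rintro z (rfl | hz)
    · exact subset_closure (by simp)
    · rw [Set.mem_singleton_iff] at hz
      rw [hz, Y12]
      exact ew_mem _ _ _

theorem m12 (hT : T.Normal) (hC : centralizer (T : Set G) = ⊥) (h : Spor.IsoM12 T) : TwoGen G := by
  obtain ⟨e⟩ := h
  refine twoGen_of_outer hT hC e al mem_or_mem ⟨X, X_mem⟩ ?_
  apply Subgroup.map_injective Spor.M12.subtype_injective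
  rw [MonoidHom.map_closure, Set.image_pair]
  change closure ({X, pPi * X * pPi⁻¹} : Set (Equiv.Perm GolayPt)) = _
  rw [gen12, ← MonoidHom.range_eq_map, Subgroup.range_subtype]

end m12

/-! ### `HS` -/

section hs

open Cfsg.Agent.SporadicA.PermTab Cfsg.Agent.HN.HS100 Cfsg.Agent.HN.AutBound Cfsg.Agent.HN.AutHS Equiv
open Cfsg.Agent.HSType.Letters Cfsg.Agent.H994.TwoGen.Words

/-- `r` -/
def wX : List ℕ := [10]
/-- `r⁻¹` -/
def wXi : List ℕ := [11]
/-- `Z r Z⁻¹` as a word in the letters -/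
def wY : List ℕ := [0, 5, 10, 8, 9, 7, 1, 11, 9, 11, 9, 11, 4]
/-- the inverse word -/
def wYi : List ℕ := [3, 10, 9, 10, 9, 10, 0, 8, 9, 7, 11, 6, 1]

theorem chk_X : chkOne (wX ++ wXi) = true := by decide +kernel
theorem chk_Y : chkOne (wY ++ wYi) = true := by decide +kernel

theorem chk_Z : allB (fun x => Nat.beq (lk tZ (lk tR x)) (evp wY (lk tZ x))) 100 = true := by decide +kernel

theorem val_Y : Z * pr * Z⁻¹ = val gl wY := by
  rw [mul_inv_eq_iff_eq_mul]
  refine Equiv.ext fun x => Fin.ext ?_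
  rw [Perm.mul_apply, Perm.mul_apply]
  change lk tZ (lk tR x) = ((evw wY (Z x) : Fin 100) : ℕ)
  rw [ev_val]
  exact Nat.eq_of_beq_eq_true ((allB_iff _ _).1 chk_Z x x.2)

/-- the group generated by the two elements -/
def HH : Subgroup (Equiv.Perm (Fin 100)) := Subgroup.closure {val gl wX, val gl wY}

theorem mem {w : List ℕ} {k : ℕ} (h : chkOne (expand wX wY wXi wYi w ++ [k]) = true) : gl k ∈ HH :=
  mem_of_word gl (ev_eq_one chk_X) (ev_eq_one chk_Y) (ev_eq_one h)

theorem mem_0 : gl 0 ∈ HH := mem (w := [1, 0, 0, 3, 3, 3, 0, 3, 3, 2, 3, 2, 2, 2, 1, 0]) (by decide +kernel)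
theorem mem_2 : gl 2 ∈ HH := mem (w := [3, 2, 3, 3, 2, 2, 1, 2, 2, 2, 3, 2, 1, 1, 2, 3, 3, 2]) (by decide +kernel)
theorem mem_3 : gl 3 ∈ HH := mem (w := [1, 1, 0, 3, 3, 2, 3, 3, 2, 3, 2, 2, 1, 0, 3, 3]) (by decide +kernel)
theorem mem_5 : gl 5 ∈ HH := mem (w := [1, 2, 3, 3, 2, 2, 1, 2, 2, 3, 3, 3, 2, 1, 1, 0]) (by decide +kernel)
theorem mem_7 : gl 7 ∈ HH := mem (w := [2, 3, 3, 0, 1, 1, 2, 1, 1, 2, 3, 3, 0, 1, 0]) (by decide +kernel)
theorem mem_9 : gl 9 ∈ HH := mem (w := [2, 1, 0, 1, 0, 3, 0, 1, 2, 1, 2, 2, 1, 2, 3, 2, 3, 0]) (by decide +kernel)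
theorem mem_10 : gl 10 ∈ HH := mem (w := [2]) (by decide +kernel)

theorem P_le' : P ≤ HH := by
  rw [P, Subgroup.closure_le]
  rintro _ (rfl | rfl | rfl | rfl | rfl | rfl | rfl)
  · exact mem_0
  · exact mem_2
  · exact mem_3
  · exact mem_5
  · exact mem_7
  · exact mem_9
  · exact mem_10

theorem HH_le : HH ≤ P := by
  rw [HH, Subgroup.closure_le]
  rintro _ (rfl | rfl)
  · exact ev_mem_P wX (by decide)
  · exact ev_mem_P wY (by decide)

theorem genHS : closure ({pr, Z * pr * Z⁻¹} : Set (Equiv.Perm (Fin 100))) = Q := by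
  have h1 : val gl wX = pr := by
    change ([pr] : List (Perm (Fin 100))).prod = pr
    simp
  rw [val_Y, ← h1]
  exact (le_antisymm HH_le P_le').trans P_eq

theorem Z_inv : Z⁻¹ = Z := rfl

theorem hs (hT : T.Normal) (hC : centralizer (T : Set G) = ⊥) (h : Spor.IsoHS T) : TwoGen G := by
  obtain ⟨e⟩ := h
  obtain ⟨⟨f⟩, -⟩ := nonempty_Q
  have hconj : ∀ q ∈ Q, ∀ z ∈ autG 100 adjA, z * q * z⁻¹ ∈ Q := by
    intro q hq z hz
    obtain ⟨h1, h2⟩ := mem_Q_iff.1 hq
    refine mem_Q_iff.2 ⟨mul_mem (mul_mem hz h1) (inv_mem hz), ?_⟩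
    rw [map_mul, map_mul, h2, map_inv, mul_one, mul_inv_cancel]
  refine twoGen_of_conj hT hC Q (autG 100 adjA) (e.trans f.symm) exists_perm Z
    (fun q => ⟨fun h => hconj q h Z Z_mem, fun h => ?_⟩) ?_ pr pr_mem genHS
  · have h1 := hconj _ h Z⁻¹ (inv_mem Z_mem)
    have h2 : Z⁻¹ * (Z * q * Z⁻¹) * Z⁻¹⁻¹ = q := by group
    rwa [h2] at h1
  · intro p hp
    rcases Int.units_eq_one_or (Perm.sign p) with h1 | h1
    · exact Or.inl (mem_Q_iff.2 ⟨hp, h1⟩)
    · exact Or.inr (mem_Q_iff.2 ⟨mul_mem Z_mem hp, by rw [map_mul, h1, sign_Z]; decide⟩)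

end hs

/-! ### the fields of `ASRows` -/

section rows

universe w

theorem row_m11 : ∀ (G : Type u) (Ω : Type w) [Group G] [MulAction G Ω] (T : Subgroup G), AS G Ω T →
    Cfsg.Spor.IsoM11 T → TwoGen G :=
  fun _ _ _ _ _ A h => m11 A.normal A.cent h

theorem row_m12 : ∀ (G : Type u) (Ω : Type w) [Group G] [MulAction G Ω] (T : Subgroup G), AS G Ω T →
    Cfsg.Spor.IsoM12 T → Nat.card Ω = 12 → TwoGen G :=
  fun _ _ _ _ _ A h _ => m12 A.normal A.cent h

theorem row_m22 : ∀ (G : Type u) (Ω : Type w) [Group G] [MulAction G Ω] (T : Subgroup G), AS G Ω T →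
    Cfsg.Spor.IsoM22 T → Nat.card Ω = 22 → TwoGen G :=
  fun _ _ _ _ _ A h _ => m22 A.normal A.cent h

theorem row_m23 : ∀ (G : Type u) (Ω : Type w) [Group G] [MulAction G Ω] (T : Subgroup G), AS G Ω T →
    Cfsg.Spor.IsoM23 T → Nat.card Ω = 23 → TwoGen G :=
  fun _ _ _ _ _ A h _ => m23 A.normal A.cent h

theorem row_m24 : ∀ (G : Type u) (Ω : Type w) [Group G] [MulAction G Ω] (T : Subgroup G), AS G Ω T →
    Cfsg.Spor.IsoM24 T → Nat.card Ω = 24 → TwoGen G :=
  fun _ _ _ _ _ A h _ => m24 A.normal A.cent h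

theorem row_hs : ∀ (G : Type u) (Ω : Type w) [Group G] [MulAction G Ω] (T : Subgroup G), AS G Ω T →
    Cfsg.Spor.IsoHS T → Nat.card Ω = 176 → TwoGen G :=
  fun _ _ _ _ _ A h _ => hs A.normal A.cent h

theorem row_co3 : ∀ (G : Type u) (Ω : Type w) [Group G] [MulAction G Ω] (T : Subgroup G), AS G Ω T →
    Cfsg.Spor.IsoCo3 T → Nat.card Ω = 276 → TwoGen G :=
  fun _ _ _ _ _ A h _ => co3 A.normal A.cent h

end rows

end Cfsg.Agent.H487.Gen.SporRows
end

-- part: H491/Gen/Cyc
section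
/-!
# Almost simple groups with a cyclic group of field automorphisms: two-generation (helper491)

`main`: `T` is a normal subgroup of `G` with trivial centraliser, `e : T ≃* S`, every automorphism of `S` is inner times
`f σ`, `σ` in the cyclic group `A` of odd order, the torus `d : D → S`, `D` cyclic, is stable under `f σ`, the involution
`w` is fixed by `f σ` and inverts the torus.  If the torus, `w` and the commutator of `u` and a generator of the
torus generate `S` (in the weak form `h1`, `h2`), then `G` is generated by a generator of the torus and `u * w * y`.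
-/

set_option autoImplicit false

namespace Cfsg.Agent.H491.Gen.Cyc

open Subgroup Cfsg.Agent.H440.TwoGen

variable {G : Type*} [Group G] {T : Subgroup G} {S : Type*} [Group S] {A : Type*} [Group A]

/-- `x` acts on `T` as the automorphism `ψ` of `S`. -/
def Act (e : ↥T ≃* S) (x : G) (ψ : MulAut S) : Prop :=
  ∀ s : S, x * e.symm s * x⁻¹ = e.symm (ψ s)

theorem Act.mul {e : ↥T ≃* S} {x y : G} {ψ χ : MulAut S} (h : Act e x ψ) (h' : Act e y χ) :
    Act e (x * y) (ψ * χ) := by
  intro s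
  rw [MulAut.mul_apply, ← h, ← h', mul_inv_rev]
  simp only [mul_assoc]

theorem Act.one (e : ↥T ≃* S) : Act e 1 1 := by
  intro s
  rw [one_mul, inv_one, mul_one]
  rfl

theorem Act.inv {e : ↥T ≃* S} {x : G} {ψ : MulAut S} (h : Act e x ψ) : Act e x⁻¹ ψ⁻¹ := by
  intro s
  have h1 := h (ψ⁻¹ s)
  rw [MulAut.apply_inv_self] at h1
  rw [← h1]
  group

theorem Act.pow {e : ↥T ≃* S} {x : G} {ψ : MulAut S} (h : Act e x ψ) (n : ℕ) : Act e (x ^ n) (ψ ^ n) := by
  induction n with
  | zero => rw [pow_zero, pow_zero]; exact Act.one e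
  | succ n ih => rw [pow_succ, pow_succ]; exact ih.mul h

theorem act_conj (e : ↥T ≃* S) (g : S) : Act e (e.symm g : G) (MulAut.conj g) := by
  intro s
  rw [MulAut.conj_apply, map_mul, map_mul, map_inv]
  rfl

/-- elements acting trivially -/
theorem Act.eq_one (hC : centralizer (T : Set G) = ⊥) {e : ↥T ≃* S} {x : G} (h : Act e x 1) : x = 1 := by
  have h1 : x ∈ centralizer (T : Set G) := by
    rw [mem_centralizer_iff]
    intro y hy
    have h2 := h (e ⟨y, hy⟩)
    rw [MulAut.one_apply, e.symm_apply_apply, mul_inv_eq_iff_eq_mul] at h2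
    exact h2.symm
  rw [hC] at h1
  exact h1

theorem exists_act (hT : T.Normal) (e : ↥T ≃* S) (x : G) : ∃ ψ : MulAut S, Act e x ψ := by
  refine ⟨(e.symm.trans (MulAut.conjNormal (H := T) x)).trans e, ?_⟩
  intro s
  have h1 : e.symm (((e.symm.trans (MulAut.conjNormal (H := T) x)).trans e) s) =
      MulAut.conjNormal (H := T) x (e.symm s) := by
    show e.symm (e (MulAut.conjNormal (H := T) x (e.symm s))) = _
    rw [e.symm_apply_apply]
  rw [h1, MulAut.conjNormal_apply]

/-- A normal subgroup with trivial centraliser and a cyclic group of field automorphisms. -/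
theorem exists_gen (hT : T.Normal) (hC : centralizer (T : Set G) = ⊥) (e : ↥T ≃* S) [IsCyclic A]
    (f : A →* MulAut S) (hform : ∀ ψ : MulAut S, ∃ (g : S) (σ : A), ψ = MulAut.conj g * f σ) :
    ∃ (y : G) (σ : A), Act e y (f σ) ∧ ∀ M : Subgroup G, T ≤ M → y ∈ M → M = ⊤ := by
  -- the group of field automorphisms induced by `G`
  let B : Subgroup A :=
    { carrier := {σ | ∃ x : G, Act e x (f σ)}
      one_mem' := ⟨1, by rw [map_one]; exact Act.one e⟩
      mul_mem' := by
        rintro σ τ ⟨x, hx⟩ ⟨y, hy⟩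
        exact ⟨x * y, by rw [map_mul]; exact hx.mul hy⟩
      inv_mem' := by
        rintro σ ⟨x, hx⟩
        exact ⟨x⁻¹, by rw [map_inv]; exact hx.inv⟩ }
  have hB : IsCyclic ↥B := inferInstance
  obtain ⟨⟨σ, y, hy⟩, hσ⟩ := hB.exists_generator
  refine ⟨y, σ, hy, ?_⟩
  intro M hTM hyM
  rw [eq_top_iff]
  intro x _
  obtain ⟨ψ, hψ⟩ := exists_act hT e x
  obtain ⟨g, τ, hg⟩ := hform ψ
  have h1 : Act e ((e.symm g : G)⁻¹ * x) (f τ) := by
    have h2 := (act_conj e g).inv.mul hψ
    rwa [hg, inv_mul_cancel_left] at h2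
  have hτ : τ ∈ B := ⟨_, h1⟩
  obtain ⟨n, hn⟩ := hσ ⟨τ, hτ⟩
  have hn' : σ ^ n = τ := by
    have := congrArg Subtype.val hn
    simpa using this
  have hyn : Act e (y ^ n) (f τ) := by
    rw [← hn', map_zpow]
    cases n with
    | ofNat n => simpa using hy.pow n
    | negSucc n =>
      rw [zpow_negSucc, zpow_negSucc]
      exact (hy.pow (n + 1)).inv
  have h2 : Act e ((e.symm g : G)⁻¹ * x * (y ^ n)⁻¹) 1 := by
    have h3 := h1.mul hyn.inv
    rwa [mul_inv_cancel] at h3
  have h3 := h2.eq_one hC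
  have h4 : x = (e.symm g : G) * y ^ n := by
    rw [mul_inv_eq_one, inv_mul_eq_iff_eq_mul] at h3
    exact h3
  rw [h4]
  exact M.mul_mem (hTM (e.symm g).2) (M.zpow_mem hyM n)

variable {D : Type*} [Group D]

/-- **Two-generation** -/
theorem main (hT : T.Normal) (hC : centralizer (T : Set G) = ⊥) (e : ↥T ≃* S) [IsCyclic A] [Finite A]
    (hA : Odd (Nat.card A)) (f : A →* MulAut S)
    (hform : ∀ ψ : MulAut S, ∃ (g : S) (σ : A), ψ = MulAut.conj g * f σ)
    (d : D →* S) {κ : D} (hκ : ∀ x : D, x ∈ zpowers κ)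
    (hd : ∀ σ : A, ∃ κ' : D, (∀ x : D, x ∈ zpowers κ') ∧ f σ (d κ) = d κ')
    {w u : S} (hw : ∀ σ, f σ w = w) (hw2 : w * w = 1) (hwd : ∀ x, w * d x * w⁻¹ = (d x)⁻¹)
    (h1 : ∀ M : Subgroup S, (∀ x, d x ∈ M) → ∀ x : D, (∀ z : D, z ∈ zpowers x) →
      u * (d x)⁻¹ * u⁻¹ * d x ∈ M → u ∈ M ∧ (w ∈ M → M = ⊤)) : TwoGen G := by
  obtain ⟨y, σ, hy, hgen⟩ := exists_gen hT hC e f hform
  obtain ⟨κ', hκ', hdκ⟩ := hd σ
  let ι : S →* G := T.subtype.comp e.symm.toMonoidHom
  have hι : ∀ s, ι s = (e.symm s : G) := fun s => rfl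
  have hy' : ∀ s, y * ι s * y⁻¹ = ι (f σ s) := fun s => hy s
  refine ⟨ι (d κ), ι u * (ι w * y), ?_⟩
  set M : Subgroup G := closure {ι (d κ), ι u * (ι w * y)} with hM
  have ha : ι (d κ) ∈ M := subset_closure (by simp)
  have hb : ι u * (ι w * y) ∈ M := subset_closure (by simp)
  let M' : Subgroup S := M.comap ι
  have hM' : ∀ s, s ∈ M' ↔ ι s ∈ M := fun s => Iff.rfl
  have hdM : ∀ x, d x ∈ M' := by
    intro x
    obtain ⟨n, rfl⟩ := hκ x
    rw [hM']
    show ι (d (κ ^ n)) ∈ M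
    rw [map_zpow, map_zpow]
    exact M.zpow_mem ha n
  have hc : u * (d κ')⁻¹ * u⁻¹ * d κ' ∈ M' := by
    have h2 : (ι u * (ι w * y)) * ι (d κ) * (ι u * (ι w * y))⁻¹ * ι (d κ') ∈ M :=
      M.mul_mem (M.mul_mem (M.mul_mem hb ha) (M.inv_mem hb)) (hdM κ')
    have h3 : (ι u * (ι w * y)) * ι (d κ) * (ι u * (ι w * y))⁻¹ * ι (d κ') =
        ι (u * (d κ')⁻¹ * u⁻¹ * d κ') := by
      calc (ι u * (ι w * y)) * ι (d κ) * (ι u * (ι w * y))⁻¹ * ι (d κ')
          = ι u * (ι w * (y * ι (d κ) * y⁻¹) * (ι w)⁻¹) * (ι u)⁻¹ * ι (d κ') := by group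
        _ = ι u * (ι w * ι (d κ') * (ι w)⁻¹) * (ι u)⁻¹ * ι (d κ') := by rw [hy', hdκ]
        _ = ι (u * (w * d κ' * w⁻¹) * u⁻¹ * d κ') := by simp only [map_mul, map_inv]
        _ = ι (u * (d κ')⁻¹ * u⁻¹ * d κ') := by rw [hwd]
    rw [hM', ← h3]
    exact h2
  obtain ⟨hu, hwt⟩ := h1 M' hdM κ' hκ' hc
  have hwy : ι w * y ∈ M := by
    have h3 : (ι u)⁻¹ * (ι u * (ι w * y)) = ι w * y := by group
    rw [← h3]
    exact M.mul_mem (M.inv_mem hu) hb
  -- the odd power of `w y`
  have hcomm : Commute (ι w) y := by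
    have h2 := hy' w
    rw [hw, mul_inv_eq_iff_eq_mul] at h2
    exact h2.symm
  have hord : y ^ orderOf σ = 1 := by
    apply Act.eq_one hC (e := e)
    have h2 := hy.pow (orderOf σ)
    rwa [← map_pow, pow_orderOf_eq_one, map_one] at h2
  have hodd : Odd (orderOf σ) := by
    obtain ⟨c, hc⟩ := orderOf_dvd_natCard σ
    rw [hc] at hA
    exact (Nat.odd_mul.1 hA).1
  have hwM : ι w ∈ M := by
    have h2 := M.pow_mem hwy (orderOf σ)
    rw [hcomm.mul_pow, hord, mul_one] at h2
    obtain ⟨k, hk⟩ := hodd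
    have h3 : (ι w) ^ 2 = 1 := by rw [← map_pow, pow_two, hw2, map_one]
    rwa [hk, pow_succ, pow_mul, h3, one_pow, one_mul] at h2
  have htop := hwt hwM
  have hyM : y ∈ M := by
    have h2 := M.mul_mem (M.inv_mem hwM) hwy
    rwa [inv_mul_cancel_left] at h2
  refine hgen M ?_ hyM
  intro t ht
  have h2 : e ⟨t, ht⟩ ∈ M' := by rw [htop]; exact mem_top _
  rw [hM', hι, e.symm_apply_apply] at h2
  exact h2

end Cfsg.Agent.H491.Gen.Cyc
end

-- part: H491/Gen/Sz
section
/-!
# Two-generation of the almost simple groups with socle `Sz(q)` (helper491)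
-/

set_option autoImplicit false

namespace Cfsg.Agent.H491.Gen.Sz

open Subgroup Cfsg.Agent.H440.TwoGen Cfsg.Agent.ThreePrime.SzRel Cfsg.Agent.LieRecognition.SzMatrix
  Cfsg.Agent.H70.SzOut

variable {J : Type*} [Group J] {F : Type*} [Field F]

/-- `x ↦ x θ(x)` is surjective -/
theorem mul_theta_surj [Finite F] (R : Cfsg.Agent.ThreePrime.SzRel.Rel J F) (e : F) : ∃ a : F, a * R.θ a = e := by
  have hinj : Function.Injective (fun a : F => a * R.θ a) := by
    intro a b h
    simp only at h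
    by_cases hb : b = 0
    · rw [hb, zero_mul] at h
      rcases mul_eq_zero.1 h with h | h
      · rw [h, hb]
      · rw [(map_eq_zero R.θ).1 h, hb]
    · have hb' : R.θ b ≠ 0 := fun h0 => hb ((map_eq_zero R.θ).1 h0)
      set c := a / b with hc
      have h1 : c * R.θ c = 1 := by
        rw [hc, map_div₀, div_mul_div_comm, h, div_self (mul_ne_zero hb hb')]
      have hc0 : c ≠ 0 := by rintro h0; rw [h0, zero_mul] at h1; exact zero_ne_one h1
      have h2 : R.θ c * c ^ 2 = 1 := by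
        rw [← R.sq c, ← map_mul, h1, map_one]
      have h3 : c = 1 := by
        have h4 : c * (c * R.θ c) = 1 := by linear_combination h2
        rwa [h1, mul_one] at h4
      rwa [hc, div_eq_one_iff_eq hb] at h3
  exact (Finite.injective_iff_surjective.1 hinj) e

/-- `x ↦ x² / θ(x)` is surjective on units -/
theorem ratio_surj [Finite F] (R : Cfsg.Agent.ThreePrime.SzRel.Rel J F) {x : F} (hx : x ≠ 0) :
    ∃ k : Fˣ, (k : F) ^ 2 * (R.θ k)⁻¹ = x := by
  obtain ⟨a, ha⟩ := (Finite.injective_iff_surjective.1 R.θ.injective) x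
  have ha0 : a ≠ 0 := by rintro rfl; rw [map_zero] at ha; exact hx ha.symm
  refine ⟨Units.mk0 (R.θ a) (fun h => ha0 ((map_eq_zero R.θ).1 h)) * Units.mk0 a ha0, ?_⟩
  have h1 : R.θ a ≠ 0 := fun h => ha0 ((map_eq_zero R.θ).1 h)
  rw [Units.val_mul, Units.val_mk0, Units.val_mk0, map_mul, R.sq, ← ha]
  field_simp

/-- The generation lemma. -/
theorem gen [Finite F] (R : Cfsg.Agent.ThreePrime.SzRel.Rel J F) (M : Subgroup J) (hM : ∀ k, R.d k ∈ M) {k : Fˣ} (hk : k ≠ 1)
    (h : R.u 1 0 * (R.d k)⁻¹ * (R.u 1 0)⁻¹ * R.d k ∈ M) : R.u 1 0 ∈ M ∧ (R.w ∈ M → M = ⊤) := by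
  -- a unipotent element with nonzero first coordinate
  obtain ⟨c, d, hc, hcd⟩ : ∃ c d : F, c ≠ 0 ∧ R.u c d ∈ M := by
    have h1 : R.u 1 0 * (R.d k)⁻¹ * (R.u 1 0)⁻¹ * R.d k =
        R.u 1 0 * (R.d k⁻¹ * (R.u 1 0)⁻¹ * (R.d k⁻¹)⁻¹) := by
      rw [R.d_inv, R.d_inv, inv_inv]
      group
    rw [h1, R.u_inv, R.conj_d, R.u_mul] at h
    refine ⟨_, _, ?_, h⟩
    intro h0
    have h2 : ((k⁻¹ : Fˣ) : F) ^ 2 * (R.θ ((k⁻¹ : Fˣ) : F))⁻¹ = 1 := by
      have h3 := R.add_self (1 : F)
      have h4 : (1 : F) * ((k⁻¹ : Fˣ) : F) ^ 2 * (R.θ ((k⁻¹ : Fˣ) : F))⁻¹ = 1 :=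
        add_left_cancel (h0.trans h3.symm)
      rwa [one_mul] at h4
    have h5 : R.θ ((k⁻¹ : Fˣ) : F) = ((k⁻¹ : Fˣ) : F) ^ 2 := by
      have h6 := R.theta_ne_zero k⁻¹
      field_simp at h2
      exact h2.symm
    have h7 : ((k⁻¹ : Fˣ) : F) ^ 4 = ((k⁻¹ : Fˣ) : F) ^ 2 := by
      have h8 := R.sq ((k⁻¹ : Fˣ) : F)
      rw [h5, map_pow, h5] at h8
      apply mul_left_cancel₀ (pow_ne_zero 2 ((k⁻¹).ne_zero))
      have h8' : (((k⁻¹ : Fˣ) : F) ^ 2) ^ 2 = ((k⁻¹ : Fˣ) : F) ^ 2 := h8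
      linear_combination ((k⁻¹ : Fˣ) : F) ^ 2 * h8'
    have h9 : ((k⁻¹ : Fˣ) : F) ^ 2 = 1 := by
      have h10 : ((k⁻¹ : Fˣ) : F) ≠ 0 := (k⁻¹).ne_zero
      apply mul_left_cancel₀ (pow_ne_zero 2 h10)
      linear_combination h7
    rw [h9] at h5
    have h11 : ((k⁻¹ : Fˣ) : F) = 1 := R.θ.injective (by rw [h5, map_one])
    apply hk
    rw [← inv_inv k, show k⁻¹ = 1 from Units.ext (h11.trans Units.val_one.symm), inv_one]
  have hconj : ∀ (l : Fˣ) (c d : F), R.u c d ∈ M → R.u (c * l ^ 2 * (R.θ l)⁻¹) (d * R.θ l) ∈ M := by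
    intro l c d h
    rw [← R.conj_d]
    exact M.mul_mem (M.mul_mem (hM l) h) (M.inv_mem (hM l))
  have h1 : ∀ a : F, ∃ b : F, R.u a b ∈ M := by
    intro a
    by_cases ha0 : a = 0
    · exact ⟨0, by rw [ha0, R.u_zero]; exact M.one_mem⟩
    · obtain ⟨l, hl⟩ := ratio_surj R (div_ne_zero ha0 hc)
      have := hconj l c d hcd
      rw [mul_assoc, hl, mul_div_cancel₀ a hc] at this
      exact ⟨_, this⟩
  have h2 : ∀ e : F, R.u 0 e ∈ M := by
    intro e
    obtain ⟨a, rfl⟩ := mul_theta_surj R e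
    obtain ⟨b, hb⟩ := h1 a
    have h3 := M.mul_mem hb hb
    rw [R.u_mul_self] at h3
    exact h3
  have h3 : ∀ a b : F, R.u a b ∈ M := by
    intro a b
    obtain ⟨b', hb'⟩ := h1 a
    have h4 := M.mul_mem hb' (h2 (b - b'))
    rw [R.u_mul] at h4
    simpa using h4
  refine ⟨h3 1 0, fun hw => ?_⟩
  rw [eq_top_iff]
  intro g _
  rcases R.bruhat g with ⟨a, b, l, rfl⟩ | ⟨a, b, c, e, l, rfl⟩
  · exact M.mul_mem (h3 a b) (hM l)
  · exact M.mul_mem (M.mul_mem (h3 a b) hw) (M.mul_mem (h3 c e) (hM l))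

theorem mapUnits_generator {A : Type*} [Group A] {B : Type*} [Group B] (f : A ≃* B) {x : A}
    (hx : ∀ z : A, z ∈ zpowers x) (z : B) : z ∈ zpowers (f x) := by
  obtain ⟨n, hn⟩ := hx (f.symm z)
  refine ⟨n, ?_⟩
  show f x ^ n = z
  rw [← map_zpow]
  have : x ^ n = f.symm z := hn
  rw [this, f.apply_symm_apply]

/-- **Two-generation, socle `Sz(q)`.** -/
theorem twoGen {G : Type*} [Group G] {T : Subgroup G} (hT : T.Normal) (hC : centralizer (T : Set G) = ⊥)
    [Fintype F] {m : ℕ} (hm : 1 ≤ m) (hF : Fintype.card F = 2 ^ (2 * m + 1))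
    (e : ↥T ≃* ↥(Cfsg.Lie.Sz F (2 ^ (m + 1)))) : TwoGen G := by
  obtain ⟨κ, hκ⟩ := IsCyclic.exists_generator (α := Fˣ)
  have hp2 : Fact (Nat.Prime 2) := ⟨Nat.prime_two⟩
  have hcF : CharP F 2 := by
    obtain ⟨q, hq⟩ := CharP.exists F
    obtain ⟨k, hqp, hk⟩ := FiniteField.card F q
    have h1 : q ∣ 2 ^ (2 * m + 1) := by rw [← hF, hk]; exact dvd_pow_self q k.pos.ne'
    rwa [← (Nat.prime_dvd_prime_iff_eq hqp Nat.prime_two).1 (hqp.dvd_of_dvd_pow h1)]
  have hfin : Finite (F ≃+* F) := Finite.of_injective (fun f : F ≃+* F => (f : F → F)) DFunLike.coe_injective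
  have hcard : Nat.card (F ≃+* F) = 2 * m + 1 := Cfsg.Agent.Lib.FieldAutCard.card_ringAut (by omega) hF
  obtain ⟨τ, hτ⟩ := Cfsg.Agent.H967.CopMat.exists_ringAut 2 (2 * m + 1) hF
  have hcyc : IsCyclic (F ≃+* F) := isCyclic_of_orderOf_eq_card τ (by rw [hτ, hcard])
  set R := ofGood (good hF) with hR
  have hne : ∀ x : Fˣ, (∀ z : Fˣ, z ∈ zpowers x) → x ≠ 1 := by
    rintro x hx rfl
    have h1 : Nat.card Fˣ = 1 := by
      rw [Nat.card_eq_one_iff_unique]
      refine ⟨⟨fun a b => ?_⟩, ⟨1⟩⟩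
      obtain ⟨i, rfl⟩ := hx a
      obtain ⟨j, rfl⟩ := hx b
      simp
    rw [Nat.card_units, Nat.card_eq_fintype_card, hF] at h1
    have : 2 ^ 3 ≤ 2 ^ (2 * m + 1) := Nat.pow_le_pow_right (by norm_num) (by omega)
    omega
  refine Cyc.main (A := F ≃+* F) (D := Fˣ) hT hC e (by rw [hcard]; exact ⟨m, rfl⟩) (fieldAut (good hF))
    (Cfsg.Agent.H70.SzAutThm.exists_conj_field hm hF) ⟨⟨R.d, R.d_one⟩, fun x y => (R.d_mul x y).symm⟩ hκ ?_
    (w := R.w) (u := R.u 1 0) (fun σ => fieldAut_w (good hF) σ) R.w_mul_w ?_ ?_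
  · intro σ
    refine ⟨Units.mapEquiv σ.toMulEquiv κ, mapUnits_generator _ hκ, fieldAut_d (good hF) σ κ⟩
  · intro x
    show R.w * R.d x * R.w⁻¹ = (R.d x)⁻¹
    rw [R.w_mul_d, mul_inv_cancel_right, R.d_inv]
  · intro M hM x hx h
    exact gen R M hM (hne x hx) h

end Cfsg.Agent.H491.Gen.Sz
end

-- part: H491/Gen/Ree
section
/-!
# Two-generation of the almost simple groups with socle `²G₂(q)` (helper491)
-/

set_option autoImplicit false

namespace Cfsg.Agent.H491.Gen.Ree

open Subgroup Cfsg.Agent.H440.TwoGen Cfsg.Agent.LieRecognition Cfsg.Agent.ChevalleyStructure.Ree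
  Cfsg.Agent.ChevalleyStructure.Ree.Normal Cfsg.Lie

variable {J : Type*} [Group J] {K : Type*} [Field K]

/-- The generation lemma. -/
theorem gen [Fintype K] {m : ℕ} (hm : 1 ≤ m) (hK : Fintype.card K = 3 ^ (2 * m + 1)) {U : K → K → K → J}
    {h : Kˣ → J} {n : J} (D : ReeAbs.Data m U h n) (M : Subgroup J) (hM : ∀ k, h k ∈ M) {k : Kˣ} (hk : k ≠ 1)
    (hh : U 1 0 0 * (h k)⁻¹ * (U 1 0 0)⁻¹ * h k ∈ M) : U 1 0 0 ∈ M ∧ (n ∈ M → M = ⊤) := by
  have hch : CharP K 3 := ReeAbs.charP_three hK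
  have hp3 : Fact (Nat.Prime 3) := ⟨Nat.prime_three⟩
  have hcard : 3 < Fintype.card K := by
    rw [hK]
    calc 3 = 3 ^ 1 := rfl
      _ < 3 ^ (2 * m + 1) := Nat.pow_lt_pow_right (by decide) (by omega)
  obtain ⟨γ, hγ⟩ := Perfect.exists_unit_sq_ne_one hcard
  have h3' : (3 : K) = 0 := by exact_mod_cast CharP.cast_eq_zero K 3
  -- the field endomorphism
  set θ : K →+* K := iterateFrobenius K 3 (m + 1) with hθ
  have hθd : ∀ x : K, x ^ 3 ^ (m + 1) = θ x := fun x => rfl
  have hθθ : ∀ x : K, θ (θ x) = x ^ 3 := by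
    intro x
    rw [← hθd, ← hθd, ← pow_mul, ← pow_add, show m + 1 + (m + 1) = (2 * m + 1) + 1 by ring, pow_succ, ← hK, pow_mul,
      FiniteField.pow_card]
  have hθs : ∀ x : K, x ≠ 0 → ∃ l : Kˣ, θ (l : K) = x := by
    intro x hx
    obtain ⟨y, hy⟩ := (Finite.injective_iff_surjective.1 θ.injective) x
    have hy0 : y ≠ 0 := by rintro rfl; rw [map_zero] at hy; exact hx hy.symm
    exact ⟨Units.mk0 y hy0, hy⟩
  have U_mul : ∀ t u v t' u' v', U t u v * U t' u' v' =
      U (t + t') (u + u' - t * θ t') (v + v' - u * t' - t ^ 2 * θ t' + t * t' * θ t') := D.U_mul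
  have hU0 : U 0 0 0 = 1 := by
    have h1 := U_mul 0 0 0 0 0 0
    simp only [map_zero, mul_zero, sub_zero, add_zero] at h1
    exact mul_eq_left.mp h1
  have h_one : h 1 = 1 := by
    have h1 := D.h_mul 1 1
    rw [mul_one] at h1
    exact mul_eq_left.mp h1.symm
  have h_inv : ∀ a, (h a)⁻¹ = h a⁻¹ := by
    intro a
    rw [inv_eq_iff_mul_eq_one, ← D.h_mul, mul_inv_cancel, h_one]
  have h_conj : ∀ (l : Kˣ) (t u v : K), h l * U t u v * (h l)⁻¹ =
      U (θ l * t) (θ l * (l : K) ^ 3 * u) ((θ l) ^ 2 * (l : K) ^ 3 * v) := by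
    intro l t u v
    have e1 : (l : K) ^ (3 ^ (m + 1) + 3) = θ l * (l : K) ^ 3 := by
      rw [pow_add (l : K) (3 ^ (m + 1)) 3, hθd]
    have e2 : (l : K) ^ (2 * 3 ^ (m + 1) + 3) = (θ l) ^ 2 * (l : K) ^ 3 := by
      rw [pow_add (l : K) (2 * 3 ^ (m + 1)) 3, mul_comm 2, pow_mul, hθd]
    rw [D.h_U, mul_inv_cancel_right, e1, e2, hθd]
  have hconj : ∀ (l : Kˣ) (t u v : K), U t u v ∈ M →
      U (θ l * t) (θ l * (l : K) ^ 3 * u) ((θ l) ^ 2 * (l : K) ^ 3 * v) ∈ M := by
    intro l t u v h1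
    rw [← h_conj]
    exact M.mul_mem (M.mul_mem (hM l) h1) (M.inv_mem (hM l))
  -- inverse
  have hinv : ∀ t u v : K, ∃ u' v', (U t u v)⁻¹ = U (-t) u' v' := by
    intro t u v
    refine ⟨-u + t * θ (-t), -(v - u * (-t) - t ^ 2 * θ (-t) + t * (-t) * θ (-t)), ?_⟩
    rw [inv_eq_iff_mul_eq_one, U_mul, ← hU0]
    congr 1 <;> ring
  -- a unipotent element with nonzero first coordinate
  obtain ⟨c, c2, c3, hc, hcM⟩ : ∃ c c2 c3 : K, c ≠ 0 ∧ U c c2 c3 ∈ M := by
    have h2 : U 1 0 0 * (h k)⁻¹ * (U 1 0 0)⁻¹ * h k = U 1 0 0 * (h k⁻¹ * (U 1 0 0)⁻¹ * (h k⁻¹)⁻¹) := by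
      rw [h_inv, h_inv, inv_inv]
      group
    obtain ⟨u', v', h5⟩ := hinv 1 0 0
    rw [h2, h5, h_conj, U_mul] at hh
    refine ⟨_, _, _, ?_, hh⟩
    intro h0
    have h6 : θ ((k⁻¹ : Kˣ) : K) = 1 := by linear_combination -h0
    have h7 : ((k⁻¹ : Kˣ) : K) = 1 := θ.injective (by rw [h6, map_one])
    apply hk
    rw [← inv_inv k, show k⁻¹ = 1 from Units.ext (h7.trans Units.val_one.symm), inv_one]
  -- all first coordinates
  have s1 : ∀ t : K, ∃ u v : K, U t u v ∈ M := by
    intro t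
    by_cases ht : t = 0
    · exact ⟨0, 0, by rw [ht, hU0]; exact M.one_mem⟩
    · obtain ⟨l, hl⟩ := hθs (t / c) (div_ne_zero ht hc)
      have h1 := hconj l c c2 c3 hcM
      rw [hl, div_mul_cancel₀ t hc] at h1
      exact ⟨_, _, h1⟩
  -- commutators: second coordinates
  have key : ∀ t u v t1 u1 v1 : K, U t u v ∈ M → U t1 u1 v1 ∈ M →
      ∃ w, U 0 (t1 * θ t - t * θ t1) w ∈ M := by
    intro t u v t1 u1 v1 h1 h2
    have h3 : U t u v * U t1 u1 v1 =
        U t1 u1 v1 * U t u v * U 0 (t1 * θ t - t * θ t1)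
          ((v + v1 - u * t1 - t ^ 2 * θ t1 + t * t1 * θ t1) -
            (v1 + v - u1 * t - t1 ^ 2 * θ t + t1 * t * θ t)) := by
      rw [U_mul, U_mul, U_mul, map_zero]
      congr 1 <;> ring
    have h4 := M.mul_mem (M.inv_mem (M.mul_mem h2 h1)) (M.mul_mem h1 h2)
    rw [h3, inv_mul_cancel_left] at h4
    exact ⟨_, h4⟩
  -- there is a nonzero one
  obtain ⟨d, d2, hd, hdM⟩ : ∃ d d2 : K, d ≠ 0 ∧ U 0 d d2 ∈ M := by
    obtain ⟨u, v, h1⟩ := s1 1
    obtain ⟨u1, v1, h2⟩ := s1 (γ : K)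
    obtain ⟨w, hw⟩ := key _ _ _ _ _ _ h1 h2
    refine ⟨_, w, ?_, hw⟩
    intro h0
    rw [map_one, mul_one, one_mul, sub_eq_zero] at h0
    -- γ = θ γ, so γ = γ^3
    have h5 : (γ : K) ^ 3 = γ := by
      have h6 := hθθ (γ : K)
      rw [← h0, ← h0] at h6
      exact h6.symm
    apply hγ
    apply Units.ext
    have h7 : (γ : K) ≠ 0 := γ.ne_zero
    apply mul_left_cancel₀ h7
    rw [Units.val_pow_eq_pow_val, Units.val_one, mul_one, ← pow_succ']
    exact h5
  -- squares
  have hsq : ∀ (b u w : K), U 0 u w ∈ M → ∃ w', U 0 (b ^ 2 * u) w' ∈ M := by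
    intro b u w hu
    by_cases hb0 : b = 0
    · refine ⟨0, ?_⟩
      rw [hb0, zero_pow (by norm_num), zero_mul, hU0]
      exact M.one_mem
    · -- `l` with `θ l = θ b / b`
      have hθb : θ b ≠ 0 := fun h0 => hb0 ((map_eq_zero θ).1 h0)
      obtain ⟨l, hl⟩ := hθs (θ b / b) (div_ne_zero hθb hb0)
      have h2 : (l : K) ^ 3 = b ^ 3 / θ b := by
        rw [← hθθ, hl, map_div₀, hθθ]
      have h3 : θ l * (l : K) ^ 3 = b ^ 2 := by
        rw [hl, h2]
        field_simp
      have h4 := hconj l 0 u w hu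
      rw [mul_zero, h3] at h4
      exact ⟨_, h4⟩
  have U0 : ∀ u v u' v' : K, U 0 u v * U 0 u' v' = U 0 (u + u') (v + v') := by
    intro u v u' v'
    rw [U_mul, map_zero]
    congr 1 <;> ring
  have s2 : ∀ u : K, ∃ v, U 0 u v ∈ M := by
    intro u
    -- `u / d = x = (x+1)^2 - (x-1)^2` in characteristic 3
    set x := u / d with hx
    have hxd : x * d = u := div_mul_cancel₀ u hd
    obtain ⟨w1, h1⟩ := hsq (x + 1) d d2 hdM
    obtain ⟨w2, h2⟩ := hsq (x - 1) d d2 hdM
    have h4 := M.mul_mem h1 (M.inv_mem h2)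
    have h5 : (U 0 ((x - 1) ^ 2 * d) w2)⁻¹ = U 0 (-((x - 1) ^ 2 * d)) (-w2) := by
      rw [inv_eq_iff_mul_eq_one, U0, add_neg_cancel, add_neg_cancel, hU0]
    rw [h5, U0] at h4
    have h6 : (x + 1) ^ 2 * d + -((x - 1) ^ 2 * d) = u := by
      linear_combination x * d * h3' + hxd
    rw [h6] at h4
    exact ⟨_, h4⟩
  have s3 : ∀ v : K, U 0 0 v ∈ M := by
    intro v
    obtain ⟨u1, v1, h1⟩ := s1 1
    obtain ⟨v2, h2⟩ := s2 v
    have h4 : U 1 u1 v1 * U 0 v v2 = U 0 v v2 * U 1 u1 v1 * U 0 0 v := by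
      rw [U_mul, U_mul, U_mul, map_zero, map_one]
      congr 1 <;> ring
    have h5 := M.mul_mem (M.inv_mem (M.mul_mem h2 h1)) (M.mul_mem h1 h2)
    rwa [h4, inv_mul_cancel_left] at h5
  have sAll : ∀ t u v : K, U t u v ∈ M := by
    intro t u v
    obtain ⟨u1, v1, h1⟩ := s1 t
    obtain ⟨v2, h2⟩ := s2 (u - u1)
    have h4 := M.mul_mem (M.mul_mem h1 h2) (s3 (v - v1 - v2))
    rw [U_mul, U_mul, map_zero] at h4
    have e1 : t + 0 + 0 = t := by ring
    have e2 : u1 + (u - u1) - t * 0 + 0 - (t + 0) * 0 = u := by ring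
    have e3 : v1 + v2 - u1 * 0 - t ^ 2 * 0 + t * 0 * 0 + (v - v1 - v2) -
        (u1 + (u - u1) - t * 0) * 0 - (t + 0) ^ 2 * 0 + (t + 0) * 0 * 0 = v := by ring
    rwa [e1, e2, e3] at h4
  refine ⟨sAll _ _ _, fun hn => ?_⟩
  rw [eq_top_iff]
  intro g _
  rcases D.bruhat g with ⟨t, u, v, a, rfl⟩ | ⟨t, u, v, a, t', u', v', rfl⟩
  · exact M.mul_mem (sAll _ _ _) (hM _)
  · exact M.mul_mem (M.mul_mem (M.mul_mem (sAll _ _ _) (hM _)) hn) (sAll _ _ _)

/-- **Two-generation, socle `²G₂(q)`.** -/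
theorem twoGen {G : Type*} [Group G] {T : Subgroup G} (hT : T.Normal) (hC : centralizer (T : Set G) = ⊥)
    [Fintype K] {m : ℕ} (hm : 1 ≤ m) (hK : Fintype.card K = 3 ^ (2 * m + 1))
    (e : ↥T ≃* ↥(twistedG2 K (3 ^ m))) : TwoGen G := by
  obtain ⟨κ, hκ⟩ := IsCyclic.exists_generator (α := Kˣ)
  have hp3 : Fact (Nat.Prime 3) := ⟨Nat.prime_three⟩
  have hch : CharP K 3 := ReeAbs.charP_three hK
  have hfin : Finite (K ≃+* K) := Finite.of_injective (fun f : K ≃+* K => (f : K → K)) DFunLike.coe_injective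
  have hcard : Nat.card (K ≃+* K) = 2 * m + 1 := Cfsg.Agent.Lib.FieldAutCard.card_ringAut (by omega) hK
  obtain ⟨τ, hτ⟩ := Cfsg.Agent.H967.CopMat.exists_ringAut 3 (2 * m + 1) hK
  have hcyc : IsCyclic (K ≃+* K) := isCyclic_of_orderOf_eq_card τ (by rw [hτ, hcard])
  obtain ⟨θ, c⟩ := exists_ctx hK
  have D := Data.data c
  have R := Cfsg.Agent.H71.FldAut.reeFld c
  have hne : ∀ x : Kˣ, (∀ z : Kˣ, z ∈ zpowers x) → x ≠ 1 := by
    rintro x hx rfl
    have h1 : Nat.card Kˣ = 1 := by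
      rw [Nat.card_eq_one_iff_unique]
      refine ⟨⟨fun a b => ?_⟩, ⟨1⟩⟩
      obtain ⟨i, rfl⟩ := hx a
      obtain ⟨j, rfl⟩ := hx b
      simp
    rw [Nat.card_units, Nat.card_eq_fintype_card, hK] at h1
    have : 3 ^ 3 ≤ 3 ^ (2 * m + 1) := Nat.pow_le_pow_right (by norm_num) (by omega)
    omega
  let f : (K ≃+* K) →* MulAut ↥(twistedG2 K (3 ^ m)) :=
    { toFun := fun σ => S2127.fld σ (3 ^ m)
      map_one' := by
        have h1 := Cfsg.Agent.H71.FldAut.fldG_mul (1 : K ≃+* K) 1 (3 ^ m)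
        rw [mul_one] at h1
        exact mul_eq_left.mp h1.symm
      map_mul' := fun σ ρ => Cfsg.Agent.H71.FldAut.fldG_mul σ ρ (3 ^ m) }
  have h_one : Data.T c 1 = 1 := by
    have h1 := D.h_mul 1 1
    rw [mul_one] at h1
    exact mul_eq_left.mp h1.symm
  refine Cyc.main (A := K ≃+* K) (D := Kˣ) hT hC e (by rw [hcard]; exact ⟨m, rfl⟩) f
    (Cfsg.Agent.H71.FldAut.ree_aut hm hK) ⟨⟨Data.T c, h_one⟩, fun x y => D.h_mul x y⟩ hκ ?_
    (w := Data.N c) (u := Data.U K (3 ^ m) 1 0 0) (fun σ => R.onN σ) D.n_n ?_ ?_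
  · intro σ
    exact ⟨Units.mapEquiv σ.toMulEquiv κ, Sz.mapUnits_generator _ hκ, R.onH σ κ⟩
  · intro x
    show Data.N c * Data.T c x * (Data.N c)⁻¹ = (Data.T c x)⁻¹
    rw [D.n_h, mul_inv_cancel_right, eq_comm, inv_eq_iff_mul_eq_one, ← D.h_mul, mul_inv_cancel, h_one]
  · intro M hM x hx h
    exact gen hm hK D M hM (hne x hx) h

end Cfsg.Agent.H491.Gen.Ree
end

-- part: H491/Gen/Rows
section
/-!
# `ASRows.sz`, `ASRows.ree` (helper491, TEAM GEN)
-/

set_option autoImplicit false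

namespace Cfsg.Agent.H491.Gen

open Cfsg.Agent.H440.TwoGen Cfsg.Agent.H384.TwoTrans

universe u v

theorem sz : ∀ (G : Type u) (Ω : Type v) [Group G] [MulAction G Ω] (T : Subgroup G), AS G Ω T →
    ∀ (F : Type) [Field F] [Fintype F] (m : ℕ), 1 ≤ m → Fintype.card F = 2 ^ (2 * m + 1) →
      Nonempty (↥T ≃* ↥(Cfsg.Lie.Sz F (2 ^ (m + 1)))) → TwoGen G := by
  intro G Ω _ _ T A F _ _ m hm hF e
  exact e.elim (Sz.twoGen A.normal A.cent hm hF)

theorem ree : ∀ (G : Type u) (Ω : Type v) [Group G] [MulAction G Ω] (T : Subgroup G), AS G Ω T →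
    ∀ (K : Type) [Field K] [Fintype K] (m : ℕ), 1 ≤ m → Fintype.card K = 3 ^ (2 * m + 1) →
      Nonempty (↥T ≃* ↥(Cfsg.Lie.twistedG2 K (3 ^ m))) → TwoGen G := by
  intro G Ω _ _ T A K _ _ m hm hK e
  exact e.elim (Ree.twoGen A.normal A.cent hm hK)

end Cfsg.Agent.H491.Gen
end

private theorem dce_16422a3857af : _root_.True := by
  try have : _root_.True := by simp only [_root_.Cfsg.Agent.H487.Gen.SporRows.HH.eq_1]
  exact _root_.True.intro
end

-- part: H487/Gen/Alt
section
set_option linter.all false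
open scoped Cfsg.Agent.FastGrp

/-!
# TEAM GEN: `ASRows.alt` (helper487)

Groups `G` with a normal subgroup `T ≅ A_n`, `C_G(T) = 1`, `n ≥ 5`, are 2-generated.
-/

set_option autoImplicit false

namespace Cfsg.Agent.H487.Gen.AltRow

open Cfsg.Agent.H440.TwoGen Cfsg.Agent.H891.Gen Subgroup Equiv

universe u v

theorem twoGen_perm (n : ℕ) (hn : 2 ≤ n) : TwoGen (Perm (Fin n)) := by
  obtain ⟨m, rfl⟩ : ∃ m, n = m + 2 := ⟨n - 2, by omega⟩
  refine ⟨finRotate (m + 2), Equiv.swap 0 (finRotate (m + 2) 0), ?_⟩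
  exact Perm.closure_cycle_adjacent_swap isCycle_finRotate support_finRotate 0

/-- the subgroups of `Aut A_n` containing the inner automorphisms, `n ≠ 6` -/
theorem twoGen_sub (n : ℕ) (hn : 5 ≤ n) (h6 : n ≠ 6) (S : Subgroup (MulAut ↥(alternatingGroup (Fin n))))
    (hS : (MulAut.conj : ↥(alternatingGroup (Fin n)) →* MulAut ↥(alternatingGroup (Fin n))).range ≤ S) :
    TwoGen ↥S := by
  let f : Perm (Fin n) ≃* MulAut ↥(alternatingGroup (Fin n)) :=
    MulEquiv.ofBijective MulAut.conjNormal (Cfsg.Agent.S2119.result n (by omega) h6)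
  have hA : alternatingGroup (Fin n) ≤ S.comap (f : Perm (Fin n) →* MulAut ↥(alternatingGroup (Fin n))) := by
    intro x hx
    rw [mem_comap]
    have h1 : (f : Perm (Fin n) →* MulAut ↥(alternatingGroup (Fin n))) x = MulAut.conj ⟨x, hx⟩ := by
      ext y
      rfl
    rw [h1]
    exact hS ⟨_, rfl⟩
  have hnt : Nontrivial (Fin n) := Fin.nontrivial_iff_two_le.2 (by omega)
  have key : TwoGen ↥(S.comap (f : Perm (Fin n) →* MulAut ↥(alternatingGroup (Fin n)))) := by
    have h2 : (S.comap (f : Perm (Fin n) →* MulAut ↥(alternatingGroup (Fin n)))).index ∣ 2 := by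
      have h3 := index_dvd_of_le hA
      rwa [alternatingGroup.index_eq_two] at h3
    rcases (Nat.dvd_prime Nat.prime_two).1 h2 with h3 | h3
    · rw [index_eq_one] at h3
      rw [h3]
      exact TwoGen.of_equiv Subgroup.topEquiv.symm (twoGen_perm n (by omega))
    · rw [Perm.eq_alternatingGroup_of_index_eq_two h3]
      exact Alt.twoGen_fin hn
  have e : ↥(S.comap (f : Perm (Fin n) →* MulAut ↥(alternatingGroup (Fin n)))) ≃* ↥S :=
    (f.subgroupMap _).trans (MulEquiv.subgroupCongr (map_comap_eq_self_of_surjective f.surjective S))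
  exact TwoGen.of_equiv e key

theorem twoGen_alt {G : Type u} [Group G] {T : Subgroup G} (hT : T.Normal) (hC : centralizer (T : Set G) = ⊥)
    (n : ℕ) (hn : 5 ≤ n) (e : T ≃* alternatingGroup (Fin n)) : TwoGen G := by
  by_cases h6 : n = 6
  · subst h6
    exact ASixSeven.twoGen_a6 hT hC e
  · exact Cfsg.Agent.H791.Gen.twoGen_of_aut T hC e fun S hS => twoGen_sub n hn h6 S hS

/-- **the field `ASRows.alt`** -/
theorem alt_row (G : Type u) (Ω : Type v) [Group G] [MulAction G Ω] (T : Subgroup G)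
    (A : Cfsg.Agent.H384.TwoTrans.AS G Ω T) (n : ℕ) (hn : 5 ≤ n) (e : Nonempty (↥T ≃* ↥(alternatingGroup (Fin n)))) :
    TwoGen G := by
  obtain ⟨e⟩ := e
  exact twoGen_alt A.normal A.cent n hn e

end Cfsg.Agent.H487.Gen.AltRow
end

-- part: H490/Der3
section
set_option linter.all false
open scoped Cfsg.Agent.FastGrp

-- part: H490/Der2
section
/-!
# TEAM GEN: few derivations for Steinberg pairs (helper490)

`H = ⟨h, y⟩`, `h` of order prime to `p`, `x = [h, y h y⁻¹]` with a nonzero norm (`p = 2`: `x` an involution which acts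
nontrivially).  Then there are fewer than `|V| ^ 2` derivations: `small_of_steinberg`, `small_of_steinberg_two`.
-/

set_option autoImplicit false

namespace Cfsg.Agent.H490.Der

open Cfsg.Agent.H440.TwoGen Cfsg.Agent.H891.Gen Subgroup

variable {H V : Type*} [Group H] [AddCommGroup V] [DistribMulAction H V]

/-- `g - 1` is surjective when `g` has no nonzero fixed vector -/
theorem exists_sub [Finite V] {g : H} (hg : ∀ v : V, g • v = v → v = 0) (w : V) : ∃ u : V, g • u - u = w := by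
  have hinj : Function.Injective (fun u : V => g • u - u) := by
    intro u u' h
    have h1 : g • (u - u') = u - u' := by
      rw [smul_sub]
      have h2 : g • u - u = g • u' - u' := h
      rw [sub_eq_sub_iff_sub_eq_sub] at h2
      exact h2
    exact sub_eq_zero.1 (hg _ h1)
  exact (Finite.injective_iff_surjective.1 hinj) w

theorem small_of_steinberg [Finite H] [Finite V] {p : ℕ} (hp : p.Prime) (hV : ∀ v : V, p • v = 0) {h y : H}
    (hhy : closure ({h, y} : Set H) = ⊤) {n : ℕ} (hn : h ^ n = 1) (hpn : ¬ p ∣ n) {m : ℕ}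
    (hx : (h * (y * h * y⁻¹) * h⁻¹ * (y * h * y⁻¹)⁻¹) ^ m = 1) {w : V}
    (hw : ∑ i ∈ Finset.range m, (h * (y * h * y⁻¹) * h⁻¹ * (y * h * y⁻¹)⁻¹) ^ i • w ≠ 0) : Small H V := by
  by_cases hfix : ∃ v : V, v ≠ 0 ∧ h • v = v
  · obtain ⟨v, hv, hv'⟩ := hfix
    exact small_of_fixed hp hV hhy hn hpn hv hv'
  push Not at hfix
  have hf : ∀ v : V, h • v = v → v = 0 := fun v hv => by
    by_contra h0
    exact hfix v h0 hv
  set k : H := y * h * y⁻¹ with hk
  have hkf : ∀ v : V, k • v = v → v = 0 := by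
    intro v hv
    have h1 : h • (y⁻¹ • v) = y⁻¹ • v := by
      rw [hk, mul_smul, mul_smul] at hv
      exact (eq_inv_smul_iff.2 hv)
    have h2 := hf _ h1
    rwa [smul_eq_zero_iff_eq] at h2
  set x : H := h * k * h⁻¹ * k⁻¹ with hxdef
  obtain ⟨u, hu⟩ := exists_sub hf w
  obtain ⟨v0, hv0⟩ := exists_sub hkf (-u)
  refine small_of_pair hhy ⟨0, v0, ?_⟩
  rintro ⟨z, hz, hzh, hzy⟩
  have e1 : z k = u := by
    rw [hk, hz, hz, hz.inv, hzh, hzy, smul_zero, add_zero, smul_neg, ← mul_smul, ← hk]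
    have : v0 + -(k • v0) = -(k • v0 - v0) := by abel
    rw [this, hv0, neg_neg]
  have e2 : z h⁻¹ = 0 := by rw [hz.inv, hzh, smul_zero, neg_zero]
  have e3 : z x = h • u - x • u := by
    rw [hxdef, hz, hz, hz, e1, e2, hz.inv, e1, hzh, smul_zero, zero_add, add_zero, smul_neg, ← mul_smul,
      ← sub_eq_add_neg]
  have e4 := hz.norm_eq_zero hx
  rw [e3] at e4
  apply hw
  -- the norm of `x` kills `x - 1`
  have e5 : ∀ v : V, ∑ i ∈ Finset.range m, x ^ i • (x • v) = ∑ i ∈ Finset.range m, x ^ i • v := by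
    intro v
    have h1 : ∀ i, x ^ i • (x • v) = x ^ (i + 1) • v := fun i => by rw [pow_succ, smul_smul]
    rw [Finset.sum_congr rfl (fun i _ => h1 i)]
    have h2 := Finset.sum_range_succ (fun i => x ^ i • v) m
    have h3 := Finset.sum_range_succ' (fun i => x ^ i • v) m
    rw [h2] at h3
    simp only [hx, pow_zero, one_smul] at h3
    exact (add_right_cancel h3).symm
  have e6 : ∑ i ∈ Finset.range m, x ^ i • w = ∑ i ∈ Finset.range m, x ^ i • (h • u - x • u) := by
    rw [← hu]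
    simp only [smul_sub, Finset.sum_sub_distrib]
    rw [e5]
  rw [e6, e4]

/-- `p = 2`: a Steinberg pair whose commutator `[h, y h y⁻¹]` is an involution -/
theorem small_of_steinberg_two [Finite H] [Finite V] (hV : ∀ v : V, 2 • v = 0) {h y : H}
    (hhy : closure ({h, y} : Set H) = ⊤) {n : ℕ} (hn : h ^ n = 1) (hpn : Odd n)
    (hx : (h * (y * h * y⁻¹) * h⁻¹ * (y * h * y⁻¹)⁻¹) ^ 2 = 1) {w : V}
    (hw : (h * (y * h * y⁻¹) * h⁻¹ * (y * h * y⁻¹)⁻¹) • w ≠ w) : Small H V := by
  refine small_of_steinberg Nat.prime_two hV hhy hn ?_ hx (w := w) ?_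
  · rw [Nat.two_dvd_ne_zero, Nat.odd_iff.1 hpn]
  · rw [Finset.sum_range_succ, Finset.sum_range_one, pow_zero, pow_one, one_smul]
    intro h0
    apply hw
    have h2 := hV w
    rw [two_nsmul] at h2
    exact add_left_cancel (h0.trans h2.symm)

end Cfsg.Agent.H490.Der
end

-- part: H490/Der3
section
/-!
# TEAM GEN: few derivations when `-1` is in the group, `p` odd; transport along a homomorphism (helper490)
-/

set_option autoImplicit false

namespace Cfsg.Agent.H490.Der

open Cfsg.Agent.H440.TwoGen Cfsg.Agent.H891.Gen Subgroup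

variable {H V : Type*} [Group H] [AddCommGroup V] [DistribMulAction H V]

/-- `p` odd, a central involution acting as `-1` -/
theorem small_of_neg [Finite H] [Finite V] [Nontrivial V] {p : ℕ} (hp : p.Prime) (hp2 : p ≠ 2)
    (hV : ∀ v : V, p • v = 0) {ε : H} (hc : ∀ g : H, ε * g = g * ε) (h2 : ε ^ 2 = 1) (hε : ∀ v : V, ε • v = -v) :
    Small H V := by
  have hn : (zpowers ε).Normal := by
    refine ⟨fun x hx g => ?_⟩
    obtain ⟨k, rfl⟩ := mem_zpowers_iff.1 hx
    have h1 : Commute g (ε ^ k) := (Commute.zpow_right (show Commute g ε from (hc g).symm) k)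
    have h3 : g * ε ^ k * g⁻¹ = ε ^ k := by rw [h1.eq, mul_inv_cancel_right]
    rw [h3]
    exact zpow_mem (mem_zpowers ε) k
  refine small_of_normal (zpowers ε) ?_ (small_of_coprime hp hV ?_)
  · intro v hv
    have h1 := hv ε (mem_zpowers ε)
    rw [hε] at h1
    have h3 : 2 • v = 0 := by
      rw [two_nsmul]
      nth_rewrite 1 [← h1]
      exact neg_add_cancel v
    have h4 : addOrderOf v ∣ 2 := addOrderOf_dvd_of_nsmul_eq_zero h3
    have h5 : addOrderOf v ∣ p := addOrderOf_dvd_of_nsmul_eq_zero (hV v)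
    have h6 : addOrderOf v ∣ 1 := by
      have h7 : Nat.gcd 2 p = 1 := (Nat.coprime_primes Nat.prime_two hp).2 (Ne.symm hp2)
      rw [← h7]
      exact Nat.dvd_gcd h4 h5
    exact AddMonoid.addOrderOf_eq_one_iff.1 (Nat.dvd_one.1 h6)
  · rw [Nat.card_zpowers]
    intro h1
    have h3 : orderOf ε ∣ 2 := orderOf_dvd_of_pow_eq_one h2
    exact hp2 ((Nat.prime_dvd_prime_iff_eq hp Nat.prime_two).1 (h1.trans h3))

/-- a homomorphism `φ : K →* H` with normal image, `V` equivariantly isomorphic to a module `W` of `K` -/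
theorem small_of_map_normal' {K W : Type*} [Group K] [AddCommGroup W] [DistribMulAction K W] [Finite K] [Finite V]
    (φ : K →* H) (e : V ≃+ W) (hφ : ∀ (k : K) (v : V), e (φ k • v) = k • e v)
    (hn : ∀ (g : H) (k : K), ∃ k' : K, φ k * g = g * φ k') (hfix : ∀ v : W, (∀ k : K, k • v = v) → v = 0)
    (hK : Small K W) : Small H V := by
  let _ : DistribMulAction K V := DistribMulAction.compHom V φ
  have h1 : ∀ (k : K) (v : V), φ k • v = k • v := fun _ _ => rfl
  refine small_of_map_normal φ h1 hn ?_ (small_congr (MulEquiv.refl K) e.symm ?_ hK)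
  · intro v hv
    have h2 := hfix (e v) fun k => by rw [← hφ, h1, hv]
    exact e.map_eq_zero_iff.1 h2
  · intro k w
    apply e.injective
    rw [e.apply_symm_apply]
    show _ = e (φ k • e.symm w)
    rw [hφ, e.apply_symm_apply]

end Cfsg.Agent.H490.Der
end
end
end

-- part: H230/GenPsl
section
set_option linter.all false
open scoped Cfsg.Agent.FastGrp

/-!
# TEAM GEN, row `PSL_d(q)`, `d ≥ 3` (helper230)

A 2-transitive group with socle `T ≅ PSL_d(q)` and degree `(q^d - 1)/(q - 1)` is 2-generated, provided that the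
pairs `(lift (cj A * fld σ), lift (cj B))` lift modulo `Inn PSL_d(q)`.
-/

set_option autoImplicit false

namespace Cfsg.Agent.H230.GenPsl

open Matrix MulAction Cfsg.Agent.H384.TwoTrans Cfsg.Agent.H891.Gen Cfsg.Agent.H440.TwoGen
open Cfsg.Agent.ClassicalGeometry.AutPSL.Root Cfsg.Agent.ClassicalGeometry.AutPSL.Auto
open Cfsg.Agent.ClassicalGeometry.AutPSL.Main
open scoped LinearAlgebra.Projectivization

universe u v

/-! ### general lemmas -/

/-- Lifting descends along an injective homomorphism. -/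
theorem lift_of_map {G X : Type*} [Group G] [Group X] (α : G →* X) (hα : Function.Injective α) {N : Subgroup G}
    {x y : G} (h : Lift (N.map α) (α x) (α y)) : Lift N x y := by
  obtain ⟨_, ⟨s, hs, rfl⟩, _, ⟨t, ht, rfl⟩, h⟩ := h
  refine ⟨s, hs, t, ht, ?_⟩
  have h1 : (Subgroup.closure ({x * s, y * t} : Set G)).map α =
      Subgroup.closure ({α x * α s, α y * α t} : Set X) := by
    rw [MonoidHom.map_closure, Set.image_pair, map_mul, map_mul]
  rw [← h1] at h
  exact (Subgroup.map_le_map_iff_of_injective hα).1 h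

/-- Lifting goes up along a homomorphism. -/
theorem lift_map {G X : Type*} [Group G] [Group X] (α : G →* X) {N : Subgroup G}
    {x y : G} (h : Lift N x y) : Lift (N.map α) (α x) (α y) := by
  obtain ⟨s, hs, t, ht, h⟩ := h
  refine ⟨α s, ⟨s, hs, rfl⟩, α t, ⟨t, ht, rfl⟩, ?_⟩
  have h1 : (Subgroup.closure ({x * s, y * t} : Set G)).map α =
      Subgroup.closure ({α x * α s, α y * α t} : Set X) := by
    rw [MonoidHom.map_closure, Set.image_pair, map_mul, map_mul]
  rw [← h1]
  exact Subgroup.map_mono h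

theorem isCyclic_ringAut (K : Type*) [Field K] [Finite K] : IsCyclic (K ≃+* K) := by
  obtain ⟨p, hp⟩ := CharP.exists K
  have hpp : p.Prime := by
    have hp0 : p ≠ 0 := by
      intro h
      subst h
      have : CharZero K := CharP.charP_to_charZero K
      exact not_finite K
    exact (CharP.char_is_prime_or_zero K p).resolve_right hp0
  have : Fact p.Prime := ⟨hpp⟩
  let _ := ZMod.algebra K p
  let f : (K ≃ₐ[ZMod p] K) →* (K ≃+* K) :=
    { toFun := fun e => e.toRingEquiv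
      map_one' := rfl
      map_mul' := fun _ _ => rfl }
  have hf : Function.Surjective f := by
    intro e
    refine ⟨AlgEquiv.ofRingEquiv (f := e) ?_, ?_⟩
    · intro x
      exact congrArg (fun g : ZMod p →+* K => g x)
        (RingHom.ext_zmod ((e : K →+* K).comp (algebraMap (ZMod p) K)) (algebraMap (ZMod p) K))
    · ext x; rfl
  exact isCyclic_of_surjective f hf

/-! ### semilinear calculus -/

section Semi

variable {ι F : Type*} [Fintype ι] [DecidableEq ι] [Field F]

theorem fld_mul_cj (σ : F ≃+* F) (B : GL ι F) :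
    (fld σ * cj B : MulAut (SpecialLinearGroup ι F)) = cj (GeneralLinearGroup.map (σ : F →+* F) B) * fld σ := by
  apply MulEquiv.ext
  intro s
  apply Subtype.ext
  change ((B : Matrix ι ι F) * s.1 * ((B⁻¹ : GL ι F) : Matrix ι ι F)).map (σ : F →+* F) =
    (B : Matrix ι ι F).map (σ : F →+* F) * (s.1.map (σ : F →+* F)) *
      (((GeneralLinearGroup.map (σ : F →+* F) B)⁻¹ : GL ι F) : Matrix ι ι F)
  rw [Matrix.map_mul, Matrix.map_mul, ← map_inv]
  rfl

theorem cj_of_det {B : GL ι F} (b : SpecialLinearGroup ι F) (hB : (b : Matrix ι ι F) = B)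
    (s : SpecialLinearGroup ι F) : cj B s = b * s * b⁻¹ := by
  have h1 : ((B⁻¹ : GL ι F) : Matrix ι ι F) = (b⁻¹ : SpecialLinearGroup ι F).1 := by
    have h2 : (B : Matrix ι ι F) * (b⁻¹ : SpecialLinearGroup ι F).1 = 1 := by
      rw [← hB]
      exact congrArg Subtype.val (mul_inv_cancel b)
    have h3 : ((B⁻¹ : GL ι F) : Matrix ι ι F) * (B : Matrix ι ι F) = 1 := by
      rw [← Units.val_mul, inv_mul_cancel, Units.val_one]
    calc ((B⁻¹ : GL ι F) : Matrix ι ι F) = ((B⁻¹ : GL ι F) : Matrix ι ι F) * ((B : Matrix ι ι F) *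
        (b⁻¹ : SpecialLinearGroup ι F).1) := by rw [h2, mul_one]
      _ = _ := by rw [← mul_assoc, h3, one_mul]
  apply Subtype.ext
  rw [coe_cj, h1, ← hB]
  rfl

end Semi

/-! ### identification of the socle -/

variable {G : Type u} {Ω : Type v} [Group G] [MulAction G Ω] {T : Subgroup G}
variable {F : Type} [Field F] {d : ℕ}

theorem ker_eq (A : AS G Ω T) {φ : SpecialLinearGroup (Fin d) F →* ↥T} {f : Ω ≃ ℙ F (Fin d → F)}
    (hf : ∀ (s : SpecialLinearGroup (Fin d) F) (x : Ω), f (φ s • x) = s • f x) :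
    φ.ker = Subgroup.center (SpecialLinearGroup (Fin d) F) := by
  have := A.faithful
  rw [← Projectivization.SL_mulAction_ker]
  ext s
  rw [MonoidHom.mem_ker, MonoidHom.mem_ker]
  constructor
  · intro h
    ext1 x
    have h1 := hf s (f.symm x)
    rw [h, one_smul, Equiv.apply_symm_apply] at h1
    exact h1.symm
  · intro h
    apply Subtype.ext
    apply FaithfulSMul.eq_of_smul_eq_smul (α := Ω)
    intro x
    apply f.injective
    have h1 := hf s x
    have h2 : s • f x = f x := congrArg (fun π : Equiv.Perm (ℙ F (Fin d → F)) => π (f x)) h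
    rw [h2] at h1
    rw [OneMemClass.coe_one, one_smul]
    exact h1

/-- `PSL_d(F) ≃* T` -/
noncomputable def eqv (φ : SpecialLinearGroup (Fin d) F →* ↥T)
    (hk : φ.ker = Subgroup.center (SpecialLinearGroup (Fin d) F)) (hφ : Function.Surjective φ) :
    ProjectiveSpecialLinearGroup (Fin d) F ≃* ↥T :=
  (QuotientGroup.quotientMulEquivOfEq hk.symm).trans (QuotientGroup.quotientKerEquivOfSurjective φ hφ)

theorem eqv_pr (φ : SpecialLinearGroup (Fin d) F →* ↥T)
    (hk : φ.ker = Subgroup.center (SpecialLinearGroup (Fin d) F)) (hφ : Function.Surjective φ)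
    (s : SpecialLinearGroup (Fin d) F) : eqv φ hk hφ (pr s) = φ s := rfl

/-- the action of `G` on `PSL_d(F) ≅ T` -/
noncomputable def act [T.Normal] (e : ProjectiveSpecialLinearGroup (Fin d) F ≃* ↥T) :
    G →* MulAut (ProjectiveSpecialLinearGroup (Fin d) F) :=
  (MulAut.congr e.symm).toMonoidHom.comp MulAut.conjNormal

theorem e_act [T.Normal] (e : ProjectiveSpecialLinearGroup (Fin d) F ≃* ↥T) (g : G)
    (p : ProjectiveSpecialLinearGroup (Fin d) F) : (e (act e g p) : G) = g * (e p : G) * g⁻¹ := by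
  have h1 : e (act e g p) = MulAut.conjNormal g (e p) := by
    change e (e.symm (MulAut.conjNormal g (e p))) = _
    rw [e.apply_symm_apply]
  rw [h1]
  rfl

theorem act_injective [T.Normal] (hc : Subgroup.centralizer (T : Set G) = ⊥)
    (e : ProjectiveSpecialLinearGroup (Fin d) F ≃* ↥T) : Function.Injective (act e) := by
  rw [injective_iff_map_eq_one]
  intro g hg
  have h1 : g ∈ Subgroup.centralizer (T : Set G) := by
    rw [Subgroup.mem_centralizer_iff]
    intro t ht
    have h2 := e_act e g (e.symm ⟨t, ht⟩)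
    rw [hg, MulAut.one_apply, e.apply_symm_apply] at h2
    calc t * g = (g * t * g⁻¹) * g := by rw [← h2]
      _ = g * t := by group
  rw [hc] at h1
  exact Subgroup.mem_bot.1 h1

theorem map_act [T.Normal] (e : ProjectiveSpecialLinearGroup (Fin d) F ≃* ↥T) :
    T.map (act e) = (MulAut.conj : ProjectiveSpecialLinearGroup (Fin d) F →* _).range := by
  have h1 : ∀ t : ↥T, act e (t : G) = MulAut.conj (e.symm t) := by
    intro t
    apply MulEquiv.ext
    intro p
    apply e.injective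
    apply Subtype.ext
    rw [e_act, MulAut.conj_apply, map_mul, map_mul, map_inv, e.apply_symm_apply]
    rfl
  ext x
  constructor
  · rintro ⟨t, ht, rfl⟩
    exact ⟨e.symm ⟨t, ht⟩, (h1 ⟨t, ht⟩).symm⟩
  · rintro ⟨p, rfl⟩
    refine ⟨e p, (e p).2, ?_⟩
    rw [h1, e.symm_apply_apply]

/-- A graph automorphism does not preserve the stabilisers of the points. -/
theorem no_graph (hd : 3 ≤ d) {A : GL (Fin d) F} {σ : F ≃+* F} {i₀ : Fin d} {q : ℙ F (Fin d → F)}
    (h : ∀ s : SpecialLinearGroup (Fin d) F,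
      s • (Projectivization.mk F (Pi.single i₀ (1 : F) : Fin d → F) (by simp)) =
        Projectivization.mk F (Pi.single i₀ (1 : F) : Fin d → F) (by simp) →
      ((cj A * fld σ * itr : MulAut (SpecialLinearGroup (Fin d) F)) s) • q = q) : False := by
  classical
  induction q using Projectivization.ind with | _ v hv =>
  set w : Fin d → F := ((A⁻¹ : GL (Fin d) F) : Matrix (Fin d) (Fin d) F) *ᵥ v with hw
  have hAw : (A : Matrix (Fin d) (Fin d) F) *ᵥ w = v := by
    rw [hw, mulVec_mulVec, ← Units.val_mul, mul_inv_cancel, Units.val_one, one_mulVec]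
  have hw0 : w ≠ 0 := by
    intro h0
    rw [h0, mulVec_zero] at hAw
    exact hv hAw.symm
  -- the transvections
  have key : ∀ i j : Fin d, i ≠ j → j ≠ i₀ → ∃ c : F, w - w i • Pi.single j 1 = c • w := by
    intro i j hij hj
    have h1 := h (SpecialLinearGroup.transvection hij 1) (by
      rw [Projectivization.smul_mk, Projectivization.mk_eq_mk_iff']
      refine ⟨1, ?_⟩
      rw [one_smul]
      change (Pi.single i₀ (1 : F) : Fin d → F) = (1 + single i j 1) *ᵥ _
      rw [add_mulVec, one_mulVec]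
      ext k
      simp [Pi.single_apply, hj])
    rw [MulAut.mul_apply, itr_transvection, MulAut.mul_apply, fld_transvection, Projectivization.smul_mk,
      Projectivization.mk_eq_mk_iff'] at h1
    obtain ⟨c, hc⟩ := h1
    refine ⟨c, ?_⟩
    have h2 : (cj A (SpecialLinearGroup.transvection hij.symm (σ (-1)))) • v =
        (A : Matrix (Fin d) (Fin d) F) *ᵥ (w - w i • Pi.single j 1) := by
      change ((A : Matrix (Fin d) (Fin d) F) * (1 + single j i (σ (-1))) *
        ((A⁻¹ : GL (Fin d) F) : Matrix (Fin d) (Fin d) F)) *ᵥ v = _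
      rw [← mulVec_mulVec, ← hw, ← mulVec_mulVec, add_mulVec, one_mulVec, map_neg, map_one]
      congr 1
      ext k
      simp [Matrix.mulVec, dotProduct, single_apply, Pi.single_apply, sub_eq_add_neg]
      by_cases hk : k = j
      · subst hk
        simp
      · simp [hk, Ne.symm hk]
    rw [h2, ← hAw, ← mulVec_smul] at hc
    have h3 := congrArg (fun x => ((A⁻¹ : GL (Fin d) F) : Matrix (Fin d) (Fin d) F) *ᵥ x) hc
    simp only [mulVec_mulVec, ← Units.val_mul, inv_mul_cancel, Units.val_one, one_mulVec] at h3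
    exact h3.symm
  obtain ⟨i, hi⟩ : ∃ i, w i ≠ 0 := by
    by_contra hcon
    push Not at hcon
    exact hw0 (funext hcon)
  obtain ⟨j, hji, hj⟩ : ∃ j : Fin d, j ≠ i ∧ j ≠ i₀ := by
    by_contra hno
    push Not at hno
    have h1 : (Finset.univ : Finset (Fin d)) ⊆ {i, i₀} := by
      intro k _
      rw [Finset.mem_insert, Finset.mem_singleton]
      by_cases hk : k = i
      · exact Or.inl hk
      · exact Or.inr (hno k hk)
    have h2 := Finset.card_le_card h1
    have h3 := Finset.card_le_two (a := i) (b := i₀)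
    rw [Finset.card_univ, Fintype.card_fin] at h2
    omega
  obtain ⟨c, hc⟩ := key i j hji.symm hj
  have h1 := congrFun hc i
  have h2 := congrFun hc j
  simp only [Pi.sub_apply, Pi.smul_apply, smul_eq_mul, Pi.single_apply, if_neg hji.symm, mul_zero, sub_zero,
    if_true, mul_one] at h1 h2
  have hc1 : c = 1 := by
    have : (c - 1) * w i = 0 := by linear_combination -h1
    rcases mul_eq_zero.1 this with h | h
    · linear_combination h
    · exact absurd h hi
  rw [hc1, one_mul] at h2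
  apply hi
  linear_combination -h2

/-- Every element of `G` acts on the socle as a semilinear map. -/
theorem exists_semi [Fintype F] [T.Normal] (hd : 3 ≤ d) {φ : SpecialLinearGroup (Fin d) F →* ↥T}
    {f : Ω ≃ ℙ F (Fin d → F)} (hk : φ.ker = Subgroup.center (SpecialLinearGroup (Fin d) F))
    (hφ : Function.Surjective φ)
    (hf : ∀ (s : SpecialLinearGroup (Fin d) F) (x : Ω), f (φ s • x) = s • f x) (g : G) :
    ∃ (B : GL (Fin d) F) (σ : F ≃+* F), act (eqv φ hk hφ) g = lift (cj B * fld σ) := by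
  obtain ⟨p, hp⟩ := CharP.exists F
  have : Fact p.Prime := ⟨CharP.char_is_prime F p⟩
  rcases surj_three p hd (act (eqv φ hk hφ) g) with h | ⟨B, σ, h⟩
  · exact h
  · exfalso
    let i₀ : Fin d := ⟨0, by omega⟩
    let p₀ : ℙ F (Fin d → F) := Projectivization.mk F (Pi.single i₀ (1 : F) : Fin d → F) (by simp)
    refine no_graph hd (A := B) (σ := σ) (i₀ := i₀) (q := f (g • f.symm p₀)) ?_
    intro s hs
    have h1 : φ s • f.symm p₀ = f.symm p₀ := by
      apply f.injective
      rw [hf, Equiv.apply_symm_apply]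
      exact hs
    have h2 := e_act (eqv φ hk hφ) g (pr s)
    rw [h, lift_pr, eqv_pr, eqv_pr] at h2
    rw [← hf]
    congr 1
    change (φ ((cj B * fld σ * itr : MulAut (SpecialLinearGroup (Fin d) F)) s) : G) • (g • f.symm p₀) = _
    rw [h2, mul_smul, mul_smul, inv_smul_smul]
    congr 1

/-- the pairs of semilinear automorphisms lift modulo `Inn PSL_d(F)` -/
def LiftPSL (F : Type) [Field F] (d : ℕ) : Prop :=
  ∀ (A B : GL (Fin d) F) (σ : F ≃+* F),
    Lift (MulAut.conj : ProjectiveSpecialLinearGroup (Fin d) F →* _).range (lift (cj A * fld σ)) (lift (cj B))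

theorem lift_cj_toGL (s : SpecialLinearGroup (Fin d) F) :
    (lift (cj (SpecialLinearGroup.toGL s)) : MulAut (ProjectiveSpecialLinearGroup (Fin d) F)) =
      MulAut.conj (pr s) := by
  apply MulEquiv.ext
  intro x
  obtain ⟨x, rfl⟩ := pr_surjective x
  rw [lift_pr, MulAut.conj_apply, cj_of_det s rfl]
  rfl

/-- The lift for `PSL_(n+1)` from the lift of helper99. -/
theorem liftPSL_of_gl {n : ℕ} (H : ∀ (j : GL (Fin (n + 2)) F →* MulAut (ProjectiveSpecialLinearGroup (Fin (n + 2)) F))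
    (σ : F ≃+* F) (f : MulAut (ProjectiveSpecialLinearGroup (Fin (n + 2)) F)),
      (∀ A, f * j A * f⁻¹ = j (GeneralLinearGroup.map (σ : F →+* F) A)) →
      (∀ (h : (0 : Fin (n + 2)) ≠ 1) (s : F), j (SpecialLinearGroup.toGL (SpecialLinearGroup.transvection h s)) = 1 →
        s = 0) →
      ∀ A B : GL (Fin (n + 2)) F, Lift (j.comp SpecialLinearGroup.toGL).range (j A) (j B * f)) :
    LiftPSL F (n + 2) := by
  intro A B σ
  have h1 := H (lift.comp cj) σ (lift (fld σ)) (by
      intro A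
      rw [mul_inv_eq_iff_eq_mul]
      change lift (fld σ) * lift (cj A) = lift (cj _) * lift (fld σ)
      rw [← map_mul, ← map_mul, fld_mul_cj]) (by
      intro h s hs
      have h2 : lift (cj (SpecialLinearGroup.toGL (SpecialLinearGroup.transvection h s)) * fld (1 : F ≃+* F)) =
          lift (fld (1 : F ≃+* F)) := by
        rw [map_mul]
        change (lift.comp cj) _ * _ = _
        rw [hs, one_mul]
      obtain ⟨⟨r, hr⟩, -⟩ := injective_aux h2
      have h3 := congrFun (congrFun hr 0) 1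
      have h4 : (SpecialLinearGroup.toGL (SpecialLinearGroup.transvection h s) :
          Matrix (Fin (n + 2)) (Fin (n + 2)) F) =
          (1 : Matrix (Fin (n + 2)) (Fin (n + 2)) F) + Matrix.single 0 1 s := rfl
      rw [h4] at h3
      simpa using h3.symm) B A
  have h2 : ((lift.comp cj).comp SpecialLinearGroup.toGL).range =
      (MulAut.conj : ProjectiveSpecialLinearGroup (Fin (n + 2)) F →* _).range := by
    ext x
    constructor
    · rintro ⟨s, rfl⟩
      exact ⟨pr s, (lift_cj_toGL s).symm⟩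
    · rintro ⟨p, rfl⟩
      obtain ⟨s, rfl⟩ := pr_surjective p
      exact ⟨s, lift_cj_toGL s⟩
  rw [h2] at h1
  have h3 := h1.symm
  change Lift _ (lift (cj A) * lift (fld σ)) (lift (cj B)) at h3
  rwa [← map_mul] at h3

/-- An element inducing `lift (cj B)` with `det B = 1` lies in the socle. -/
theorem mem_of_det [T.Normal] (hc : Subgroup.centralizer (T : Set G) = ⊥)
    (e : ProjectiveSpecialLinearGroup (Fin d) F ≃* ↥T) {g : G} {B : GL (Fin d) F}
    (h : act e g = lift (cj B)) (hB : (B : Matrix (Fin d) (Fin d) F).det = 1) : g ∈ T := by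
  have h1 : act e g ∈ T.map (act e) := by
    rw [map_act, h]
    refine ⟨pr ⟨B, hB⟩, ?_⟩
    apply MulEquiv.ext
    intro x
    obtain ⟨x, rfl⟩ := pr_surjective x
    rw [lift_pr, MulAut.conj_apply, cj_of_det (⟨B, hB⟩ : SpecialLinearGroup (Fin d) F) rfl]
    rfl
  obtain ⟨t, ht, h2⟩ := h1
  rwa [← act_injective hc e h2]

/-- **Row `PSL_d(q)`, `d ≥ 3`** (TEAM GEN G). -/
theorem psl [Fintype F] (A : AS G Ω T) (hd : 3 ≤ d)
    (he : Nonempty (↥T ≃* ProjectiveSpecialLinearGroup (Fin d) F))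
    (hn : Nat.card Ω * (Fintype.card F - 1) = Fintype.card F ^ d - 1) (hL : LiftPSL F d) : TwoGen G := by
  classical
  have := A.normal
  obtain ⟨φ, f, hφ, hf⟩ := Cfsg.Agent.H391.PslRow.ident A (by omega) he hn
  have hk := ker_eq A hf
  set e := eqv φ hk hφ with hedef
  have hsemi := exists_semi hd hk hφ hf
  rw [← hedef] at hsemi
  have hinj := act_injective A.cent e
  have hmul : ∀ (B B' : GL (Fin d) F) (σ σ' : F ≃+* F),
      (lift (cj B * fld σ) * lift (cj B' * fld σ') : MulAut (ProjectiveSpecialLinearGroup (Fin d) F)) =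
        lift (cj (B * GeneralLinearGroup.map (σ : F →+* F) B') * fld (σ * σ')) := by
    intro B B' σ σ'
    rw [← map_mul]
    congr 1
    calc (cj B * fld σ) * (cj B' * fld σ') = cj B * (fld σ * cj B') * fld σ' := by simp only [mul_assoc]
      _ = cj (B * GeneralLinearGroup.map (σ : F →+* F) B') * fld (σ * σ') := by
        rw [fld_mul_cj, map_mul, map_mul]; simp only [mul_assoc]
  have hone : (1 : MulAut (ProjectiveSpecialLinearGroup (Fin d) F)) = lift (cj 1 * fld 1) := by
    rw [map_one, map_one, mul_one, map_one]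
  have hfinv : ∀ (B : GL (Fin d) F) (σ : F ≃+* F), ∃ B' : GL (Fin d) F,
      (lift (cj B * fld σ))⁻¹ = (lift (cj B' * fld σ⁻¹) : MulAut (ProjectiveSpecialLinearGroup (Fin d) F)) := by
    intro B σ
    refine ⟨GeneralLinearGroup.map ((σ⁻¹ : F ≃+* F) : F →+* F) B⁻¹, ?_⟩
    have h1 : GeneralLinearGroup.map (σ : F →+* F)
        (GeneralLinearGroup.map ((σ⁻¹ : F ≃+* F) : F →+* F) B⁻¹) = B⁻¹ := by
      apply Units.ext
      ext i j
      exact σ.apply_symm_apply _
    rw [inv_eq_iff_mul_eq_one, hmul, hone, h1, mul_inv_cancel, mul_inv_cancel]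
  -- the field automorphisms which occur
  let S : Subgroup (F ≃+* F) :=
    { carrier := {σ | ∃ (g : G) (B : GL (Fin d) F), act e g = lift (cj B * fld σ)}
      one_mem' := ⟨1, 1, by rw [map_one, hone]⟩
      mul_mem' := by
        rintro σ σ' ⟨g, B, h⟩ ⟨g', B', h'⟩
        exact ⟨g * g', _, by rw [map_mul, h, h', hmul]⟩
      inv_mem' := by
        rintro σ ⟨g, B, h⟩
        obtain ⟨B', hB'⟩ := hfinv B σ
        exact ⟨g⁻¹, B', by rw [map_inv, h, hB']⟩ }
  -- the determinants which occur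
  let D : Subgroup Fˣ :=
    { carrier := {δ | ∃ (g : G) (B : GL (Fin d) F), act e g = lift (cj B) ∧ GeneralLinearGroup.det B = δ}
      one_mem' := ⟨1, 1, by rw [map_one, map_one, map_one], map_one _⟩
      mul_mem' := by
        rintro δ δ' ⟨g, B, h, hB⟩ ⟨g', B', h', hB'⟩
        exact ⟨g * g', B * B', by rw [map_mul, map_mul, map_mul, h, h'], by rw [map_mul, hB, hB']⟩
      inv_mem' := by
        rintro δ ⟨g, B, h, hB⟩
        exact ⟨g⁻¹, B⁻¹, by rw [map_inv, map_inv, map_inv, h], by rw [map_inv, hB]⟩ }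
  have := isCyclic_ringAut F
  obtain ⟨⟨σ₀, hσ₀⟩, hσ⟩ := IsCyclic.exists_generator (α := ↥S)
  obtain ⟨⟨δ₀, hδ₀⟩, hδ⟩ := IsCyclic.exists_generator (α := ↥D)
  obtain ⟨x, B₁, hx⟩ := hσ₀
  obtain ⟨y, B₂, hy, hB₂⟩ := hδ₀
  refine twoGen_of_lift (N := T) (x := x) (y := y) ?_ ?_
  · rw [Subgroup.eq_top_iff']
    intro g
    obtain ⟨B, σ, hg⟩ := hsemi g
    obtain ⟨k, hk'⟩ := hσ ⟨σ, ⟨g, B, hg⟩⟩
    have hk2 : σ₀ ^ k = σ := congrArg Subtype.val hk'
    -- powers of `x`
    have hxk : ∀ k : ℤ, ∃ C : GL (Fin d) F, act e (x ^ k) = lift (cj C * fld (σ₀ ^ k)) := by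
      intro k
      induction k using Int.induction_on with
      | zero => exact ⟨1, by rw [zpow_zero, zpow_zero, map_one, hone]⟩
      | succ i ih =>
        obtain ⟨C, hC⟩ := ih
        exact ⟨_, by rw [_root_.zpow_add_one, _root_.zpow_add_one, map_mul, hC, hx, hmul]⟩
      | pred i ih =>
        obtain ⟨C, hC⟩ := ih
        obtain ⟨B', hB'⟩ := hfinv B₁ σ₀
        exact ⟨_, by rw [_root_.zpow_sub_one, _root_.zpow_sub_one, map_mul, map_inv, hC, hx, hB', hmul]⟩
    obtain ⟨C, hC⟩ := hxk k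
    rw [hk2] at hC
    obtain ⟨C', hC'⟩ := hfinv C σ
    have h3 : ∃ E : GL (Fin d) F, act e (g * (x ^ k)⁻¹) = lift (cj E) := by
      refine ⟨B * GeneralLinearGroup.map (σ : F →+* F) C', ?_⟩
      rw [map_mul, map_inv, hg, hC, hC', hmul, mul_inv_cancel, map_one, mul_one]
    obtain ⟨E, hE⟩ := h3
    obtain ⟨m, hm⟩ := hδ ⟨GeneralLinearGroup.det E, ⟨_, E, hE, rfl⟩⟩
    have hm2 : δ₀ ^ m = GeneralLinearGroup.det E := congrArg Subtype.val hm
    have h4 : act e (g * (x ^ k)⁻¹ * (y ^ m)⁻¹) = lift (cj (E * (B₂ ^ m)⁻¹)) := by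
      rw [map_mul, hE, map_inv, map_zpow, hy, map_mul, map_mul, map_inv, map_inv, map_zpow, map_zpow]
    have h5 : g * (x ^ k)⁻¹ * (y ^ m)⁻¹ ∈ T := by
      refine mem_of_det A.cent e h4 ?_
      have h6 : GeneralLinearGroup.det (E * (B₂ ^ m)⁻¹) = 1 := by
        rw [map_mul, map_inv, map_zpow, hB₂, hm2, mul_inv_cancel]
      exact congrArg Units.val h6
    have h7 : g = (g * (x ^ k)⁻¹ * (y ^ m)⁻¹) * (y ^ m * x ^ k) := by group
    rw [h7]
    have hxc : x ∈ Subgroup.closure ({x, y} : Set G) := Subgroup.subset_closure (by simp)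
    have hyc : y ∈ Subgroup.closure ({x, y} : Set G) := Subgroup.subset_closure (by simp)
    exact mul_mem (Subgroup.mem_sup_right h5) (Subgroup.mem_sup_left
      (mul_mem (zpow_mem hyc _) (zpow_mem hxc _)))
  · apply lift_of_map (act e) hinj
    rw [map_act, hx, hy]
    exact hL B₁ B₂ σ₀

/-- The row in the form of `ASRows.psl`. -/
theorem psl_row (hL : ∀ (F : Type) [Field F] [Fintype F] (d : ℕ), 3 ≤ d → LiftPSL F d) :
    ∀ (G : Type u) (Ω : Type v) [Group G] [MulAction G Ω] (T : Subgroup G), AS G Ω T →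
      ∀ (F : Type) [Field F] [Fintype F] (d : ℕ), 3 ≤ d →
        Nonempty (↥T ≃* Matrix.ProjectiveSpecialLinearGroup (Fin d) F) →
        Nat.card Ω * (Fintype.card F - 1) = Fintype.card F ^ d - 1 → TwoGen G := by
  intro G Ω _ _ T A F _ _ d hd he hn
  exact psl A hd he hn (hL F d hd)

end Cfsg.Agent.H230.GenPsl
end

section
prune_inst 0xfcb8fbeff8cddfdfff7e7ffed7dffdfcb97fffefdef9cbffece1ff2fdf6b0ac9e5ab8d8de812fe0ff7629410b87853fffffeffea6ffc7ffffdfff45ffbee0fe5f7bd08519688340fbc0fff63f07f8e7f000000000000000000000000000000004200000000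

-- part: H99/GenLiftSL
section
prune_inst 0x204040007000000000000000000020244800010000230000000008000949034005400720068011000002068428300000001000400020000000000000011900800008000280080000020000008004000000000000000000000000000000000000000000000
set_option linter.all false
open scoped Cfsg.Agent.FastGrp

/-!
# TEAM GEN, piece F: explicit lifts for `SL_d(q)`

Let `j : GL_d(F) → Γ` be a homomorphism to a group and let `f : Γ` act on the image of `j` as a field automorphism `σ`.
For `A B : GL_d(F)` the pair `(j A, j B * f)` can be corrected by elements of `j (SL_d(F))` so as to generate at least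
`j (SL_d(F))` (`lift_gl`): the first element becomes a diagonal element `h`, the second `u * w` with `u` a transvection and
`w` a semilinear monomial cycle.
-/

set_option autoImplicit false

namespace Cfsg.Agent.H99.GenSL

open Matrix Cfsg.Agent.H891.Gen
open scoped Fin.NatCast Fin.CommRing

section General

variable {ι F : Type*} [Fintype ι] [DecidableEq ι] [Field F]

/-- the transvection as an element of `GL` -/
def tv {i j : ι} (hij : i ≠ j) (s : F) : GL ι F := SpecialLinearGroup.toGL (SpecialLinearGroup.transvection hij s)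

theorem coe_tv {i j : ι} (h : i ≠ j) (s : F) : ((tv h s : GL ι F) : Matrix ι ι F) = 1 + single i j s := rfl

theorem tv_mul {i j : ι} (hij : i ≠ j) (s t : F) : tv hij s * tv hij t = tv hij (s + t) := by
  apply Units.ext
  exact Matrix.transvection_mul_transvection_same _ _ hij _ _

theorem tv_zero {i j : ι} (hij : i ≠ j) : tv hij (0 : F) = 1 := by
  apply Units.ext
  exact Matrix.transvection_zero _ _

theorem tv_inv {i j : ι} (hij : i ≠ j) (s : F) : (tv hij s)⁻¹ = tv hij (-s) := by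
  rw [inv_eq_iff_mul_eq_one, tv_mul, add_neg_cancel, tv_zero]

theorem map_tv {i j : ι} (hij : i ≠ j) (s : F) (σ : F →+* F) :
    GeneralLinearGroup.map σ (tv hij s) = tv hij (σ s) := by
  apply Units.ext
  ext a b
  rw [GeneralLinearGroup.map_apply, coe_tv, coe_tv, Matrix.add_apply, Matrix.add_apply, map_add, one_apply,
    single_apply, single_apply]
  congr 1
  · split_ifs
    · exact map_one _
    · exact map_zero _
  · split_ifs
    · rfl
    · exact map_zero _

/-- diagonal elements -/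
def dg (c : ι → Fˣ) : GL ι F where
  val := diagonal fun i => (c i : F)
  inv := diagonal fun i => ((c i)⁻¹ : Fˣ)
  val_inv := by
    rw [diagonal_mul_diagonal, ← diagonal_one]
    congr 1
    funext i
    exact (c i).mul_inv
  inv_val := by
    rw [diagonal_mul_diagonal, ← diagonal_one]
    congr 1
    funext i
    exact (c i).inv_mul

theorem dg_mul (c c' : ι → Fˣ) : dg c * dg c' = dg (c * c') := by
  apply Units.ext
  show diagonal _ * diagonal _ = diagonal _
  rw [diagonal_mul_diagonal]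
  congr 1

theorem dg_comm (c c' : ι → Fˣ) : dg c * dg c' = dg c' * dg c := by
  rw [dg_mul, dg_mul, mul_comm]

theorem det_dg (c : ι → Fˣ) : GeneralLinearGroup.det (dg c) = ∏ i, c i := by
  apply Units.ext
  show (diagonal fun i => (c i : F)).det = _
  rw [det_diagonal]
  push_cast
  rfl

/-- monomial elements -/
def Mono (M : GL ι F) (τ : Equiv.Perm ι) (c : ι → Fˣ) : Prop :=
  ∀ a b, (M : Matrix ι ι F) a b = if a = τ b then (c b : F) else 0

theorem conj_tv {M : GL ι F} {τ : Equiv.Perm ι} {c : ι → Fˣ} (hM : Mono M τ c) {i j : ι} (hij : i ≠ j) (s : F) :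
    M * tv hij s * M⁻¹ = tv (τ.injective.ne hij) (c i * s * ((c j)⁻¹ : Fˣ)) := by
  rw [mul_inv_eq_iff_eq_mul]
  apply Units.ext
  rw [GeneralLinearGroup.coe_mul, GeneralLinearGroup.coe_mul, coe_tv, coe_tv, mul_add, add_mul, mul_one, one_mul]
  congr 1
  ext a b
  rw [Matrix.mul_apply, Matrix.mul_apply, Finset.sum_eq_single i, Finset.sum_eq_single (τ j)]
  · rw [hM, hM, single_apply, single_apply]
    by_cases h1 : a = τ i
    · subst h1
      by_cases h2 : j = b
      · subst h2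
        simp
      · have h3 : τ j ≠ τ b := fun h => h2 (τ.injective h)
        simp [h2, h3]
    · have h3 : ¬ (τ i = a ∧ τ j = τ j) := fun h => h1 h.1.symm
      rw [if_neg h1, if_neg h3, zero_mul, zero_mul]
  · intro k _ hk
    rw [single_apply, if_neg (fun h => hk h.2.symm), zero_mul]
  · intro h
    exact absurd (Finset.mem_univ _) h
  · intro k _ hk
    rw [single_apply, if_neg (fun h => hk h.1.symm), mul_zero]
  · intro h
    exact absurd (Finset.mem_univ _) h

theorem mono_dg (c : ι → Fˣ) : Mono (dg c) (Equiv.refl ι) c := by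
  intro a b
  show diagonal _ a b = _
  rw [diagonal_apply, Equiv.refl_apply]
  by_cases h : a = b
  · rw [if_pos h, if_pos h, h]
  · rw [if_neg h, if_neg h]

theorem conj_dg {M : GL ι F} {τ : Equiv.Perm ι} {c : ι → Fˣ} (hM : Mono M τ c) (e : ι → Fˣ) :
    M * dg e * M⁻¹ = dg (fun i => e (τ.symm i)) := by
  rw [mul_inv_eq_iff_eq_mul]
  apply Units.ext
  rw [GeneralLinearGroup.coe_mul, GeneralLinearGroup.coe_mul]
  show (M : Matrix ι ι F) * diagonal _ = diagonal _ * (M : Matrix ι ι F)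
  ext a b
  rw [mul_diagonal, diagonal_mul, hM]
  by_cases h : a = τ b
  · subst h
    rw [if_pos rfl]
    show _ = ((e (τ.symm (τ b)) : Fˣ) : F) * _
    rw [Equiv.symm_apply_apply, mul_comm]
  · rw [if_neg h, zero_mul, mul_zero]

theorem map_dg (c : ι → Fˣ) (σ : F →+* F) :
    GeneralLinearGroup.map σ (dg c) = dg (fun i => Units.map (σ : F →* F) (c i)) := by
  apply Units.ext
  ext a b
  rw [GeneralLinearGroup.map_apply]
  show σ (diagonal _ a b) = diagonal _ a b
  rw [diagonal_apply, diagonal_apply]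
  split_ifs
  · rfl
  · exact map_zero _

/-- the monomial element with permutation `τ` and coefficients `c` -/
theorem exists_mono (τ : Equiv.Perm ι) (c : ι → Fˣ) : ∃ M : GL ι F, Mono M τ c := by
  have hd : IsUnit ((Matrix.of fun a b => if a = τ b then (c b : F) else 0 : Matrix ι ι F)) := by
    have h : (Matrix.of fun a b => if a = τ b then (c b : F) else 0 : Matrix ι ι F) =
        (Matrix.of fun a b => if a = τ b then (1 : F) else 0) * (dg c : Matrix ι ι F) := by
      ext a b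
      show _ = ((Matrix.of fun a b => if a = τ b then (1 : F) else 0) * (diagonal fun i => (c i : F)) : Matrix ι ι F) a b
      rw [mul_diagonal, of_apply, of_apply]
      split_ifs
      · rw [one_mul]
      · rw [zero_mul]
    rw [h]
    refine IsUnit.mul ?_ (dg c).isUnit
    refine ⟨⟨Matrix.of fun a b => if a = τ b then (1 : F) else 0, Matrix.of fun a b => if b = τ a then (1 : F) else 0,
      ?_, ?_⟩, rfl⟩
    · ext a b
      rw [Matrix.mul_apply, Finset.sum_eq_single (τ.symm a)]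
      · rw [of_apply, of_apply, Equiv.apply_symm_apply, if_pos rfl, one_mul, one_apply]
        by_cases h : b = a
        · rw [if_pos h, if_pos h.symm]
        · rw [if_neg h, if_neg (fun e => h e.symm)]
      · intro k _ hk
        rw [of_apply, if_neg (fun e => hk (by rw [e, Equiv.symm_apply_apply])), zero_mul]
      · intro h
        exact absurd (Finset.mem_univ _) h
    · ext a b
      rw [Matrix.mul_apply, Finset.sum_eq_single (τ a)]
      · rw [of_apply, of_apply, if_pos rfl, one_mul, one_apply]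
        by_cases h : a = b
        · rw [if_pos h, h, if_pos rfl]
        · rw [if_neg h, if_neg (fun e => h (τ.injective e))]
      · intro k _ hk
        rw [of_apply, if_neg hk, zero_mul]
      · intro h
        exact absurd (Finset.mem_univ _) h
  obtain ⟨u, hu⟩ := hd
  refine ⟨u, fun a b => ?_⟩
  rw [hu, of_apply]

theorem conj_dg_tv (c : ι → Fˣ) {i j : ι} (hij : i ≠ j) (s : F) :
    dg c * tv hij s * (dg c)⁻¹ = tv hij (c i * s * ((c j)⁻¹ : Fˣ)) :=
  conj_tv (mono_dg c) hij s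

theorem mono_mul_dg {M : GL ι F} {τ : Equiv.Perm ι} {c : ι → Fˣ} (hM : Mono M τ c) (e : ι → Fˣ) :
    Mono (M * dg e) τ (c * e) := by
  intro a b
  rw [GeneralLinearGroup.coe_mul]
  show ((M : Matrix ι ι F) * (diagonal fun i => (e i : F)) : Matrix ι ι F) a b = _
  rw [mul_diagonal, hM]
  split_ifs
  · rw [Pi.mul_apply, Units.val_mul]
  · rw [zero_mul]

end General

section Cyc

variable {K : Type*} [Field K] {n : ℕ}

theorem ne_succ (hn : 1 ≤ n) (i : Fin (n + 1)) : i ≠ i + 1 := by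
  intro hi
  have h01 : (0 : Fin (n + 1)) ≠ 1 := by
    obtain ⟨m, rfl⟩ : ∃ m, n = m + 1 := ⟨n - 1, by omega⟩
    exact Fin.zero_ne_one
  apply h01
  have : i + 0 = i + 1 := by rw [add_zero]; exact hi
  exact add_left_cancel this

/-- **generation**: a subgroup containing the root group `X₀₁` and stable under the shift is everything. -/
theorem eq_top_of_step (hn : 1 ≤ n) (H : Subgroup (Matrix.SpecialLinearGroup (Fin (n + 1)) K))
    (hX : ∀ a : K, Matrix.SpecialLinearGroup.transvection (ne_succ hn 0) a ∈ H)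
    (hs : ∀ i : Fin (n + 1), (∀ a : K, Matrix.SpecialLinearGroup.transvection (ne_succ hn i) a ∈ H) →
      ∀ a : K, Matrix.SpecialLinearGroup.transvection (ne_succ hn (i + 1)) a ∈ H) : H = ⊤ := by
  have h1 : ∀ k : ℕ, ∀ a : K, Matrix.SpecialLinearGroup.transvection (ne_succ hn (k : Fin (n + 1))) a ∈ H := by
    intro k
    induction k with
    | zero =>
      intro a
      have := hX a
      convert this using 2
    | succ k ih =>
      intro a
      have := hs _ ih a
      convert this using 2 <;> rw [Nat.cast_succ]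
  have h2 : ∀ i : Fin (n + 1), ∀ a : K, Matrix.SpecialLinearGroup.transvection (ne_succ hn i) a ∈ H := by
    intro i a
    have := h1 (i : ℕ) a
    convert this using 2
    · rw [Fin.cast_val_eq_self]
    · rw [Fin.cast_val_eq_self]
  -- all root groups
  have h3 : ∀ d : ℕ, 1 ≤ d → d ≤ n → ∀ i : Fin (n + 1), ∀ (h : i ≠ i + (d : Fin (n + 1))) (a : K),
      Matrix.SpecialLinearGroup.transvection h a ∈ H := by
    intro d
    induction d with
    | zero => intro h; omega
    | succ d ih =>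
      intro _ hd i h a
      by_cases hd0 : d = 0
      · subst hd0
        have := h2 i a
        convert this using 2
      · have hdn : d < n + 1 := by omega
        have hne1 : i ≠ i + (d : Fin (n + 1)) := by
          intro e
          have e1 : i + 0 = i + (d : Fin (n + 1)) := by rw [add_zero]; exact e
          have e2 := add_left_cancel e1
          have e3 := congrArg Fin.val e2
          rw [Fin.val_natCast, Nat.mod_eq_of_lt hdn] at e3
          simp at e3
          omega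
        have h4 := ih (by omega) (by omega) i hne1 a
        have h5 := h2 (i + (d : Fin (n + 1))) 1
        have hik : i ≠ i + (d : Fin (n + 1)) + 1 := by
          intro e
          apply h
          rw [Nat.cast_succ, ← add_assoc]
          exact e
        have h6 := Cfsg.Agent.LieClassical.SLGen.commutator_transvection hik hne1
          (ne_succ hn (i + (d : Fin (n + 1)))) a (1 : K)
        rw [mul_one] at h6
        have h7 : Matrix.SpecialLinearGroup.transvection hik a ∈ H := by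
          rw [← h6, commutatorElement_def]
          exact H.mul_mem (H.mul_mem (H.mul_mem h4 h5) (H.inv_mem h4)) (H.inv_mem h5)
        convert h7 using 2
        rw [Nat.cast_succ, ← add_assoc]
  rw [eq_top_iff, ← Cfsg.Agent.LieClassical.SLGen.closure_transvections, Subgroup.closure_le]
  rintro _ ⟨i, j, hij, c, rfl⟩
  have hj : j = i + (((j - i : Fin (n + 1)) : ℕ) : Fin (n + 1)) := by
    rw [Fin.cast_val_eq_self]
    exact (add_sub_cancel i j).symm
  have hd1 : 1 ≤ ((j - i : Fin (n + 1)) : ℕ) := by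
    rw [Nat.one_le_iff_ne_zero]
    intro e
    apply hij
    have : j - i = 0 := Fin.ext e
    exact (sub_eq_zero.1 this).symm
  have hd2 : ((j - i : Fin (n + 1)) : ℕ) ≤ n := by
    have := (j - i).2
    omega
  have h4 := h3 ((j - i : Fin (n + 1)) : ℕ) hd1 hd2 i (fun e => hij (e.trans hj.symm)) c
  have h5 : Matrix.SpecialLinearGroup.transvection hij c =
      Matrix.SpecialLinearGroup.transvection (fun e => hij (e.trans hj.symm)) c := by
    congr 1
  rw [SetLike.mem_coe, h5]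
  exact h4

/-- the cyclic shift -/
def cyc (n : ℕ) : Equiv.Perm (Fin (n + 1)) := Equiv.addRight 1

theorem cyc_symm_apply (i : Fin (n + 1)) : (cyc n).symm (i + 1) = i := (cyc n).symm_apply_eq.2 rfl

end Cyc

/-! ### the choice of the diagonal element -/

section Choice

variable {F : Type*} [Field F] [Fintype F] {n : ℕ}

theorem exists_gen : ∃ z : Fˣ, ∀ u : Fˣ, u ∈ Subgroup.zpowers z := by
  obtain ⟨z, hz⟩ := IsCyclic.exists_generator (α := Fˣ)
  exact ⟨z, hz⟩

theorem orderOf_gen {z : Fˣ} (hz : ∀ u : Fˣ, u ∈ Subgroup.zpowers z) : orderOf z = Fintype.card F - 1 := by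
  classical
  rw [← Nat.card_zpowers, (Subgroup.eq_top_iff' _).2 hz, Subgroup.card_top, Nat.card_eq_fintype_card,
    Fintype.card_units]

/-- diagonal entries with prescribed product: the first two have ratio a generator of `Fˣ` or its square, and the last
differs from the first -/
theorem exists_diag (hn : 1 ≤ n) (hF : 3 ≤ Fintype.card F) (h2 : n = 1 → 4 ≤ Fintype.card F) (δ : Fˣ) :
    ∃ (c : Fin (n + 1) → Fˣ) (z : Fˣ), (∀ u : Fˣ, u ∈ Subgroup.zpowers z) ∧ ∏ i, c i = δ ∧
      (c 0 = c 1 * z ∨ c 0 = c 1 * z ^ 2) ∧ c 0 ≠ c 1 ∧ c (Fin.last n) ≠ c 0 := by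
  classical
  obtain ⟨z, hz⟩ := exists_gen (F := F)
  have ho := orderOf_gen hz
  have hz1 : z ≠ 1 := by
    intro e
    rw [← orderOf_eq_one_iff] at e
    omega
  obtain ⟨m, rfl⟩ : ∃ m, n = m + 1 := ⟨n - 1, by omega⟩
  rcases Nat.lt_or_ge m 1 with hm | hm
  · -- `n = 1`
    obtain rfl : m = 0 := by omega
    have hz2 : z ^ 2 ≠ 1 := by
      intro e
      have := orderOf_le_of_pow_eq_one (by norm_num) e
      have := h2 rfl
      omega
    obtain ⟨k, hk⟩ := hz δ
    rcases Int.even_or_odd' k with ⟨l, hl | hl⟩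
    · -- `δ = z ^ (2 l)`
      have hlast : z ^ (l - 1) ≠ z ^ (l + 1) := by
        intro e
        apply hz2
        have e1 : z ^ (l + 1) = z ^ (l - 1) * z ^ 2 := by
          rw [← zpow_natCast, ← _root_.zpow_add]
          congr 1
          push_cast
          ring
        rw [e1] at e
        exact (mul_eq_left.1 e.symm)
      refine ⟨![z ^ (l + 1), z ^ (l - 1)], z, hz, ?_, Or.inr ?_, hlast.symm, hlast⟩
      · rw [Fin.prod_univ_two]
        show z ^ (l + 1) * z ^ (l - 1) = δ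
        rw [← _root_.zpow_add, ← hk]
        show z ^ _ = z ^ k
        rw [hl]
        congr 1
        ring
      · show z ^ (l + 1) = z ^ (l - 1) * z ^ 2
        rw [← zpow_natCast, ← _root_.zpow_add]
        congr 1
        push_cast
        ring
    · -- `δ = z ^ (2 l + 1)`
      have hlast : z ^ l ≠ z ^ (l + 1) := by
        intro e
        apply hz1
        rw [_root_.zpow_add_one] at e
        exact (mul_eq_left.1 e.symm)
      refine ⟨![z ^ (l + 1), z ^ l], z, hz, ?_, Or.inl ?_, hlast.symm, hlast⟩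
      · rw [Fin.prod_univ_two]
        show z ^ (l + 1) * z ^ l = δ
        rw [← _root_.zpow_add, ← hk]
        show z ^ _ = z ^ k
        rw [hl]
        congr 1
        ring
      · show z ^ (l + 1) = z ^ l * z
        rw [_root_.zpow_add_one]
  · rcases Nat.lt_or_ge m 2 with hm2 | hm2
    · -- `n = 2`
      obtain rfl : m = 1 := by omega
      obtain ⟨w, s, hw, hws⟩ : ∃ w s : Fˣ, (∀ u : Fˣ, u ∈ Subgroup.zpowers w) ∧ w ^ 2 * s ^ 3 ≠ δ := by
        by_cases h3 : z ^ 2 = δ
        · by_cases h4 : z ^ 3 = 1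
          · refine ⟨z⁻¹, 1, ?_, ?_⟩
            · intro u
              rw [Subgroup.zpowers_inv]
              exact hz u
            · rw [one_pow, mul_one, ← h3]
              intro e
              apply hz1
              rw [inv_pow, inv_eq_iff_mul_eq_one, ← pow_add] at e
              calc z = z ^ (2 + 2) * (z ^ 3)⁻¹ := by group
                _ = 1 := by rw [e, h4, inv_one, one_mul]
          · refine ⟨z, z, hz, ?_⟩
            rw [← h3]
            intro e
            exact h4 (mul_eq_left.1 e)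
        · exact ⟨z, 1, hz, by rwa [one_pow, mul_one]⟩
      refine ⟨![w * s, s, δ * (w * s ^ 2)⁻¹], w, hw, ?_, Or.inl ?_, ?_, ?_⟩
      · rw [Fin.prod_univ_three]
        show w * s * s * (δ * (w * s ^ 2)⁻¹) = δ
        rw [mul_comm δ, ← mul_assoc, pow_two, ← mul_assoc w, mul_inv_cancel, one_mul]
      · show w * s = s * w
        exact mul_comm _ _
      · show w * s ≠ s
        intro e
        have hw1 : w = 1 := mul_eq_right.1 e
        have := orderOf_gen hw
        rw [hw1, orderOf_one] at this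
        omega
      · show δ * (w * s ^ 2)⁻¹ ≠ w * s
        intro e
        apply hws
        rw [mul_inv_eq_iff_eq_mul] at e
        rw [e]
        apply Units.ext
        push_cast
        ring
    · -- `n ≥ 3`
      obtain ⟨k, rfl⟩ : ∃ k, m = k + 2 := ⟨m - 2, by omega⟩
      refine ⟨Fin.cons z (Fin.cons 1 (Fin.cons (δ * z⁻¹) fun _ => 1)), z, hz, ?_, Or.inl ?_, hz1, ?_⟩
      · rw [Fin.prod_cons, Fin.prod_cons, Fin.prod_cons, Finset.prod_const_one, mul_one, one_mul, mul_comm,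
          inv_mul_cancel_right]
      · show z = 1 * z
        rw [one_mul]
      · show (1 : Fˣ) ≠ z
        exact fun e => hz1 e.symm

end Choice

/-! ### the lift -/

section Main

variable {F : Type*} [Field F] {n : ℕ} {Γ : Type*} [Group Γ]

/-- the root group `X₀₁` in `Γ` -/
def X (j : GL (Fin (n + 1)) F →* Γ) (hn : 1 ≤ n) : Subgroup Γ where
  carrier := {g | ∃ s : F, g = j (tv (ne_succ hn 0) s)}
  mul_mem' := by
    rintro _ _ ⟨s, rfl⟩ ⟨t, rfl⟩
    exact ⟨s + t, by rw [← map_mul, tv_mul]⟩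
  one_mem' := ⟨0, by rw [tv_zero, map_one]⟩
  inv_mem' := by
    rintro _ ⟨s, rfl⟩
    exact ⟨-s, by rw [← map_inv, tv_inv]⟩

theorem X_irr [Finite F] (j : GL (Fin (n + 1)) F →* Γ) (hn : 1 ≤ n) {h : Γ} {a : F} {z : Fˣ}
    (hz : ∀ u : Fˣ, u ∈ Subgroup.zpowers z) (ha : a = z ∨ a = (z : F) ^ 2)
    (hc : ∀ s : F, h * j (tv (ne_succ hn 0) s) * h⁻¹ = j (tv (ne_succ hn 0) (a * s)))
    (Y : Subgroup Γ) (hY : Y ≤ X j hn) (hhY : ∀ y ∈ Y, h * y * h⁻¹ ∈ Y) : Y = ⊥ ∨ Y = X j hn := by
  let A : AddSubgroup F :=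
    { carrier := {s | j (tv (ne_succ hn 0) s) ∈ Y}
      add_mem' := by
        intro s t hs ht
        have := Y.mul_mem hs ht
        rwa [← map_mul, tv_mul] at this
      zero_mem' := by
        change j (tv (ne_succ hn 0) (0 : F)) ∈ Y
        rw [tv_zero, map_one]
        exact Y.one_mem
      neg_mem' := by
        intro s hs
        have h1 := Y.inv_mem hs
        rwa [← map_inv, tv_inv] at h1 }
  have hA : ∀ s, s ∈ A ↔ j (tv (ne_succ hn 0) s) ∈ Y := fun s => Iff.rfl
  have hcl : ∀ s ∈ A, a * s ∈ A := by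
    intro s hs
    rw [hA] at hs ⊢
    rw [← hc]
    exact hhY _ hs
  rcases Cfsg.Agent.H136.FieldLem.eq_bot_or_top hz A (fun s hs => by
    rcases ha with ha | ha
    · have h1 := hcl _ (hcl s hs)
      rwa [ha, ← mul_assoc, ← pow_two] at h1
    · have h1 := hcl s hs
      rwa [ha] at h1) with h1 | h1
  · left
    rw [eq_bot_iff]
    intro y hy
    obtain ⟨s, rfl⟩ := hY hy
    have h2 : s ∈ A := hy
    rw [h1, AddSubgroup.mem_bot] at h2
    rw [h2, tv_zero, map_one]
    exact Subgroup.mem_bot.2 rfl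
  · right
    refine le_antisymm hY ?_
    rintro _ ⟨s, rfl⟩
    have h2 : s ∈ A := by rw [h1]; exact AddSubgroup.mem_top _
    exact h2

variable {j : GL (Fin (n + 1)) F →* Γ} {σ : F ≃+* F} {f : Γ}

theorem conj_w (hf : ∀ A, f * j A * f⁻¹ = j (GeneralLinearGroup.map (σ : F →+* F) A)) (M A : GL (Fin (n + 1)) F) :
    (j M * f) * j A * (j M * f)⁻¹ = j (M * GeneralLinearGroup.map (σ : F →+* F) A * M⁻¹) := by
  rw [map_mul, map_mul, map_inv, ← hf]
  group

theorem range_le (hn : 1 ≤ n) (hf : ∀ A, f * j A * f⁻¹ = j (GeneralLinearGroup.map (σ : F →+* F) A))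
    {M : GL (Fin (n + 1)) F} {m : Fin (n + 1) → Fˣ} (hM : Mono M (cyc n) m) (M₀ : Subgroup Γ) (hX : X j hn ≤ M₀)
    (hw : j M * f ∈ M₀) : (j.comp SpecialLinearGroup.toGL).range ≤ M₀ := by
  have h1 : M₀.comap (j.comp SpecialLinearGroup.toGL) = ⊤ := by
    refine eq_top_of_step hn _ (fun a => hX ⟨a, rfl⟩) ?_
    intro i hi a
    show j (tv (ne_succ hn (i + 1)) a) ∈ M₀
    have h2 := hi (σ.symm (((m i)⁻¹ : Fˣ) * a * (m (i + 1) : F)))
    replace h2 : j (tv (ne_succ hn i) (σ.symm (((m i)⁻¹ : Fˣ) * a * (m (i + 1) : F)))) ∈ M₀ := h2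
    have h3 := M₀.mul_mem (M₀.mul_mem hw h2) (M₀.inv_mem hw)
    rw [conj_w hf, map_tv, conj_tv hM] at h3
    have e1 := (m i).ne_zero
    have e2 := (m (i + 1)).ne_zero
    have h4 : (m i : F) * (σ : F →+* F) (σ.symm (((m i)⁻¹ : Fˣ) * a * (m (i + 1) : F))) * ((m (i + 1))⁻¹ : Fˣ) = a := by
      show (m i : F) * σ (σ.symm _) * _ = a
      rw [RingEquiv.apply_symm_apply, Units.val_inv_eq_inv_val, Units.val_inv_eq_inv_val]
      field_simp
    rw [h4] at h3
    exact h3
  rintro _ ⟨A, rfl⟩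
  have h2 : A ∈ M₀.comap (j.comp SpecialLinearGroup.toGL) := by rw [h1]; trivial
  exact h2

/-- an element of `GL` with determinant one, times a homomorphism -/
theorem mem_range {A : GL (Fin (n + 1)) F} (hA : GeneralLinearGroup.det A = 1) :
    j A ∈ (j.comp SpecialLinearGroup.toGL).range := by
  have h1 : (A : Matrix (Fin (n + 1)) (Fin (n + 1)) F).det = 1 := by
    have := congrArg Units.val hA
    exact this
  refine ⟨⟨A, h1⟩, ?_⟩
  have h2 : SpecialLinearGroup.toGL ⟨(A : Matrix (Fin (n + 1)) (Fin (n + 1)) F), h1⟩ = A := Units.ext rfl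
  show j (SpecialLinearGroup.toGL ⟨A, h1⟩) = j A
  rw [h2]

theorem lift_of {N : Subgroup Γ} {x y x' y' : Γ} (hx : x⁻¹ * x' ∈ N) (hy : y⁻¹ * y' ∈ N)
    (h : N ≤ Subgroup.closure ({x', y'} : Set Γ)) : Lift N x y :=
  ⟨_, hx, _, hy, by rwa [mul_inv_cancel_left, mul_inv_cancel_left]⟩

/-- **the lift** -/
theorem lift_gl [Fintype F] (hn : 1 ≤ n) (h2 : n = 1 → 4 ≤ Fintype.card F) (j : GL (Fin (n + 1)) F →* Γ) (σ : F ≃+* F)
    (f : Γ) (hf : ∀ A, f * j A * f⁻¹ = j (GeneralLinearGroup.map (σ : F →+* F) A))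
    (hj : ∀ (h : (0 : Fin (n + 1)) ≠ 1) (s : F),
      j (SpecialLinearGroup.toGL (SpecialLinearGroup.transvection h s)) = 1 → s = 0)
    (A B : GL (Fin (n + 1)) F) : Lift (j.comp SpecialLinearGroup.toGL).range (j A) (j B * f) := by
  have h01 : (0 : Fin (n + 1)) ≠ 1 := by
    have := ne_succ hn 0
    rwa [zero_add] at this
  have hj' : ∀ s t : F, j (tv (ne_succ hn 0) s) = j (tv (ne_succ hn 0) t) → s = t := by
    intro s t hst
    have h1 : j (tv (ne_succ hn 0) (s - t)) = 1 := by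
      rw [sub_eq_add_neg, ← tv_mul, ← tv_inv, map_mul, hst, map_inv, mul_inv_cancel]
    have h3 : ∀ (i : Fin (n + 1)) (hi : 0 ≠ i), i = 1 → j (tv hi (s - t)) = 1 → s - t = 0 := by
      rintro _ hi rfl h4
      exact hj hi (s - t) h4
    exact sub_eq_zero.1 (h3 _ (ne_succ hn 0) (zero_add 1) h1)
  -- `y' = u w`
  obtain ⟨W, hW⟩ := exists_mono (F := F) (cyc n) (fun _ => 1)
  obtain ⟨m, M, hM, hMd⟩ : ∃ (m : Fin (n + 1) → Fˣ) (M : GL (Fin (n + 1)) F), Mono M (cyc n) m ∧
      GeneralLinearGroup.det M = GeneralLinearGroup.det B := by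
    refine ⟨_, _, mono_mul_dg hW (Pi.mulSingle 0 ((GeneralLinearGroup.det W)⁻¹ * GeneralLinearGroup.det B)), ?_⟩
    rw [map_mul, det_dg, Finset.prod_pi_mulSingle', if_pos (Finset.mem_univ _), mul_inv_cancel_left]
  have hdtv : ∀ s : F, GeneralLinearGroup.det (tv (ne_succ hn 0) s) = 1 := by
    intro s
    apply Units.ext
    exact Matrix.det_transvection_of_ne _ _ (ne_succ hn 0) s
  have hnorm : ∀ C : GL (Fin (n + 1)) F, GeneralLinearGroup.det C = 1 →
      f⁻¹ * j C * f ∈ (j.comp SpecialLinearGroup.toGL).range := by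
    intro C hC
    have h3 := hf (GeneralLinearGroup.map (σ.symm : F →+* F) C)
    have h4 : GeneralLinearGroup.map (σ : F →+* F) (GeneralLinearGroup.map (σ.symm : F →+* F) C) = C := by
      apply Units.ext
      ext a b
      rw [GeneralLinearGroup.map_apply, GeneralLinearGroup.map_apply]
      exact σ.apply_symm_apply _
    rw [h4] at h3
    have h5 : f⁻¹ * j C * f = j (GeneralLinearGroup.map (σ.symm : F →+* F) C) := by
      rw [← h3]
      group
    rw [h5]
    apply mem_range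
    rw [GeneralLinearGroup.map_det, hC]
    exact map_one _
  have hy : ∀ u : GL (Fin (n + 1)) F, GeneralLinearGroup.det u = 1 →
      (j B * f)⁻¹ * (j u * (j M * f)) ∈ (j.comp SpecialLinearGroup.toGL).range := by
    intro u hu
    have h3 : (j B * f)⁻¹ * (j u * (j M * f)) = f⁻¹ * j (B⁻¹ * u * M) * f := by
      rw [map_mul, map_mul, map_inv]
      group
    rw [h3]
    apply hnorm
    rw [map_mul, map_mul, map_inv, hu, mul_one, hMd, inv_mul_cancel]
  rcases Nat.lt_or_ge (Fintype.card F) 3 with hF | hF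
  · -- `|F| = 2`
    have hF2 : ∀ s : F, s = 0 ∨ s = 1 := by
      intro s
      by_contra hcon
      push Not at hcon
      classical
      have h3 : ({0, 1, s} : Finset F).card ≤ Fintype.card F := Finset.card_le_univ _
      rw [Finset.card_insert_of_notMem, Finset.card_insert_of_notMem, Finset.card_singleton] at h3
      · omega
      · rw [Finset.mem_singleton]
        exact fun e => hcon.2 e.symm
      · simp only [Finset.mem_insert, Finset.mem_singleton, not_or]
        exact ⟨zero_ne_one, fun e => hcon.1 e.symm⟩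
    have hA : GeneralLinearGroup.det A = 1 := by
      apply Units.ext
      rcases hF2 (GeneralLinearGroup.det A : Fˣ) with h3 | h3
      · exact absurd h3 (Units.ne_zero _)
      · exact h3
    refine lift_of (x' := j (tv (ne_succ hn 0) 1)) (y' := j 1 * (j M * f)) ?_ (hy 1 (map_one _)) ?_
    · rw [← map_inv, ← map_mul]
      apply mem_range
      rw [map_mul, map_inv, hA, hdtv, inv_one, one_mul]
    · refine range_le hn hf hM _ ?_ ?_
      · rintro _ ⟨s, rfl⟩
        rcases hF2 s with rfl | rfl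
        · rw [tv_zero, map_one]
          exact Subgroup.one_mem _
        · exact Subgroup.subset_closure (by simp)
      · rw [map_one, one_mul]
        exact Subgroup.subset_closure (by simp)
  · obtain ⟨c, z, hz, hcd, hc01, hcne, hcl⟩ := exists_diag hn hF h2 (GeneralLinearGroup.det A)
    refine lift_of (x' := j (dg c)) (y' := j (tv (ne_succ hn 0) 1) * (j M * f)) ?_ (hy _ (hdtv _)) ?_
    · rw [← map_inv, ← map_mul]
      apply mem_range
      rw [map_mul, map_inv, det_dg, hcd, inv_mul_cancel]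
    · -- the torus trick
      have hw : (j M * f) * j (dg c) * (j M * f)⁻¹ =
          j (dg fun i => Units.map ((σ : F →+* F) : F →* F) (c ((cyc n).symm i))) := by
        rw [conj_w hf, map_dg, conj_dg hM]
      set c' : Fin (n + 1) → Fˣ := fun i => Units.map ((σ : F →+* F) : F →* F) (c ((cyc n).symm i)) with hc'
      have hconj : ∀ s : F, j (dg c) * j (tv (ne_succ hn 0) s) * (j (dg c))⁻¹ =
          j (tv (ne_succ hn 0) ((c 0 : F) * ((c (0 + 1))⁻¹ : Fˣ) * s)) := by
        intro s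
        rw [← map_mul, ← map_inv, ← map_mul, conj_dg_tv]
        congr 2
        ring
      have hconj' : ∀ s : F, j (dg c') * j (tv (ne_succ hn 0) s) * (j (dg c'))⁻¹ =
          j (tv (ne_succ hn 0) ((c' 0 : F) * s * ((c' (0 + 1))⁻¹ : Fˣ))) := by
        intro s
        rw [← map_mul, ← map_inv, ← map_mul, conj_dg_tv]
      have ha : (c 0 : F) * ((c (0 + 1))⁻¹ : Fˣ) = z ∨ (c 0 : F) * ((c (0 + 1))⁻¹ : Fˣ) = (z : F) ^ 2 := by
        rw [zero_add]
        rcases hc01 with h3 | h3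
        · left
          rw [h3, ← Units.val_mul, mul_comm (c 1), mul_inv_cancel_right]
        · right
          rw [h3, ← Units.val_mul, mul_comm (c 1), mul_inv_cancel_right, Units.val_pow_eq_pow_val]
      have ha1 : (c 0 : F) * ((c (0 + 1))⁻¹ : Fˣ) ≠ 1 := by
        rw [← Units.val_mul]
        intro e
        apply hcne
        have h3 : c 0 * (c (0 + 1))⁻¹ = 1 := Units.ext e
        rw [zero_add, mul_inv_eq_one] at h3
        exact h3
      have hc'1 : c' 0 ≠ c' (0 + 1) := by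
        intro e
        apply hcl
        have h3 : (cyc n).symm 0 = Fin.last n := by
          rw [Equiv.symm_apply_eq]
          exact (Fin.last_add_one n).symm
        have h4 : c' 0 = Units.map ((σ : F →+* F) : F →* F) (c (Fin.last n)) := by
          show Units.map ((σ : F →+* F) : F →* F) (c ((cyc n).symm 0)) = _
          rw [h3]
        have h5 : c' (0 + 1) = Units.map ((σ : F →+* F) : F →* F) (c 0) := by
          show Units.map ((σ : F →+* F) : F →* F) (c ((cyc n).symm (0 + 1))) = _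
          rw [cyc_symm_apply]
        rw [h4, h5] at e
        have h6 := congrArg Units.val e
        exact Units.ext (σ.injective h6)
      have key := Cfsg.Agent.H136.TwoGen.torus_trick
        (Subgroup.closure ({j (dg c), j (tv (ne_succ hn 0) 1) * (j M * f)} : Set Γ)) (X j hn) (h := j (dg c))
        (w := j M * f) (u := j (tv (ne_succ hn 0) 1)) (Subgroup.subset_closure (by simp))
        (Subgroup.subset_closure (by simp)) ⟨1, rfl⟩
        (by
          rintro _ ⟨s, rfl⟩
          rw [hw]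
          exact ⟨_, hconj' s⟩)
        (by
          rintro _ ⟨s, rfl⟩
          rw [hw]
          refine ⟨((c' 0)⁻¹ : Fˣ) * s * (c' (0 + 1)), ?_⟩
          have h3 := hconj' (((c' 0)⁻¹ : Fˣ) * s * (c' (0 + 1)))
          have h4 : (c' 0 : F) * (((c' 0)⁻¹ : Fˣ) * s * (c' (0 + 1))) * ((c' (0 + 1))⁻¹ : Fˣ) = s := by
            rw [← mul_assoc, ← mul_assoc, Units.mul_inv, one_mul, Units.mul_inv_cancel_right]
          rw [h4] at h3
          rw [← h3]
          group)
        (fun Y hY hhY => X_irr j hn hz ha hconj Y hY hhY)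
        ⟨j (tv (ne_succ hn 0) 1), ⟨1, rfl⟩, by
          intro e
          have h3 := hconj 1
          rw [e, mul_inv_cancel_right] at h3
          have h4 := hj' _ _ h3
          rw [mul_one] at h4
          exact ha1 h4.symm⟩
        (by
          rintro _ ⟨s, rfl⟩
          exact ⟨_, hconj s⟩)
        (by
          rw [hw, ← map_mul, ← map_mul, dg_comm])
        (by
          rw [hw]
          intro e
          have h3 := hconj' 1
          rw [e, mul_inv_cancel_right] at h3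
          have h4 := hj' _ _ h3
          rw [mul_one, ← Units.val_mul] at h4
          apply hc'1
          rw [← mul_inv_eq_one]
          exact (Units.ext h4).symm)
      exact range_le hn hf hM _ key.1 key.2

end Main

end Cfsg.Agent.H99.GenSL

private theorem dce_93f0436bbe94 : _root_.True := by
  try have : _root_.True := by simp only [_root_.Cfsg.Agent.H99.GenSL.tv.congr_simp]
  exact _root_.True.intro
end

-- part: H230/GenPslFin
section
set_option linter.all false

/-!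
# TEAM GEN, row `PSL_d(q)`, `d ≥ 3`: the field `ASRows.psl` (helper230, with the lift of helper99)
-/

set_option autoImplicit false

namespace Cfsg.Agent.H230.GenPsl

open Matrix Cfsg.Agent.H384.TwoTrans Cfsg.Agent.H891.Gen Cfsg.Agent.H440.TwoGen

universe u v

theorem liftPSL (F : Type) [Field F] [Fintype F] {d : ℕ} (hd : 3 ≤ d) : LiftPSL F d := by
  obtain ⟨n, rfl⟩ : ∃ n, d = n + 2 := ⟨d - 2, by omega⟩
  exact liftPSL_of_gl fun j σ f hf hj A B =>
    Cfsg.Agent.H99.GenSL.lift_gl (n := n + 1) (by omega) (fun h => by omega) j σ f hf hj A B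

/-- the field `psl` of `ASRows` -/
theorem psl_final :
    ∀ (G : Type u) (Ω : Type v) [Group G] [MulAction G Ω] (T : Subgroup G), AS G Ω T →
      ∀ (F : Type) [Field F] [Fintype F] (d : ℕ), 3 ≤ d →
        Nonempty (↥T ≃* Matrix.ProjectiveSpecialLinearGroup (Fin d) F) →
        Nat.card Ω * (Fintype.card F - 1) = Fintype.card F ^ d - 1 → TwoGen G :=
  psl_row fun F _ _ _ hd => liftPSL F hd

end Cfsg.Agent.H230.GenPsl
end

-- part: H450/GenU/Main
section
prune_inst 0x14300100032200000000001280000010200000001000000000a000000000000000020001080000000000000000000000000000100000000000000000000401000000100400400000000000000000000000000000000000000000000000000000000000000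
set_option linter.all false
open scoped Cfsg.Agent.FastGrp

-- part: H450/GenU/Core
section
/-!
# Two elements generating `SU₃(q)` modulo a semilinear monomial element (helper450, TEAM GEN H)
-/

set_option autoImplicit false

namespace Cfsg.Agent.H450.GenU

open Cfsg Cfsg.Agent.LieClassical.HermBasic Cfsg.Agent.LieClassical.HermSiegel
  Cfsg.Agent.LieClassical.HermGen Cfsg.Agent.LieClassical.SUBasic
  Cfsg.Agent.ClassicalGeometry.PSUAutCount Cfsg.Agent.ClassicalGeometry.UnitAutBasic Matrix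
open Cfsg.Agent.H903.SylSemi Cfsg.Agent.H177.MeetPSU Cfsg.Agent.H137.Herm

variable {F : Type} [Field F] [Fintype F] {q : ℕ}

/-- The core: `S = diag(z, z^{-q}, c)`, `w` semilinear exchanging `e` and `f`. -/
theorem gen_core (hF : Fintype.card F = q ^ 2) (hq : 3 ≤ q) {M : Subgroup (MulAut (PSU 3 F q))}
    {e f d : Fin 3 → F} (B : Fr q e f d) {ρ : F ≃+* F} {S w : Equiv.Perm (Fin 3 → F)} {z c b : F}
    (hz0 : z ≠ 0) (hz1 : ∀ y : F, y ≠ 0 → ∃ k : ℕ, z ^ k = y)
    (hz2 : ∀ k : ℕ, 0 < k → k < q ^ 2 - 1 → z ^ k ≠ 1)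
    (hS : SI 3 q (1 : F ≃+* F) S) (hSe : S e = z • e) (hSf : S f = (z ^ q)⁻¹ • f) (hSd : S d = c • d)
    (hw : SI 3 q ρ w) (hwe : w e = f) (hwf : w f = e) (hwd : w d = b • d) (hb : b ≠ 0)
    (hc : c = z ^ q * z⁻¹ ∨ c = 1) {μ : F} (k : IsSiegel q e d μ)
    (hSM : S ∈ LL M) (hyM : rho 3 F q (siegel hF e d μ k) * w ∈ LL M) :
    KK M = ⊤ ∧ w ∈ LL M := by
  have hqq : 3 * q ≤ q ^ 2 := by rw [pow_two]; exact Nat.mul_le_mul_right q hq
  have hzq : z ^ q ≠ 0 := pow_ne_zero _ hz0
  have hpow : ∀ k l : ℕ, l < k → k - l < q ^ 2 - 1 → z ^ k ≠ z ^ l := by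
    intro k l hkl hlt h
    refine hz2 (k - l) (by omega) hlt ?_
    have h4 : z ^ (k - l) * z ^ l = 1 * z ^ l := by
      rw [← pow_add, Nat.sub_add_cancel hkl.le, h, one_mul]
    exact mul_right_cancel₀ (pow_ne_zero _ hz0) h4
  have hc0 : c ≠ 0 := by
    rcases hc with rfl | rfl
    · exact mul_ne_zero hzq (inv_ne_zero hz0)
    · exact one_ne_zero
  -- the conjugate of `S`
  have hwi : ∀ v, w⁻¹ (w v) = v := fun v => by
    rw [← Equiv.Perm.mul_apply, inv_mul_cancel, Equiv.Perm.one_apply]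
  have hwie : w⁻¹ e = f := by rw [← hwf, hwi]
  have hwif : w⁻¹ f = e := by rw [← hwe, hwi]
  have hwid : w⁻¹ d = ρ.symm b⁻¹ • d := by
    have h : w (ρ.symm b⁻¹ • d) = d := by
      rw [hw.smul, hwd, RingEquiv.apply_symm_apply, smul_smul, inv_mul_cancel₀ hb, one_smul]
    conv_lhs => rw [← h]
    rw [hwi]
  have he' : (w * S * w⁻¹) e = ρ (z ^ q)⁻¹ • e := by
    rw [Equiv.Perm.mul_apply, Equiv.Perm.mul_apply, hwie, hSf, hw.smul, hwf]
  have hf' : (w * S * w⁻¹) f = ρ z • f := by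
    rw [Equiv.Perm.mul_apply, Equiv.Perm.mul_apply, hwif, hSe, hw.smul, hwe]
  have hd' : (w * S * w⁻¹) d = ρ c • d := by
    rw [Equiv.Perm.mul_apply, Equiv.Perm.mul_apply, hwid, hS.smul, hSd, RingAut.one_apply, hw.smul, hw.smul, hwd,
      RingEquiv.apply_symm_apply, smul_smul, smul_smul]
    congr 1
    field_simp
  have hhI : SI 3 q (1 : F ≃+* F) (w * S * w⁻¹) := by
    have h := (hw.mul hS).mul hw.inv
    rwa [mul_one, mul_inv_cancel] at h
  have hcomm : S * (w * S * w⁻¹) = (w * S * w⁻¹) * S := by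
    refine B.ext (ρ := 1) (by have := hS.mul hhI; rwa [mul_one] at this)
      (by have := hhI.mul hS; rwa [mul_one] at this) ?_ ?_ ?_
    · rw [Equiv.Perm.mul_apply S, Equiv.Perm.mul_apply (w * S * w⁻¹) S, he', hSe, hS.smul, hhI.smul, hSe, he',
        smul_smul, smul_smul, RingAut.one_apply, RingAut.one_apply, mul_comm]
    · rw [Equiv.Perm.mul_apply S, Equiv.Perm.mul_apply (w * S * w⁻¹) S, hf', hSf, hS.smul, hhI.smul, hSf, hf',
        smul_smul, smul_smul, RingAut.one_apply, RingAut.one_apply, mul_comm]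
    · rw [Equiv.Perm.mul_apply S, Equiv.Perm.mul_apply (w * S * w⁻¹) S, hd', hSd, hS.smul, hhI.smul, hSd, hd',
        smul_smul, smul_smul, RingAut.one_apply, RingAut.one_apply, mul_comm]
  obtain ⟨μ', h1⟩ := torus_semi hS hw hSM k hyM hSe hSd he' hd' hcomm
  -- the coefficient is not zero
  have hane : z ^ q * c ≠ 1 := by
    rcases hc with rfl | rfl
    · intro h
      apply hpow (q + q) 1 (by omega) (by omega)
      rw [pow_one, pow_add]
      have := congrArg (fun t => t * z) h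
      simp only [mul_assoc, inv_mul_cancel₀ hz0, mul_one, one_mul] at this
      exact this
    · rw [mul_one]
      exact hz2 q (by omega) (by omega)
  have hcne : (ρ (z ^ q)⁻¹) ^ q * ρ c ≠ 1 := by
    intro h
    have h2 : ((z ^ q)⁻¹) ^ q * c = 1 := by
      apply ρ.injective
      rw [map_mul, map_pow, map_one, h]
    rw [inv_pow, pow_q_pow_q hF] at h2
    have h3 : c = z := by
      have := congrArg (fun t => z * t) h2
      simpa [← mul_assoc, mul_inv_cancel₀ hz0] using this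
    rcases hc with h4 | h4
    · rw [h3] at h4
      apply hpow q 2 (by omega) (by omega)
      have := congrArg (fun t => t * z) h4
      simp only [mul_assoc, inv_mul_cancel₀ hz0, mul_one] at this
      rw [pow_two, this]
    · rw [h3] at h4
      exact hz2 1 (by omega) (by omega) (by rw [pow_one, h4])
  have hne0 : (z ^ q * c - 1) * (1 - (ρ (z ^ q)⁻¹) ^ q * ρ c) ≠ 0 :=
    mul_ne_zero (sub_ne_zero.2 hane) (sub_ne_zero.2 (Ne.symm hcne))
  -- all multiples of `d`
  have hall : ∀ a : F, a • d ∈ WS hF (KK M) e B.ee := by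
    let Y : AddSubgroup F :=
      { carrier := {a | a • d ∈ WS hF (KK M) e B.ee}
        zero_mem' := by
          show (0 : F) • d ∈ WS hF (KK M) e B.ee
          rw [zero_smul]; exact AddSubgroup.zero_mem _
        add_mem' := fun {a b} ha hb => by
          show (a + b) • d ∈ WS hF (KK M) e B.ee
          rw [add_smul]; exact AddSubgroup.add_mem _ ha hb
        neg_mem' := fun {a} ha => by
          show (-a) • d ∈ WS hF (KK M) e B.ee
          rw [neg_smul]; exact AddSubgroup.neg_mem _ ha }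
    have hY : ∀ a, a ∈ Y ↔ a • d ∈ WS hF (KK M) e B.ee := fun a => Iff.rfl
    have hYmul : ∀ y ∈ Y, ∀ k : ℕ, (z ^ q * c) ^ k * y ∈ Y := by
      intro y hy k
      induction k with
      | zero => rwa [pow_zero, one_mul]
      | succ k ih =>
        obtain ⟨ν, hν⟩ := (hY _).1 ih
        have h2 := SM_eig hSM hS hν hSe (t := c) (by
          rw [hS.smul, hSd, smul_smul, smul_smul, RingAut.one_apply, mul_comm])
        refine (hY _).2 ⟨_, h2.congr rfl ?_ rfl⟩
        rw [smul_smul, pow_succ]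
        congr 1
        ring
    have hYne := (hY _).2 ⟨μ', h1⟩
    intro a
    rw [← hY]
    rcases hc with hc' | hc'
    · refine mem_of_cube Y ?_ ⟨z, hz0, hz2 3 (by omega) (by omega)⟩ hYne hne0 a
      intro c1 hc1 y hy
      obtain ⟨k, hk⟩ := hz1 c1 hc1
      have h3 := hYmul y hy ((2 * q + 1) * k)
      have e : (z ^ q * c) ^ ((2 * q + 1) * k) = c1 ^ 3 := by
        rw [pow_mul, ← hk, ← pow_mul z k 3, mul_comm k 3, pow_mul z 3 k]
        congr 1
        have e1 : (z ^ q * c) ^ (2 * q + 1) * z ^ (2 * q + 1) =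
            z ^ 3 * z ^ (2 * q + 1) := by
          rw [← mul_pow]
          have : z ^ q * c * z = z ^ q * z ^ q := by rw [hc']; field_simp
          rw [this, pow_succ, mul_comm 2 q, pow_mul, mul_pow (z ^ q) (z ^ q) q, pow_q_pow_q hF,
            pow_succ z (q * 2), pow_mul]
          ring
        exact mul_right_cancel₀ (pow_ne_zero _ hz0) e1
      rw [e] at h3
      exact h3
    · by_cases ha : a = 0
      · rw [ha]; exact Y.zero_mem
      · obtain ⟨k, hk⟩ := hz1 ((a / ((z ^ q * c - 1) * (1 - (ρ (z ^ q)⁻¹) ^ q * ρ c))) ^ q)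
          (pow_ne_zero _ (div_ne_zero ha hne0))
        have h3 := hYmul _ hYne k
        have e : (z ^ q * c) ^ k = a / ((z ^ q * c - 1) * (1 - (ρ (z ^ q)⁻¹) ^ q * ρ c)) := by
          conv_lhs => rw [hc', mul_one, ← pow_mul, mul_comm q k, pow_mul, hk, pow_q_pow_q hF]
        rw [e, div_mul_cancel₀ _ hne0] at h3
        exact h3
  -- the centre
  have hcen : ∀ ν : F, ν + ν ^ q = 0 → SM hF (KK M) e 0 ν := fun ν hν =>
    SM.center (w := d) (w' := d) one_ne_zero B.ee hall
      (by have := hall 1; rwa [one_smul] at this) B.dd hν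
  have htau : SM hF (KK M) e d μ := by
    obtain ⟨ν, hν⟩ := hall 1
    rw [one_smul] at hν
    have h3 : SM hF (KK M) e 0 (μ - ν) := by
      apply hcen
      obtain ⟨k', -⟩ := hν
      rw [sub_pow_q hF]
      linear_combination k.tr - k'.tr
    refine (hν.mul h3).congr rfl (add_zero _) ?_
    rw [herm_zero_left]
    ring
  have hwM : w ∈ LL M := by
    obtain ⟨k', hk'⟩ := htau
    have := mul_mem (inv_mem (mem_KK.1 hk')) hyM
    rwa [inv_mul_cancel_left] at this
  refine ⟨?_, hwM⟩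
  have he0 : e ≠ 0 := by
    intro h0
    have := B.ef
    rw [h0, herm_zero_left] at this
    exact zero_ne_one this
  have hfull : Full hF (KK M) e := by
    refine full_of_WS le_rfl B.ee he0 ?_
    intro x hx
    rw [B.expand x, hx, zero_smul, add_zero]
    exact AddSubgroup.add_mem _ (mem_WS_self _ _) (hall _)
  have hfull' : Full hF (KK M) f := by
    intro x ν hx
    have h2 : IsSiegel q e (w⁻¹ x) (ρ⁻¹ ν) := by
      have := isSiegel_map hw.inv hx
      rwa [hwif] at this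
    refine (SM_semi hwM hw (hfull _ _ h2)).congr hwe ?_ ?_
    · rw [← Equiv.Perm.mul_apply, mul_inv_cancel, Equiv.Perm.one_apply]
    · rw [← RingAut.mul_apply, mul_inv_cancel, RingAut.one_apply]
  exact eq_top_of_full le_rfl B.ee B.ff (by rw [B.ef]; exact one_ne_zero) hfull hfull'

end Cfsg.Agent.H450.GenU
end

-- part: H450/GenU/Main
section
/-!
# Every group between `PSU₃(q)` and its automorphism group is 2-generated (helper450, TEAM GEN H)
-/

set_option autoImplicit false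

namespace Cfsg.Agent.H450.GenU

open Cfsg Cfsg.Agent.LieClassical.HermBasic Cfsg.Agent.LieClassical.HermSiegel
  Cfsg.Agent.LieClassical.HermGen Cfsg.Agent.LieClassical.SUBasic
  Cfsg.Agent.ClassicalGeometry.PSUAutCount Cfsg.Agent.ClassicalGeometry.UnitAutBasic Matrix
open Cfsg.Agent.H903.SylSemi Cfsg.Agent.H177.MeetPSU Cfsg.Agent.H137.Herm
open Cfsg.Agent.H440.TwoGen

section aut

variable {F : Type} [Field F] [Fintype F] {q : ℕ}

omit [Fintype F] in
theorem SI.semi_inv {y : Equiv.Perm (Fin 3 → F)} (h : SI 3 q (1 : F ≃+* F) y) : Semi F y⁻¹ (1 : F ≃+* F) := by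
  have h1 := h.inv.1
  rwa [inv_one] at h1

omit [Fintype F] in
/-- Scalars of norm one. -/
theorem SI.scal {c : F} (hc : c * c ^ q = 1) (hc0 : c ≠ 0) :
    SI 3 q (1 : F ≃+* F) (scal F (Fin 3 → F) (Units.mk0 c hc0)) := by
  refine ⟨⟨fun u v => ?_, fun b v => ?_⟩, fun u v => ?_⟩
  · rw [scal_apply, scal_apply, scal_apply, smul_add]
  · rw [scal_apply, scal_apply, smul_comm]
    rfl
  · rw [scal_apply, scal_apply, herm_smul_left, herm_smul_right, Units.val_mk0, ← mul_assoc, hc, one_mul]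
    rfl

omit [Fintype F] in
theorem Dt.scal {c : F} (hc0 : c ≠ 0) : Dt (Cfsg.Agent.H903.SylSemi.scal F (Fin 3 → F) (Units.mk0 c hc0)) (c ^ 3) := by
  refine ⟨c • LinearMap.id, fun v => rfl, ?_⟩
  rw [LinearMap.det_smul, LinearMap.det_id, mul_one]
  simp

theorem scal_mem (M : Subgroup (MulAut (PSU 3 F q))) {c : F} (hc : c * c ^ q = 1) (hc0 : c ≠ 0) :
    scal F (Fin 3 → F) (Units.mk0 c hc0) ∈ LL M :=
  ⟨⟨_, SI.scal hc hc0⟩, 1, M.one_mem, ind_scal _⟩

/-- The elements of `LL H` with determinants differing by the cube of a scalar of norm one. -/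
theorem mem_of_dt {H : Subgroup (MulAut (PSU 3 F q))} (hH : ∀ x, MulAut.conj x ∈ H)
    {y y' : Equiv.Perm (Fin 3 → F)} (hy : SI 3 q (1 : F ≃+* F) y) (hy' : SI 3 q (1 : F ≃+* F) y') (hyH : y ∈ LL H)
    {δ : F} (h : Dt y δ) (h' : Dt y' δ) : y' ∈ LL H := by
  have hδ := h'.ne_zero hy'.semi_inv
  have h1 : SI 3 q (1 : F ≃+* F) (y' * y⁻¹) := by
    have := hy'.mul hy.inv
    rwa [inv_one, mul_one] at this
  have h2 : Dt (y' * y⁻¹) 1 := by
    have := h'.mul (h.inv hy.semi_inv)
    rwa [mul_inv_cancel₀ hδ] at this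
  obtain ⟨s, hs⟩ := exists_rho h1 h2
  have h3 : rho 3 F q s ∈ LL H := mem_KK.1 (mem_KK'.2 (hH _))
  rw [hs] at h3
  have := mul_mem h3 hyH
  rwa [inv_mul_cancel_right] at this

/-- **Main theorem.** -/
theorem twoGen_of_inn (hF : Fintype.card F = q ^ 2) (hq : 3 ≤ q) (H : Subgroup (MulAut (PSU 3 F q)))
    (hH : ∀ x, MulAut.conj x ∈ H) : TwoGen ↥H := by
  classical
  obtain ⟨e, f, d, B⟩ := exists_fr (q := q) hF
  obtain ⟨z, hz0, hz1, hz2⟩ := exists_gen hF
  have hqq : 3 * q ≤ q ^ 2 := by rw [pow_two]; exact Nat.mul_le_mul_right q hq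
  have hzq : z ^ q ≠ 0 := pow_ne_zero _ hz0
  have hrho : ∀ s, rho 3 F q s ∈ LL H := fun s => mem_KK.1 (mem_KK'.2 (hH _))
  -- the field automorphisms
  have hcyc : IsCyclic (F ≃+* F) := Cfsg.Agent.H206.FieldKill.isCyclic_aut F
  let R : Subgroup (F ≃+* F) :=
    { carrier := {ρ | ∃ y ∈ LL H, SI 3 q ρ y}
      mul_mem' := by
        rintro ρ ρ' ⟨y, h1, h2⟩ ⟨y', h1', h2'⟩
        exact ⟨_, mul_mem h1 h1', h2.mul h2'⟩
      one_mem' := ⟨1, one_mem _, SI.one⟩
      inv_mem' := by
        rintro ρ ⟨y, h1, h2⟩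
        exact ⟨_, inv_mem h1, h2.inv⟩ }
  have hR : ∀ ρ, ρ ∈ R ↔ ∃ y ∈ LL H, SI 3 q ρ y := fun _ => Iff.rfl
  obtain ⟨⟨ρ0, hρ0⟩, hgen⟩ := IsCyclic.exists_generator (α := ↥R)
  obtain ⟨y0, hy0, hy0I⟩ := (hR _).1 hρ0
  -- the element `σ` and the determinant
  obtain ⟨σ, hσ, hσe, hσf, hσd⟩ := exists_mono hF ρ0 B B
  have hyσ : SI 3 q (1 : F ≃+* F) (y0 * σ⁻¹) := by
    have := hy0I.mul hσ.inv
    rwa [mul_inv_cancel] at this
  obtain ⟨δ, hδ⟩ := Dt.exists hyσ.1
  have hδ0 : δ ≠ 0 := hδ.ne_zero hyσ.semi_inv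
  have hδq : δ ^ (q + 1) = 1 := hδ.norm hF hyσ
  have hb : (-δ) * (-δ) ^ q = 1 := by
    rw [neg_pow_q hF, neg_mul_neg, ← pow_succ', hδq]
  have hb0 : -δ ≠ 0 := neg_ne_zero.2 hδ0
  obtain ⟨w, hw, hwe, hwf, hwd⟩ := exists_mono hF ρ0 B (B.swap hb)
  have hσi : ∀ v, σ⁻¹ (σ v) = v := fun v => by
    rw [← Equiv.Perm.mul_apply, inv_mul_cancel, Equiv.Perm.one_apply]
  have hwσ : SI 3 q (1 : F ≃+* F) (w * σ⁻¹) := by
    have := hw.mul hσ.inv
    rwa [mul_inv_cancel] at this
  have hwσd : Dt (w * σ⁻¹) δ := by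
    have h := B.dt_swap hwσ (c := -δ) (by
      rw [Equiv.Perm.mul_apply, ← hwe]
      conv_lhs => rw [← hσe, hσi]) (by
      rw [Equiv.Perm.mul_apply, ← hwf]
      conv_lhs => rw [← hσf, hσi]) (by
      rw [Equiv.Perm.mul_apply, ← hwd]
      conv_lhs => rw [← hσd, hσi])
    rwa [neg_neg] at h
  have hwH : w ∈ LL H := by
    have h1 : SI 3 q (1 : F ≃+* F) (w * y0⁻¹) := by
      have := hw.mul hy0I.inv
      rwa [mul_inv_cancel] at this
    have h2 : Dt (w * y0⁻¹) 1 := by
      have h3 := hwσd.mul (hδ.inv hyσ.semi_inv)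
      rw [mul_inv_cancel₀ hδ0] at h3
      have h4 : (w * σ⁻¹) * (y0 * σ⁻¹)⁻¹ = w * y0⁻¹ := by group
      rwa [h4] at h3
    obtain ⟨s, hs⟩ := exists_rho h1 h2
    have h3 := mul_mem (hrho s) hy0
    rwa [hs, inv_mul_cancel_right] at h3
  -- the generator of the norm one group
  set g0 : F := z ^ q * z⁻¹ with hg0
  have hg00 : g0 ≠ 0 := mul_ne_zero hzq (inv_ne_zero hz0)
  have hg0n : g0 * g0 ^ q = 1 := by
    rw [hg0, mul_pow, pow_q_pow_q hF, inv_pow]
    field_simp
  have hg0gen : ∀ x : F, x ^ (q + 1) = 1 → ∃ j : ℕ, x = g0 ^ j := by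
    intro x hx
    have hx0 : x ≠ 0 := by
      rintro rfl
      rw [zero_pow (by omega)] at hx
      exact zero_ne_one hx
    obtain ⟨k, hk⟩ := hz1 x hx0
    rw [← hk, ← pow_mul] at hx
    -- `q^2 - 1 ∣ k (q+1)`
    have hord : (q ^ 2 - 1) ∣ k * (q + 1) := by
      by_contra hnd
      have h1 : z ^ (k * (q + 1) % (q ^ 2 - 1)) = 1 := by
        have h2 : z ^ (q ^ 2 - 1) = 1 := by
          have := FiniteField.pow_card_sub_one_eq_one z hz0
          rwa [hF] at this
        have h3 := hx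
        rw [← Nat.div_add_mod (k * (q + 1)) (q ^ 2 - 1), pow_add, pow_mul, h2, one_pow, one_mul] at h3
        exact h3
      refine hz2 _ (Nat.pos_of_ne_zero fun h0 => hnd (Nat.dvd_of_mod_eq_zero h0)) (Nat.mod_lt _ (by omega)) h1
    have hfac : q ^ 2 - 1 = (q - 1) * (q + 1) := by
      have := Nat.sq_sub_sq q 1
      rw [one_pow] at this
      rw [this, mul_comm]
    rw [hfac] at hord
    obtain ⟨j, hj⟩ := Nat.dvd_of_mul_dvd_mul_right (by omega : 0 < q + 1) hord
    refine ⟨j, ?_⟩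
    rw [← hk, hj, pow_mul]
    congr 1
    have h5 : z ^ (q - 1) * z = z ^ q := by rw [← pow_succ, Nat.sub_add_cancel (by omega)]
    rw [hg0, ← h5, mul_inv_cancel_right₀ hz0]
  -- the torus element
  obtain ⟨c, hc, S, hS, hSe, hSf, hSd, hSH, hSgen⟩ : ∃ c : F, (c = z ^ q * z⁻¹ ∨ c = 1) ∧
      ∃ S : Equiv.Perm (Fin 3 → F), SI 3 q (1 : F ≃+* F) S ∧ S e = z • e ∧ S f = (z ^ q)⁻¹ • f ∧ S d = c • d ∧
        S ∈ LL H ∧ ∀ y : Equiv.Perm (Fin 3 → F), SI 3 q (1 : F ≃+* F) y → y ∈ LL H →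
          ∃ (a : F) (_ : a * a ^ q = 1) (ha : a ≠ 0) (j : ℕ) (s : SU 3 F q),
            y = rho 3 F q s * S⁻¹ ^ j * scal F (Fin 3 → F) (Units.mk0 a ha) := by
    by_cases hcase : ∀ y : Equiv.Perm (Fin 3 → F), SI 3 q (1 : F ≃+* F) y → y ∈ LL H →
        ∃ (a : F) (_ : a * a ^ q = 1) (_ : a ≠ 0), Dt y (a ^ 3)
    · obtain ⟨S, hS, hSe, hSf, hSd⟩ := exists_mono hF (1 : F ≃+* F) B (B.scale hF hz0 hg0n)
      have hSdt : Dt S 1 := by
        have h := B.dt_diag hS hSe hSf hSd
        have h2 : z * (z ^ q)⁻¹ * g0 = 1 := by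
          rw [hg0]; field_simp
        rwa [h2] at h
      obtain ⟨s, hs⟩ := exists_rho hS hSdt
      refine ⟨g0, Or.inl rfl, S, hS, hSe, hSf, hSd, by rw [← hs]; exact hrho s, ?_⟩
      intro y hy hyH
      obtain ⟨a, ha1, ha0, ha⟩ := hcase y hy hyH
      have hsc := SI.scal (q := q) ha1 ha0
      have h1 : SI 3 q (1 : F ≃+* F) (y * (scal F (Fin 3 → F) (Units.mk0 a ha0))⁻¹) := by
        have := hy.mul hsc.inv
        rwa [inv_one, mul_one] at this
      have h2 : Dt (y * (scal F (Fin 3 → F) (Units.mk0 a ha0))⁻¹) 1 := by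
        have := ha.mul ((Dt.scal ha0).inv hsc.semi_inv)
        rwa [mul_inv_cancel₀ (pow_ne_zero 3 ha0)] at this
      obtain ⟨t, ht⟩ := exists_rho h1 h2
      refine ⟨a, ha1, ha0, 0, t, ?_⟩
      rw [ht, pow_zero, mul_one, inv_mul_cancel_right]
    · push Not at hcase
      obtain ⟨y1, hy1, hy1H, hy1c⟩ := hcase
      obtain ⟨δ1, hδ1⟩ := Dt.exists hy1.1
      obtain ⟨j1, hj1⟩ := hg0gen δ1 (hδ1.norm hF hy1)
      -- `3 ∤ j1`
      have h3 : ¬ 3 ∣ j1 := by
        rintro ⟨l, rfl⟩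
        refine hy1c (g0 ^ l) ?_ (pow_ne_zero _ hg00) ?_
        · rw [← pow_mul, mul_comm l q, pow_mul, ← mul_pow, hg0n, one_pow]
        · rw [← pow_mul, mul_comm l 3, ← hj1]
          exact hδ1
      -- an element of determinant `g0`
      have hg0q : g0 ^ (q + 1) = 1 := by rw [pow_succ']; exact hg0n
      obtain ⟨a, b, hab⟩ : ∃ a b : ℕ, g0 ^ (j1 * a + 3 * b) = g0 := by
        have hco : Nat.Coprime j1 3 := ((Nat.Prime.coprime_iff_not_dvd Nat.prime_three).2 h3).symm
        have hbez := Nat.gcd_eq_gcd_ab j1 3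
        rw [hco.gcd_eq_one] at hbez
        set A := Nat.gcdA j1 3
        set C := Nat.gcdB j1 3
        refine ⟨(A % ((q : ℤ) + 1)).toNat, (C % ((q : ℤ) + 1)).toNat, ?_⟩
        have hmod : ((j1 * (A % ((q : ℤ) + 1)).toNat + 3 * (C % ((q : ℤ) + 1)).toNat : ℕ) : ℤ) ≡ 1 [ZMOD (q + 1)] := by
          have hq1 : ((q : ℤ) + 1) ≠ 0 := by positivity
          push_cast
          rw [Int.toNat_of_nonneg (Int.emod_nonneg _ hq1), Int.toNat_of_nonneg (Int.emod_nonneg _ hq1)]
          have e1 : (j1 : ℤ) * (A % ((q : ℤ) + 1)) + 3 * (C % ((q : ℤ) + 1)) ≡ j1 * A + 3 * C [ZMOD (q + 1)] :=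
            ((Int.mod_modEq A _).mul_left _).add ((Int.mod_modEq C _).mul_left _)
          refine e1.trans ?_
          rw [← (by exact_mod_cast hbez : (1 : ℤ) = j1 * A + 3 * C)]
        have hmod' : (j1 * (A % ((q : ℤ) + 1)).toNat + 3 * (C % ((q : ℤ) + 1)).toNat) ≡ 1 [MOD (q + 1)] := by
          rw [← Int.natCast_modEq_iff]
          exact_mod_cast hmod
        have hunit : ∀ m n : ℕ, m ≡ n [MOD (q + 1)] → g0 ^ m = g0 ^ n := by
          intro m n hmn
          rw [← Nat.div_add_mod m (q + 1), ← Nat.div_add_mod n (q + 1), pow_add, pow_add, pow_mul, pow_mul, hg0q,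
            one_pow, one_pow]
          have : m % (q + 1) = n % (q + 1) := hmn
          rw [this]
        have := hunit _ _ hmod'
        rwa [pow_one] at this
      set y2 : Equiv.Perm (Fin 3 → F) := y1 ^ a * (scal F (Fin 3 → F) (Units.mk0 g0 hg00)) ^ b with hy2
      have hpowSI : ∀ {y : Equiv.Perm (Fin 3 → F)}, SI 3 q (1 : F ≃+* F) y → ∀ m : ℕ, SI 3 q (1 : F ≃+* F) (y ^ m) := by
        intro y hy m
        induction m with
        | zero => rw [pow_zero]; exact SI.one
        | succ m ih =>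
          rw [pow_succ]
          have := ih.mul hy
          rwa [mul_one] at this
      have hy2I : SI 3 q (1 : F ≃+* F) y2 := by
        have := (hpowSI hy1 a).mul (hpowSI (SI.scal (q := q) hg0n hg00) b)
        rwa [mul_one] at this
      have hy2H : y2 ∈ LL H := mul_mem (pow_mem hy1H _) (pow_mem (scal_mem H hg0n hg00) _)
      have hy2d : Dt y2 g0 := by
        have h5 := (hδ1.pow a).mul ((Dt.scal hg00).pow b)
        rw [hj1, ← pow_mul, ← pow_mul, ← pow_add, hab] at h5
        exact h5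
      obtain ⟨S, hS, hSe, hSf, hSd⟩ := exists_mono hF (1 : F ≃+* F) B
        (B.scale hF (c := 1) hz0 (by rw [one_pow, one_mul]))
      have hSdt : Dt S g0⁻¹ := by
        have h := B.dt_diag hS hSe hSf hSd
        have h2 : z * (z ^ q)⁻¹ * 1 = g0⁻¹ := by
          rw [hg0]; field_simp
        rwa [h2] at h
      have hSi : SI 3 q (1 : F ≃+* F) S⁻¹ := by
        have := hS.inv
        rwa [inv_one] at this
      have hSdi : Dt S⁻¹ g0 := by
        have := hSdt.inv hS.semi_inv
        rwa [inv_inv] at this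
      have hSH : S⁻¹ ∈ LL H := mem_of_dt hH hy2I hSi hy2H hy2d hSdi
      refine ⟨1, Or.inr rfl, S, hS, hSe, hSf, hSd, by have := inv_mem hSH; rwa [inv_inv] at this, ?_⟩
      intro y hy hyH
      obtain ⟨δ2, hδ2⟩ := Dt.exists hy.1
      obtain ⟨j, hj⟩ := hg0gen δ2 (hδ2.norm hF hy)
      have h1 : SI 3 q (1 : F ≃+* F) (y * (S⁻¹ ^ j)⁻¹) := by
        have := hy.mul (hpowSI hSi j).inv
        rwa [inv_one, mul_one] at this
      have h2 : Dt (y * (S⁻¹ ^ j)⁻¹) 1 := by
        have h6 := hδ2.mul ((hSdi.pow j).inv (hpowSI hSi j).semi_inv)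
        rwa [hj, mul_inv_cancel₀ (pow_ne_zero _ hg00)] at h6
      obtain ⟨t, ht⟩ := exists_rho h1 h2
      refine ⟨1, by rw [one_pow, one_mul], one_ne_zero, j, t, ?_⟩
      rw [ht, inv_mul_cancel_right]
      have : Units.mk0 (1 : F) one_ne_zero = 1 := by ext; rfl
      rw [this, map_one, mul_one]
  -- the Siegel element
  obtain ⟨μ, hμ⟩ := exists_trace_eq hF (c := (-1 : F)) (by rw [neg_pow_q hF, one_pow])
  have k : IsSiegel q e d μ := ⟨B.ee, B.de, by rw [B.dd, hμ]; ring⟩
  have htH : rho 3 F q (siegel hF e d μ k) * w ∈ LL H := mul_mem (hrho _) hwH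
  obtain ⟨-, β1, hβ1, hi1⟩ := hSH
  obtain ⟨-, β2, hβ2, hi2⟩ := htH
  refine Cfsg.Agent.H136.TwoGen.of_ambient H ⟨β1, β2, hβ1, hβ2, ?_⟩
  set M : Subgroup (MulAut (PSU 3 F q)) := Subgroup.closure {β1, β2} with hM
  have hSM : S ∈ LL M := ⟨⟨_, hS⟩, β1, Subgroup.subset_closure (by simp), hi1⟩
  have htM : rho 3 F q (siegel hF e d μ k) * w ∈ LL M :=
    ⟨⟨_, (SI.rho _).mul hw⟩, β2, Subgroup.subset_closure (by simp), hi2⟩
  obtain ⟨htop, hwM⟩ := gen_core hF hq B hz0 hz1 hz2 hS hSe hSf hSd hw hwe hwf hwd hb0 hc k hSM htM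
  have hrhoM : ∀ s, rho 3 F q s ∈ LL M := fun s => mem_KK.1 (by rw [htop]; trivial)
  intro β hβ
  obtain ⟨A, θ, hA⟩ := ClassicalGeometry.PSUAutMain.exists_toAut hF le_rfl (by omega) β
  have hyI : SI 3 q θ (yy A θ) := SI.yy A θ
  have hyH : yy A θ ∈ LL H := ⟨⟨_, hyI⟩, β, hβ, by rw [hA]; exact ind_yy A θ⟩
  -- the field part
  obtain ⟨m, hm⟩ := hgen ⟨θ, (hR θ).2 ⟨_, hyH, hyI⟩⟩
  have hm' : ρ0 ^ m = θ := congrArg Subtype.val hm
  have hzpow : ∀ m : ℤ, SI 3 q (ρ0 ^ m) (w ^ m) := by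
    intro m
    induction m using Int.induction_on with
    | zero => rw [zpow_zero, zpow_zero]; exact SI.one
    | succ i ih => rw [_root_.zpow_add_one, _root_.zpow_add_one]; exact ih.mul hw
    | pred i ih => rw [_root_.zpow_sub_one, _root_.zpow_sub_one]; exact ih.mul hw.inv
  have h1 : SI 3 q (1 : F ≃+* F) (yy A θ * (w ^ m)⁻¹) := by
    have := hyI.mul (hzpow m).inv
    rwa [hm', mul_inv_cancel] at this
  obtain ⟨a, ha1, ha0, j, s, hs⟩ := hSgen _ h1 (mul_mem hyH (inv_mem (zpow_mem hwH m)))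
  have h2 : yy A θ * (w ^ m)⁻¹ ∈ LL M := by
    rw [hs]
    exact mul_mem (mul_mem (hrhoM s) (pow_mem (inv_mem hSM) j)) (scal_mem M ha1 ha0)
  have h3 : yy A θ ∈ LL M := by
    have := mul_mem h2 (zpow_mem hwM m)
    rwa [inv_mul_cancel_right] at this
  obtain ⟨-, β', hβ', hi⟩ := h3
  rw [hA, ← Ind.unique pr_surjective rho_injective hi (ind_yy A θ)]
  exact hβ'

end aut

/-! ### From an abstract almost simple group to a subgroup of `Aut` -/

/-- `G` with a normal subgroup `T ≃* P` of trivial centraliser is isomorphic to a subgroup of `Aut P` containing the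
inner automorphisms. -/
theorem exists_sub {G P : Type*} [Group G] [Group P] (T : Subgroup G) [T.Normal]
    (hc : Subgroup.centralizer (T : Set G) = ⊥) (e : ↥T ≃* P) :
    ∃ H : Subgroup (MulAut P), (∀ x, MulAut.conj x ∈ H) ∧ Nonempty (G ≃* ↥H) := by
  let φ : G →* MulAut P := (MulAut.congr e).toMonoidHom.comp MulAut.conjNormal
  have hφ : ∀ g x, φ g x = e (MulAut.conjNormal g (e.symm x)) := fun _ _ => rfl
  have hinj : Function.Injective φ := by
    rw [injective_iff_map_eq_one]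
    intro g hg
    have h1 : g ∈ Subgroup.centralizer (T : Set G) := by
      rw [Subgroup.mem_centralizer_iff]
      intro t ht
      have h2 : φ g (e ⟨t, ht⟩) = e ⟨t, ht⟩ := by rw [hg]; rfl
      rw [hφ, e.symm_apply_apply] at h2
      have h3 := congrArg Subtype.val (e.injective h2)
      rw [MulAut.conjNormal_apply] at h3
      have h4 : g * t * g⁻¹ = t := h3
      rw [mul_inv_eq_iff_eq_mul] at h4
      exact h4.symm
    rw [hc, Subgroup.mem_bot] at h1
    exact h1
  refine ⟨φ.range, fun x => ⟨(e.symm x : G), ?_⟩, ⟨MonoidHom.ofInjective hinj⟩⟩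
  ext y
  rw [hφ]
  have h1 : MulAut.conjNormal ((e.symm x : ↥T) : G) (e.symm y) = e.symm x * e.symm y * (e.symm x)⁻¹ := by
    apply Subtype.ext
    rw [MulAut.conjNormal_apply]
    rfl
  rw [h1, map_mul, map_mul, map_inv, e.apply_symm_apply, e.apply_symm_apply]
  rfl

/-- **TEAM GEN H**: the row `psu` of `ASRows`. -/
theorem row_psu {G : Type*} {Ω : Type*} [Group G] [MulAction G Ω] (T : Subgroup G)
    (A : Cfsg.Agent.H384.TwoTrans.AS G Ω T) (F : Type) [Field F] [Fintype F] (q : ℕ) (hq : 3 ≤ q)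
    (hF : Fintype.card F = q ^ 2) (e : Nonempty (↥T ≃* Cfsg.PSU 3 F q)) : TwoGen G := by
  obtain ⟨e⟩ := e
  have := A.normal
  obtain ⟨H, hH, ⟨f⟩⟩ := exists_sub T A.cent e
  exact (twoGen_of_inn hF hq H hH).of_equiv f.symm

end Cfsg.Agent.H450.GenU
end
end
end
end
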