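import Mathlib
import Cfsg.Agent.H487.Gen.SporRows_mg_m3
import Cfsg.Agent.H891.Gen.LinRows
import Cfsg.Agent.BpAlt.Row
import Cfsg.Agent.LieRecognition.FieldSemilinear
import Cfsg.Agent.PermutationGroups.AutQuaternion
import Cfsg.Agent.H440.TwoGen.Basic
import Cfsg.Agent.H490.Der_m3
import Cfsg.Agent.S2602
import Cfsg.Agent.Lib.Hoist
import Cfsg.Agent.H382.FieldAction
import Cfsg.Agent.H353.TwoLong_m3
import Cfsg.Agent.H994.TwoGen.Chain
import Cfsg.Agent.H484.GenSpRow
import Cfsg.Agent.S0247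
import Cfsg.Agent.S0814
import Cfsg.Agent.S2411
import Cfsg.Agent.S0737
import Cfsg.Agent.H961.LinePSU3
import Cfsg.Agent.H392.TwFFour.Final
import Cfsg.Agent.H609.ClassTwoOut_m3
import Cfsg.Agent.Lib.PermCode
import Cfsg.Agent.FastGrp
import Cfsg.Agent.Prune
set_option linter.all false

section
prune_inst 0x7fb0a8f9abb829dfffff7e7fa6d4cffc19909fffe6dff94bbfe021ff0b9f030209c52b8509e010fe0e96401410b87853f97eceffa06bdc7ffffd5ff41ffbec1f856fb50c5196a8340fbc6fff93f0778e7f3fffffffffffffffffffffffffffbeffbdffbfffff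

-- part: H490/GenSL_mg
section
prune_inst 0x4000020040800000000000000000000000000000000000400040000000000000000000000000000000000000000000040000004000000000000000000002006090000000000000000000000000000000000000000000000000000000000000000200400000
set_option linter.all false
open scoped Cfsg.Agent.FastGrp

-- part: H490/Stein
section
/-!
# The (twisted) Steinberg trick, abstract form (helper490)

`A` a subgroup of `Γ` (a root group), `h` (a torus element), `n` an element with `h' = n h n⁻¹` commuting with `h`, both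
normalising `A`; `u ∈ A`, `y = u n`.  Then `[h, y h y⁻¹] = [h, a] ∈ A` with `a = [u, h']`; if the conjugates of this
element under the powers of `h` generate a group containing `A` then `⟨h, y⟩` contains `A` and `n`.
-/

set_option autoImplicit false

namespace Cfsg.Agent.H490.Stein

open Subgroup

variable {Γ : Type*} [Group Γ]

theorem comm_eq {h n u : Γ} (hc : Commute h (n * h * n⁻¹)) :
    h * ((u * n) * h * (u * n)⁻¹) * h⁻¹ * ((u * n) * h * (u * n)⁻¹)⁻¹ =
      h * (u * (n * h * n⁻¹) * u⁻¹ * (n * h * n⁻¹)⁻¹) * h⁻¹ * (u * (n * h * n⁻¹) * u⁻¹ * (n * h * n⁻¹)⁻¹)⁻¹ := by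
  set k := n * h * n⁻¹ with hk
  have h1 : (u * n) * h * (u * n)⁻¹ = u * k * u⁻¹ := by rw [hk]; group
  rw [h1]
  have h2 : k * h⁻¹ * k⁻¹ = h⁻¹ := by
    have : k * h⁻¹ = h⁻¹ * k := ((Commute.inv_left hc).eq).symm
    rw [this]; group
  calc h * (u * k * u⁻¹) * h⁻¹ * (u * k * u⁻¹)⁻¹
      = h * (u * k * u⁻¹ * k⁻¹) * (k * h⁻¹ * k⁻¹) * (u * k * u⁻¹ * k⁻¹)⁻¹ := by group
    _ = _ := by rw [h2]

end Cfsg.Agent.H490.Stein
end

-- part: H490/SmallSL
section
/-!
# TEAM GEN: few derivations for the natural module of `SL_d(q)` (helper490)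
-/

set_option autoImplicit false

namespace Cfsg.Agent.H490.SmallSL

open Matrix Cfsg.Agent.H490 Cfsg.Agent.H891.Gen Cfsg.Agent.H99.GenSL Cfsg.Agent.H490.Der
open scoped Fin.NatCast Fin.CommRing

section Pair

variable {F : Type*} [Field F] {n : ℕ} {Γ : Type*} [Group Γ] {j : GL (Fin (n + 1)) F →* Γ} {σ : F ≃+* F} {f : Γ}

/-- the Steinberg pair with prescribed diagonal element (extracted from `H99.GenSL.lift_gl`) -/
theorem range_le_closure [Fintype F] (hn : 1 ≤ n)
    (hf : ∀ A, f * j A * f⁻¹ = j (GeneralLinearGroup.map (σ : F →+* F) A))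
    (hj' : ∀ s t : F, j (tv (ne_succ hn 0) s) = j (tv (ne_succ hn 0) t) → s = t)
    {M : GL (Fin (n + 1)) F} {m : Fin (n + 1) → Fˣ} (hM : Mono M (cyc n) m) {c : Fin (n + 1) → Fˣ} {z : Fˣ}
    (hz : ∀ u : Fˣ, u ∈ Subgroup.zpowers z) (hc01 : c 0 = c 1 * z ∨ c 0 = c 1 * z ^ 2) (hcne : c 0 ≠ c 1)
    (hcl : c (Fin.last n) ≠ c 0) :
    (j.comp SpecialLinearGroup.toGL).range ≤
      Subgroup.closure ({j (dg c), j (tv (ne_succ hn 0) 1) * (j M * f)} : Set Γ) := by
  have hw : (j M * f) * j (dg c) * (j M * f)⁻¹ =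
      j (dg fun i => Units.map ((σ : F →+* F) : F →* F) (c ((cyc n).symm i))) := by
    rw [conj_w hf, map_dg, conj_dg hM]
  set c' : Fin (n + 1) → Fˣ := fun i => Units.map ((σ : F →+* F) : F →* F) (c ((cyc n).symm i)) with hc'
  have hconj : ∀ s : F, j (dg c) * j (tv (ne_succ hn 0) s) * (j (dg c))⁻¹ =
      j (tv (ne_succ hn 0) ((c 0 : F) * ((c (0 + 1))⁻¹ : Fˣ) * s)) := by
    intro s
    rw [← map_mul, ← map_inv, ← map_mul, conj_dg_tv]
    congr 2
    ring
  have hconj' : ∀ s : F, j (dg c') * j (tv (ne_succ hn 0) s) * (j (dg c'))⁻¹ =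
      j (tv (ne_succ hn 0) ((c' 0 : F) * s * ((c' (0 + 1))⁻¹ : Fˣ))) := by
    intro s
    rw [← map_mul, ← map_inv, ← map_mul, conj_dg_tv]
  have ha : (c 0 : F) * ((c (0 + 1))⁻¹ : Fˣ) = z ∨ (c 0 : F) * ((c (0 + 1))⁻¹ : Fˣ) = (z : F) ^ 2 := by
    rw [zero_add]
    rcases hc01 with h3 | h3
    · left
      rw [h3, ← Units.val_mul, mul_comm (c 1), mul_inv_cancel_right]
    · right
      rw [h3, ← Units.val_mul, mul_comm (c 1), mul_inv_cancel_right, Units.val_pow_eq_pow_val]
  have ha1 : (c 0 : F) * ((c (0 + 1))⁻¹ : Fˣ) ≠ 1 := by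
    rw [← Units.val_mul]
    intro e
    apply hcne
    have h3 : c 0 * (c (0 + 1))⁻¹ = 1 := Units.ext e
    rw [zero_add, mul_inv_eq_one] at h3
    exact h3
  have hc'1 : c' 0 ≠ c' (0 + 1) := by
    intro e
    apply hcl
    have h3 : (cyc n).symm 0 = Fin.last n := by
      rw [Equiv.symm_apply_eq]
      exact (Fin.last_add_one n).symm
    have h4 : c' 0 = Units.map ((σ : F →+* F) : F →* F) (c (Fin.last n)) := by
      show Units.map ((σ : F →+* F) : F →* F) (c ((cyc n).symm 0)) = _
      rw [h3]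
    have h5 : c' (0 + 1) = Units.map ((σ : F →+* F) : F →* F) (c 0) := by
      show Units.map ((σ : F →+* F) : F →* F) (c ((cyc n).symm (0 + 1))) = _
      rw [cyc_symm_apply]
    rw [h4, h5] at e
    have h6 := congrArg Units.val e
    exact Units.ext (σ.injective h6)
  have key := Cfsg.Agent.H136.TwoGen.torus_trick
    (Subgroup.closure ({j (dg c), j (tv (ne_succ hn 0) 1) * (j M * f)} : Set Γ)) (X j hn) (h := j (dg c))
    (w := j M * f) (u := j (tv (ne_succ hn 0) 1)) (Subgroup.subset_closure (by simp))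
    (Subgroup.subset_closure (by simp)) ⟨1, rfl⟩
    (by
      rintro _ ⟨s, rfl⟩
      rw [hw]
      exact ⟨_, hconj' s⟩)
    (by
      rintro _ ⟨s, rfl⟩
      rw [hw]
      refine ⟨((c' 0)⁻¹ : Fˣ) * s * (c' (0 + 1)), ?_⟩
      have h3 := hconj' (((c' 0)⁻¹ : Fˣ) * s * (c' (0 + 1)))
      have h4 : (c' 0 : F) * (((c' 0)⁻¹ : Fˣ) * s * (c' (0 + 1))) * ((c' (0 + 1))⁻¹ : Fˣ) = s := by
        rw [← mul_assoc, ← mul_assoc, Units.mul_inv, one_mul, Units.mul_inv_cancel_right]
      rw [h4] at h3
      rw [← h3]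
      group)
    (fun Y hY hhY => X_irr j hn hz ha hconj Y hY hhY)
    ⟨j (tv (ne_succ hn 0) 1), ⟨1, rfl⟩, by
      intro e
      have h3 := hconj 1
      rw [e, mul_inv_cancel_right] at h3
      have h4 := hj' _ _ h3
      rw [mul_one] at h4
      exact ha1 h4.symm⟩
    (by
      rintro _ ⟨s, rfl⟩
      exact ⟨_, hconj s⟩)
    (by
      rw [hw, ← map_mul, ← map_mul, dg_comm])
    (by
      rw [hw]
      intro e
      have h3 := hconj' 1
      rw [e, mul_inv_cancel_right] at h3
      have h4 := hj' _ _ h3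
      rw [mul_one, ← Units.val_mul] at h4
      apply hc'1
      rw [← mul_inv_eq_one]
      exact (Units.ext h4).symm)
  exact range_le hn hf hM _ key.1 key.2

end Pair

/-! ### the action of `SL` on column vectors -/

section Act

variable {ι F : Type*} [Fintype ι] [DecidableEq ι] [Field F]

/-- `SL` acts on column vectors -/
@[reducible] def actSL : DistribMulAction (_root_.Matrix.SpecialLinearGroup ι F) (ι → F) where
  smul g v := (g.1 : Matrix ι ι F) *ᵥ v
  one_smul v := one_mulVec v
  mul_smul g h v := (mulVec_mulVec v g.1 h.1).symm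
  smul_zero _ := mulVec_zero _
  smul_add _ _ _ := mulVec_add _ _ _

attribute [local instance] actSL

theorem smul_def (g : _root_.Matrix.SpecialLinearGroup ι F) (v : ι → F) : g • v = (g.1 : Matrix ι ι F) *ᵥ v := rfl

theorem closure_eq_top {x y : _root_.Matrix.SpecialLinearGroup ι F} {x' y' : GL ι F} (hx : SpecialLinearGroup.toGL x = x')
    (hy : SpecialLinearGroup.toGL y = y')
    (h : ((MonoidHom.id (GL ι F)).comp SpecialLinearGroup.toGL).range ≤ Subgroup.closure ({x', y'} : Set (GL ι F))) :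
    Subgroup.closure ({x, y} : Set (_root_.Matrix.SpecialLinearGroup ι F)) = ⊤ := by
  apply Subgroup.map_injective (f := SpecialLinearGroup.toGL (n := ι) (R := F)) SpecialLinearGroup.toGL_injective
  rw [MonoidHom.map_closure, Set.image_pair, hx, hy]
  refine le_antisymm ?_ ?_
  · rw [Subgroup.closure_le]
    rintro z (rfl | hz)
    · exact ⟨x, Subgroup.mem_top _, hx⟩
    · rw [Set.mem_singleton_iff] at hz
      subst hz
      exact ⟨y, Subgroup.mem_top _, hy⟩
  · rw [← MonoidHom.range_eq_map]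
    exact h

theorem exists_toGL {A : GL ι F} (hA : GeneralLinearGroup.det A = 1) :
    ∃ a : _root_.Matrix.SpecialLinearGroup ι F, SpecialLinearGroup.toGL a = A :=
  ⟨⟨A.1, congrArg Units.val hA⟩, Units.ext rfl⟩

end Act

section Main

variable {F : Type*} [Field F] [Fintype F] {n : ℕ}

attribute [local instance] actSL

omit [Fintype F] in
theorem det_tv (hn : 1 ≤ n) (s : F) : GeneralLinearGroup.det (tv (ne_succ hn 0) s) = 1 := by
  apply Units.ext
  exact Matrix.det_transvection_of_ne _ _ (ne_succ hn 0) s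

omit [Fintype F] in
theorem tv_smul (hn : 1 ≤ n) {s : F} (hs : s ≠ 0) {x : _root_.Matrix.SpecialLinearGroup (Fin (n + 1)) F}
    (hx : SpecialLinearGroup.toGL x = tv (ne_succ hn 0) s) :
    x • (Pi.single (0 + 1) 1 : Fin (n + 1) → F) ≠ Pi.single (0 + 1) 1 := by
  have h1 : x.1 = 1 + single 0 (0 + 1) s := by
    have := congrArg Units.val hx
    exact this
  intro h
  rw [smul_def, h1, add_mulVec, one_mulVec, add_eq_left] at h
  have h2 := congrFun h 0
  rw [mulVec_single_one] at h2
  simp at h2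
  exact hs h2

/-- `SL_d(q)` has few derivations on its natural module. -/
theorem small_sl (hn : 1 ≤ n) (h2 : n = 1 → 4 ≤ Fintype.card F) :
    Cfsg.Agent.H891.Gen.Small (_root_.Matrix.SpecialLinearGroup (Fin (n + 1)) F) (Fin (n + 1) → F) := by
  classical
  obtain ⟨p, hp⟩ := CharP.exists F
  obtain ⟨k, hpp, hcard⟩ := FiniteField.card F p
  have hV : ∀ v : Fin (n + 1) → F, p • v = 0 := by
    intro v
    ext i
    rw [Pi.smul_apply, nsmul_eq_mul, CharP.cast_eq_zero F p, zero_mul, Pi.zero_apply]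
  -- the monomial element
  obtain ⟨W, hW⟩ := exists_mono (F := F) (cyc n) (fun _ => 1)
  obtain ⟨m, M, hM, hMd⟩ : ∃ (m : Fin (n + 1) → Fˣ) (M : GL (Fin (n + 1)) F), Mono M (cyc n) m ∧
      GeneralLinearGroup.det M = 1 := by
    refine ⟨_, _, mono_mul_dg hW (Pi.mulSingle 0 ((GeneralLinearGroup.det W)⁻¹)), ?_⟩
    rw [map_mul, det_dg, Finset.prod_pi_mulSingle', if_pos (Finset.mem_univ _), mul_inv_cancel]
  have hj' : ∀ s t : F, (MonoidHom.id (GL (Fin (n + 1)) F)) (tv (ne_succ hn 0) s) =
      (MonoidHom.id (GL (Fin (n + 1)) F)) (tv (ne_succ hn 0) t) → s = t := by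
    intro s t h
    have h1 := congrArg Units.val h
    have h3 : (1 + single 0 (0 + 1) s : Matrix (Fin (n + 1)) (Fin (n + 1)) F) = 1 + single 0 (0 + 1) t := h1
    have h4 := congrFun (congrFun h3 0) (0 + 1)
    rw [Matrix.add_apply, Matrix.add_apply, single_apply_same, single_apply_same] at h4
    exact add_left_cancel h4
  have hf : ∀ A, (1 : GL (Fin (n + 1)) F) * (MonoidHom.id (GL (Fin (n + 1)) F)) A * 1⁻¹ =
      (MonoidHom.id (GL (Fin (n + 1)) F)) (GeneralLinearGroup.map ((RingEquiv.refl F : F ≃+* F) : F →+* F) A) := by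
    intro A
    rw [inv_one, mul_one, one_mul]
    apply Units.ext
    rfl
  have hrange : ∀ {c : Fin (n + 1) → Fˣ} {z : Fˣ}, (∀ u : Fˣ, u ∈ Subgroup.zpowers z) →
      (c 0 = c 1 * z ∨ c 0 = c 1 * z ^ 2) → c 0 ≠ c 1 → c (Fin.last n) ≠ c 0 →
      ((MonoidHom.id (GL (Fin (n + 1)) F)).comp SpecialLinearGroup.toGL).range ≤
        Subgroup.closure ({dg c, tv (ne_succ hn 0) 1 * M} : Set (GL (Fin (n + 1)) F)) := by
    intro c z hz h3 h4 h5
    have := range_le_closure (j := MonoidHom.id (GL (Fin (n + 1)) F)) (σ := RingEquiv.refl F) (f := 1) hn hf hj' hM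
      hz h3 h4 h5
    rwa [mul_one] at this
  obtain ⟨y, hy⟩ := exists_toGL (A := tv (ne_succ hn 0) 1 * M) (by rw [map_mul, det_tv hn, hMd, mul_one])
  rcases Nat.lt_or_ge (Fintype.card F) 3 with hF | hF
  · -- `|F| = 2`
    have hc2 : Fintype.card F = 2 := le_antisymm (by omega) Fintype.one_lt_card
    have hp2 : p = 2 := by
      rw [hc2] at hcard
      exact ((Nat.prime_dvd_prime_iff_eq hpp Nat.prime_two).1 (hcard ▸ dvd_pow_self p k.ne_zero))
    subst hp2
    have hF2 : ∀ s : F, s = 0 ∨ s = 1 := by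
      intro s
      by_contra hcon
      push Not at hcon
      have h3 : ({0, 1, s} : Finset F).card ≤ Fintype.card F := Finset.card_le_univ _
      rw [Finset.card_insert_of_notMem, Finset.card_insert_of_notMem, Finset.card_singleton] at h3
      · omega
      · rw [Finset.mem_singleton]
        exact fun e => hcon.2 e.symm
      · simp only [Finset.mem_insert, Finset.mem_singleton, not_or]
        exact ⟨zero_ne_one, fun e => hcon.1 e.symm⟩
    obtain ⟨x, hx⟩ := exists_toGL (A := tv (ne_succ hn 0) (1 : F)) (det_tv hn 1)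
    obtain ⟨w, hw⟩ := exists_toGL (A := M) hMd
    have hcl : Subgroup.closure ({x, w} : Set (_root_.Matrix.SpecialLinearGroup (Fin (n + 1)) F)) = ⊤ := by
      refine closure_eq_top hx hw ?_
      have hXle : X (MonoidHom.id (GL (Fin (n + 1)) F)) hn ≤
          Subgroup.closure ({tv (ne_succ hn 0) 1, M} : Set (GL (Fin (n + 1)) F)) := by
        rintro _ ⟨s, rfl⟩
        rcases hF2 s with rfl | rfl
        · rw [tv_zero, map_one]
          exact Subgroup.one_mem _
        · exact Subgroup.subset_closure (by simp)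
      refine range_le (f := 1) (σ := RingEquiv.refl F) hn hf hM _ hXle ?_
      rw [mul_one]
      exact Subgroup.subset_closure (by simp)
    refine small_of_involution hV hcl ?_ (tv_smul hn one_ne_zero hx)
    apply SpecialLinearGroup.toGL_injective
    rw [map_pow, hx, sq, tv_mul, map_one]
    have : (1 : F) + 1 = 0 := by
      have := CharP.cast_eq_zero F 2
      rw [← this]; norm_num
    rw [this, tv_zero]
  · obtain ⟨c, z, hz, hcd, hc01, hcne, hcl⟩ := exists_diag hn hF h2 1
    have hord : ∀ c : Fin (n + 1) → Fˣ, (dg c) ^ (Fintype.card F - 1) = 1 := by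
      intro c
      have h3 : ∀ k : ℕ, (dg c) ^ k = dg (c ^ k) := by
        intro k
        induction k with
        | zero =>
          rw [pow_zero, pow_zero]
          apply Units.ext
          show (1 : Matrix (Fin (n + 1)) (Fin (n + 1)) F) = diagonal fun i => (((1 : Fin (n + 1) → Fˣ) i : Fˣ) : F)
          simp
        | succ k ih => rw [pow_succ, ih, dg_mul, pow_succ]
      rw [h3]
      have h4 : c ^ (Fintype.card F - 1) = 1 := by
        funext i
        rw [Pi.pow_apply, Pi.one_apply, ← Fintype.card_units]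
        exact pow_card_eq_one
      rw [h4]
      apply Units.ext
      show (diagonal fun i => (((1 : Fin (n + 1) → Fˣ) i : Fˣ) : F)) = (1 : Matrix (Fin (n + 1)) (Fin (n + 1)) F)
      simp
    have hpn : ¬ p ∣ Fintype.card F - 1 := by
      intro h
      have h3 : p ∣ Fintype.card F := by rw [hcard]; exact dvd_pow_self p k.ne_zero
      have h4 : p ∣ 1 := by
        have := (Nat.dvd_sub h3 h)
        rwa [Nat.sub_sub_self (by omega)] at this
      exact hpp.one_lt.ne' (Nat.dvd_one.1 h4)
    by_cases hp2 : p = 2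
    · -- characteristic two
      subst hp2
      obtain ⟨h, hh⟩ := exists_toGL (A := dg c) (by rw [det_dg, hcd])
      have hcl' := closure_eq_top hh hy (hrange hz hc01 hcne hcl)
      have hone : (1 : F) + 1 = 0 := by
        have := CharP.cast_eq_zero F 2
        rw [← this]; norm_num
      have hxx : ∃ t : F, t ≠ 0 ∧ SpecialLinearGroup.toGL (h * (y * h * y⁻¹) * h⁻¹ * (y * h * y⁻¹)⁻¹) =
          tv (ne_succ hn 0) t := by
        have e1 : M * dg c * M⁻¹ = dg (fun i => c ((cyc n).symm i)) := conj_dg hM c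
        set c' : Fin (n + 1) → Fˣ := fun i => c ((cyc n).symm i) with hc'
        have e2 : tv (ne_succ hn 0) 1 * (M * dg c * M⁻¹) * (tv (ne_succ hn 0) 1)⁻¹ * (M * dg c * M⁻¹)⁻¹ =
            tv (ne_succ hn 0) (1 + (c' 0 : F) * (-1) * ((c' (0 + 1))⁻¹ : Fˣ)) := by
          rw [e1, ← tv_mul, ← conj_dg_tv c' (ne_succ hn 0) (-1), ← tv_inv]
          group
        have e3 : ∀ s : F, dg c * tv (ne_succ hn 0) s * (dg c)⁻¹ * (tv (ne_succ hn 0) s)⁻¹ =
            tv (ne_succ hn 0) ((c 0 : F) * s * ((c (0 + 1))⁻¹ : Fˣ) + -s) := by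
          intro s
          rw [conj_dg_tv, tv_inv, tv_mul]
        refine ⟨(c 0 : F) * (1 + (c' 0 : F) * (-1) * ((c' (0 + 1))⁻¹ : Fˣ)) * ((c (0 + 1))⁻¹ : Fˣ) +
          -(1 + (c' 0 : F) * (-1) * ((c' (0 + 1))⁻¹ : Fˣ)), ?_, ?_⟩
        rotate_left
        · rw [map_mul, map_mul, map_mul, map_inv, map_inv, map_mul, map_mul, map_inv, hh, hy]
          rw [Stein.comm_eq (by rw [e1]; exact dg_comm _ _), e2, e3]
        · have h5 : (cyc n).symm 0 = Fin.last n := by
            rw [Equiv.symm_apply_eq]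
            exact (Fin.last_add_one n).symm
          have h6 : c' 0 ≠ c' (0 + 1) := by
            show c ((cyc n).symm 0) ≠ c ((cyc n).symm (0 + 1))
            rw [h5, cyc_symm_apply]
            exact hcl
          have h7 : (1 : F) + (c' 0 : F) * (-1) * ((c' (0 + 1))⁻¹ : Fˣ) ≠ 0 := by
            intro h8
            apply h6
            rw [← mul_inv_eq_one]
            apply Units.ext
            rw [Units.val_mul, Units.val_one]
            linear_combination -h8
          have h8 : (c 0 : F) * ((c (0 + 1))⁻¹ : Fˣ) ≠ 1 := by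
            rw [← Units.val_mul]
            intro e
            apply hcne
            have h3 : c 0 * (c (0 + 1))⁻¹ = 1 := Units.ext e
            rw [zero_add, mul_inv_eq_one] at h3
            exact h3
          intro h9
          have h10 : ((c 0 : F) * ((c (0 + 1))⁻¹ : Fˣ) - 1) *
              (1 + (c' 0 : F) * (-1) * ((c' (0 + 1))⁻¹ : Fˣ)) = 0 := by linear_combination h9
          rcases mul_eq_zero.1 h10 with h11 | h11
          · exact h8 (sub_eq_zero.1 h11)
          · exact h7 h11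
      obtain ⟨t, ht, hx⟩ := hxx
      refine small_of_steinberg_two hV hcl' (n := Fintype.card F - 1) ?_ ?_ ?_ (tv_smul hn ht hx)
      · apply SpecialLinearGroup.toGL_injective
        rw [map_pow, hh, hord, map_one]
      · rw [← Nat.not_even_iff_odd, even_iff_two_dvd]
        exact hpn
      · apply SpecialLinearGroup.toGL_injective
        rw [map_pow, hx, sq, tv_mul, map_one, ← two_mul]
        have : (2 : F) = 0 := by rw [← hone]; norm_num
        rw [this, zero_mul, tv_zero]
    · rcases Nat.lt_or_ge n 2 with hn2 | hn2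
      · -- dimension two: the central involution
        obtain rfl : n = 1 := by omega
        obtain ⟨ε, hε⟩ : ∃ ε : _root_.Matrix.SpecialLinearGroup (Fin (1 + 1)) F, ε.1 = -1 :=
          ⟨⟨-1, by rw [det_neg, det_one]; norm_num⟩, rfl⟩
        refine small_of_neg hpp hp2 hV (ε := ε) ?_ ?_ ?_
        · intro g
          apply Subtype.ext
          show ε.1 * g.1 = g.1 * ε.1
          rw [hε, neg_mul, mul_neg, one_mul, mul_one]
        · rw [pow_two]
          apply Subtype.ext
          show ε.1 * ε.1 = 1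
          rw [hε, neg_mul_neg, one_mul]
        · intro v
          rw [smul_def, hε, neg_mulVec, one_mulVec]
      · -- an element with a fixed vector
        have hz1 : z ≠ 1 := by
          intro e
          rcases hc01 with h3 | h3
          · exact hcne (by rw [h3, e, mul_one])
          · exact hcne (by rw [h3, e, one_pow, mul_one])
        have h10 : (1 : Fin (n + 1)) ≠ 0 := by
          have := ne_succ hn 0
          rw [zero_add] at this
          exact this.symm
        have hl1 : Fin.last n ≠ 1 := by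
          intro e
          have := congrArg Fin.val e
          rw [Fin.val_last, Fin.val_one'] at this
          rw [Nat.mod_eq_of_lt (by omega)] at this
          omega
        have hl0 : Fin.last n ≠ 0 := by
          intro e
          have := congrArg Fin.val e
          rw [Fin.val_last, Fin.val_zero] at this
          omega
        set d : Fin (n + 1) → Fˣ := Pi.mulSingle 1 z⁻¹ * Pi.mulSingle (Fin.last n) z with hd
        have hd0 : d 0 = 1 := by
          rw [hd, Pi.mul_apply, Pi.mulSingle_eq_of_ne h10.symm, Pi.mulSingle_eq_of_ne hl0.symm, one_mul]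
        have hd1 : d 1 = z⁻¹ := by
          rw [hd, Pi.mul_apply, Pi.mulSingle_eq_same, Pi.mulSingle_eq_of_ne hl1.symm, mul_one]
        have hdl : d (Fin.last n) = z := by
          rw [hd, Pi.mul_apply, Pi.mulSingle_eq_of_ne hl1, Pi.mulSingle_eq_same, one_mul]
        have hdp : ∏ i, d i = 1 := by
          simp only [hd, Pi.mul_apply, Finset.prod_mul_distrib, Finset.prod_pi_mulSingle', Finset.mem_univ, if_true]
          exact inv_mul_cancel z
        obtain ⟨h, hh⟩ := exists_toGL (A := dg d) (by rw [det_dg, hdp])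
        have hcl' := closure_eq_top hh hy (hrange (c := d) hz (Or.inl (by rw [hd0, hd1, inv_mul_cancel]))
          (by rw [hd0, hd1]; exact fun e => hz1 (inv_eq_one.1 e.symm)) (by rw [hd0, hdl]; exact hz1))
        refine small_of_fixed hpp hV hcl' (n := Fintype.card F - 1) ?_ hpn (v := Pi.single 0 1) ?_ ?_
        · apply SpecialLinearGroup.toGL_injective
          rw [map_pow, hh, hord, map_one]
        · intro e
          have := congrFun e 0
          simp at this
        · have h3 : h.1 = diagonal fun i => (d i : F) := congrArg Units.val hh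
          rw [smul_def, h3, mulVec_single_one]
          ext i
          simp only [Matrix.col_apply, diagonal_apply]
          by_cases hi : i = 0
          · subst hi
            simp [hd0]
          · simp [hi]

end Main

end Cfsg.Agent.H490.SmallSL
end

-- part: H891/Gen/LinMain
section
/-!
# TEAM GEN: from the action form of Hering's theorem and the rows to `LGood` (helper891)
-/

set_option autoImplicit false

namespace Cfsg.Agent.H891.Gen

open Cfsg.Agent.H440.TwoGen Cfsg.Agent.H50.Her Module Subgroup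

universe u

variable {p : ℕ} [hp : Fact p.Prime] {V : Type u} [AddCommGroup V] [Module (ZMod p) V]

/-- The normaliser of `L` acts semilinearly over `F = End_L(V)`. -/
theorem semiL_of [Nontrivial V] (F : Type*) [Field F] [Finite F] [Module F V] {G L : Subgroup (V ≃ₗ[ZMod p] V)}
    (hn : Nor G L) (hlin : ∀ g ∈ L, ∀ (c : F) (v : V), g (c • v) = c • g v)
    (hend : ∀ f : V →ₗ[ZMod p] V, (∀ g ∈ L, ∀ v, f (g v) = g (f v)) → ∃ c : F, ∀ v, f v = c • v) : SemiL F G := by
  intro g hg
  have hsur : ∀ c : F, ∃ c' : F, ∀ v, g (c • g.symm v) = c' • v := by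
    intro c
    let f0 : V →+ V :=
      { toFun := fun v => g (c • g.symm v)
        map_zero' := by simp
        map_add' := by intro u v; simp only [smul_add, _root_.map_add] }
    obtain ⟨c', hc'⟩ := hend (f0.toZModLinearMap p) (by
      intro h hh v
      show g (c • g.symm (h v)) = h (g (c • g.symm v))
      have h1 : g⁻¹ * h * g⁻¹⁻¹ ∈ L := hn _ (inv_mem hg) h hh
      have h2 : g.symm (h v) = (g⁻¹ * h * g⁻¹⁻¹) (g.symm v) := by
        rw [inv_inv]
        show g.symm (h v) = g.symm (h (g (g.symm v)))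
        rw [g.apply_symm_apply]
      rw [h2, ← hlin _ h1, inv_inv]
      show g (g.symm (h (g (c • g.symm v)))) = _
      rw [g.apply_symm_apply])
    exact ⟨c', hc'⟩
  choose s hs using hsur
  obtain ⟨v, hv⟩ := exists_ne (0 : V)
  have huniq : ∀ a b : F, a • v = b • v → a = b := fun a b h => smul_left_injective F hv h
  let φ : F →+* F :=
    { toFun := s
      map_one' := by
        apply huniq
        rw [← hs, one_smul, g.apply_symm_apply, one_smul]
      map_zero' := by
        apply huniq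
        rw [← hs, zero_smul, map_zero, zero_smul]
      map_add' := by
        intro a b
        apply huniq
        rw [← hs, add_smul, map_add, hs, hs, add_smul]
      map_mul' := by
        intro a b
        apply huniq
        rw [← hs, mul_smul, mul_smul, ← hs b, ← hs a, g.symm_apply_apply] }
  have hbij : Function.Bijective φ := Finite.injective_iff_bijective.1 φ.injective
  refine ⟨RingEquiv.ofBijective φ hbij, fun c w => ?_⟩
  have h1 := hs c (g w)
  rw [g.symm_apply_apply] at h1
  exact h1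

/-- The normaliser of the isometry group of a nondegenerate form consists of semilinear similitudes. -/
theorem simil_of [Finite V] [Nontrivial V] (F : Type*) [Field F] [Finite F] [Module F V]
    {G L : Subgroup (V ≃ₗ[ZMod p] V)} (f : LinearMap.BilinForm F V) (hf : f.Nondegenerate)
    (hn : Nor G L) (hlin : ∀ g ∈ L, ∀ (c : F) (v : V), g (c • v) = c • g v)
    (hend : ∀ f : V →ₗ[ZMod p] V, (∀ g ∈ L, ∀ v, f (g v) = g (f v)) → ∃ c : F, ∀ v, f v = c • v)
    (hiso : ∀ h ∈ L, ∀ u v, f (h u) (h v) = f u v) :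
    ∀ g ∈ G, ∃ (σ : F ≃+* F) (μ : F), (∀ (c : F) (v : V), g (c • v) = σ c • g v) ∧
      ∀ u v, f (g u) (g v) = μ * σ (f u v) := by
  intro g hg
  obtain ⟨σ, hσ⟩ := semiL_of F hn hlin hend g hg
  have hfin : Module.Finite F V := inferInstance
  -- the second form
  let f' : LinearMap.BilinForm F V :=
    LinearMap.mk₂ F (fun u v => σ.symm (f (g u) (g v)))
      (by intro u u' v; simp) (by intro c u v; simp [hσ]) (by intro u v v'; simp only [_root_.map_add]) (by intro c u v; simp only [hσ, _root_.map_smul, _root_.smul_eq_mul, _root_.map_mul, _root_.RingEquiv.symm_apply_apply])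
  have hf' : ∀ u v, f' u v = σ.symm (f (g u) (g v)) := fun u v => rfl
  -- `T` with `f u (T v) = f' u v`
  let T : V → V := fun v => (f.flip.toDual (LinearMap.BilinForm.nondegenerate_flip_iff.2 hf)).symm (f'.flip v)
  have hT : ∀ u v, f u (T v) = f' u v := by
    intro u v
    have h1 := LinearMap.BilinForm.apply_toDual_symm_apply (B := f.flip)
      (hB := LinearMap.BilinForm.nondegenerate_flip_iff.2 hf) (f'.flip v) u
    exact h1
  have hinj : ∀ v w, (∀ u, f u v = f u w) → v = w := by
    intro v w h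
    have h1 : f.flip v = f.flip w := by
      ext u
      exact h u
    have h2 := (LinearMap.BilinForm.nondegenerate_flip_iff.2 hf)
    exact (f.flip.toDual h2).injective h1
  let T0 : V →+ V :=
    { toFun := T
      map_zero' := by
        apply hinj
        intro u
        rw [hT, map_zero, map_zero]
      map_add' := by
        intro v w
        apply hinj
        intro u
        rw [hT, map_add, map_add, hT, hT] }
  obtain ⟨c, hc⟩ := hend (T0.toZModLinearMap p) (by
    intro h hh v
    show T (h v) = h (T v)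
    apply hinj
    intro u
    have e1 : f u (h (T v)) = f (h.symm u) (T v) := by
      rw [← hiso h hh (h.symm u), h.apply_symm_apply]
    rw [hT, e1, hT, hf', hf']
    congr 1
    have h1 : g * h * g⁻¹ ∈ L := hn g hg h hh
    have h2 := hiso _ h1 (g (h.symm u)) (g v)
    have h3 : ∀ w, (g * h * g⁻¹) (g w) = g (h w) := by
      intro w
      show g (h (g.symm (g w))) = _
      rw [g.symm_apply_apply]
    rw [h3, h3, h.apply_symm_apply] at h2
    exact h2)
  refine ⟨σ, σ c, hσ, fun u v => ?_⟩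
  have h1 := hT u v
  have h2 : T v = c • v := hc v
  rw [h2, map_smul, smul_eq_mul, hf'] at h1
  have h3 := congrArg σ h1
  rw [map_mul, σ.apply_symm_apply] at h3
  exact h3.symm

/-- `|GL(V)| = 6, 48` for `|V| = 4, 9`; so `GL(V)` is solvable. -/
theorem solvable_small [Finite V] (h2 : finrank (ZMod p) V = 2) (hp3 : p = 2 ∨ p = 3)
    (L : Subgroup (V ≃ₗ[ZMod p] V)) : Group.IsSolvable ↥L := by
  have hfin : Finite (V ≃ₗ[ZMod p] V) := DFunLike.finite _
  let b : Basis (Fin 2) (ZMod p) V := Module.finBasisOfFinrankEq (ZMod p) V h2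
  let e : (V ≃ₗ[ZMod p] V) ≃* GL (Fin 2) (ZMod p) :=
    (LinearMap.GeneralLinearGroup.generalLinearEquiv (ZMod p) V).symm.trans
      (Units.mapEquiv (LinearMap.toMatrixAlgEquiv b).toMulEquiv)
  have h1 : Nat.card (V ≃ₗ[ZMod p] V) < 60 := by
    rw [Nat.card_congr e.toEquiv, Matrix.card_GL_field]
    rcases hp3 with rfl | rfl <;> simp only [Fin.prod_univ_succ, ZMod.card, _root_.Nat.reducePow, _root_.Fin.isValue, _root_.Fin.coe_ofNat_eq_mod, _root_.Nat.zero_mod, _root_.pow_zero, _root_.Nat.add_one_sub_one, _root_.Finset.univ_unique, _root_.Fin.default_eq_zero, _root_.Fin.val_succ, _root_.Fin.val_eq_zero, _root_.zero_add, _root_.pow_one, _root_.Nat.reduceSub, _root_.Finset.prod_const, _root_.Finset.card_singleton, _root_.Nat.reduceMul, _root_.Nat.reduceLT]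
  have h3 : Nat.card ↥L < 60 := (Subgroup.card_le_card_group L).trans_lt h1
  exact Cfsg.Agent.BpAlt.solvable_of_lt _ ↥L rfl h3

/-- A perfect subgroup containing `SL(V)`, `dim V = 2`, needs a field with at least four elements. -/
theorem four_le_of_perfect [Finite V] [Nontrivial V] (F : Type*) [Field F] [Fintype F] [Module F V]
    {L : Subgroup (V ≃ₗ[ZMod p] V)} (h2 : finrank F V = 2) (hperf : ⁅L, L⁆ = L) (hbot : L ≠ ⊥) :
    4 ≤ Fintype.card F := by
  by_contra hlt
  have hq : Fintype.card F = 2 ∨ Fintype.card F = 3 := by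
    have := Fintype.one_lt_card (α := F)
    omega
  obtain ⟨v, hv⟩ := exists_ne (0 : V)
  have hpF : (p : F) = 0 := by
    have h1 : (p : F) • v = 0 := by
      rw [Nat.cast_smul_eq_nsmul, ← Nat.cast_smul_eq_nsmul (ZMod p), ZMod.natCast_self, zero_smul]
    exact (smul_eq_zero.1 h1).resolve_right hv
  have hpq : p = Fintype.card F := by
    have h1 : ringChar F ∣ p := ringChar.dvd hpF
    have h3 : ringChar F ∣ Fintype.card F := ringChar.dvd (FiniteField.cast_card_eq_zero F)
    have h4 : ringChar F ≠ 1 := CharP.ringChar_ne_one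
    have h5 : (Fintype.card F).Prime := by rcases hq with h | h <;> rw [h] <;> norm_num
    rw [← (Nat.dvd_prime hp.out).1 h1 |>.resolve_left h4, ← (Nat.dvd_prime h5).1 h3 |>.resolve_left h4]
  have hcard : Nat.card V = p ^ 2 := by
    rw [Module.natCard_eq_pow_finrank (K := F), h2, Nat.card_eq_fintype_card, hpq]
  have hrk : finrank (ZMod p) V = 2 := by
    have h1 := Module.natCard_eq_pow_finrank (K := ZMod p) (V := V)
    rw [hcard, Nat.card_zmod] at h1
    exact (Nat.pow_right_injective hp.out.two_le h1).symm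
  have hsol := solvable_small hrk (by rw [hpq]; exact hq) L
  apply hbot
  -- a perfect solvable group is trivial
  have h1 : commutator ↥L = ⊤ := by
    apply Subgroup.map_injective L.subtype_injective
    rw [commutator_def, Subgroup.map_commutator, ← MonoidHom.range_eq_map, Subgroup.range_subtype, hperf]
  by_contra hne
  have : Nontrivial ↥L := (Subgroup.nontrivial_iff_ne_bot L).2 hne
  have h3 := Group.IsSolvable.commutator_lt_top_of_nontrivial ↥L
  exact h3.ne h1

/-- In dimension two, the maps of determinant one preserve every alternating form. -/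
theorem isom_of_det {F : Type*} {V : Type*} [Field F] [AddCommGroup V] [Module F V] (f : LinearMap.BilinForm F V)
    (hf : f.IsAlt) (h2 : finrank F V = 2) (g : V ≃ₗ[F] V) (hg : LinearEquiv.det g = 1) (u v : V) :
    f (g u) (g v) = f u v := by
  have hfin : Module.Finite F V := Module.finite_of_finrank_pos (by omega)
  let b : Basis (Fin 2) F V := Module.finBasisOfFinrankEq F V h2
  have key : ∀ u v : V, f u v = b.det ![u, v] * f (b 0) (b 1) := by
    intro u v
    have h10 : f (b 1) (b 0) = -f (b 0) (b 1) := by rw [← LinearMap.IsAlt.neg hf (b 1) (b 0), neg_neg]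
    have hu := b.sum_repr u
    have hv := b.sum_repr v
    rw [Fin.sum_univ_two] at hu hv
    rw [Basis.det_apply, Matrix.det_fin_two]
    simp only [Basis.toMatrix_apply, Matrix.cons_val_zero, Matrix.cons_val_one]
    conv_lhs => rw [← hu, ← hv]
    simp only [map_add, map_smul, LinearMap.add_apply, LinearMap.smul_apply, smul_eq_mul, hf (b 0), hf (b 1), h10]
    ring
  rw [key, key u v]
  have h3 := b.det_comp g.toLinearMap ![u, v]
  have h4 : (g.toLinearMap : V → V) ∘ ![u, v] = ![g u, g v] := by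
    ext i
    fin_cases i <;> rfl
  rw [h4] at h3
  have h5 : LinearMap.det g.toLinearMap = 1 := by
    have := congrArg Units.val hg
    rwa [LinearEquiv.coe_det, Units.val_one] at this
  rw [h3, h5, one_mul]

/-- **The transitive linear groups are good**, given the action form of Hering's theorem and the rows. -/
theorem LinRows.main (R : LinRows.{u}) {p : ℕ} [hp : Fact p.Prime] {V : Type u} [AddCommGroup V] [Module (ZMod p) V]
    [Finite V] [Nontrivial V] {G A₀ : Subgroup (V ≃ₗ[ZMod p] V)} (htr : ∀ v w : V, v ≠ 0 → w ≠ 0 → ∃ g ∈ G, g v = w)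
    (h : MainOut G A₀) : LGood G := by
  obtain ⟨A, -, hA, h | h | ⟨L, b, hP, hQ, hend, -, h⟩⟩ := h
  · exact R.semi p V G htr h
  · rcases h with ⟨hp3, h2, h3, -⟩ | ⟨h2, h3, h4⟩ | ⟨h4, hp3, h5, h6, h7⟩
    · subst hp3
      exact R.sl23 V G h2 h3
    · exact R.quat p V G htr h2 h3 h4
    · subst hp3
      exact R.ext32 V G A htr hA h4 h5 h6 h7
  · have hLbot : L ≠ ⊥ := fun h => hP.not_le (by rw [h]; exact bot_le)
    rcases h with ⟨F, _, _, _, h2, hlin, hEnd, h⟩ | h
    · have hsemi : SemiL F G := semiL_of F hP.nor hlin hEnd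
      rcases h with h | ⟨f, hfa, hfn, h⟩ | ⟨hp2, h6, h4, hiso, -⟩
      · refine R.sl p V G F h2 (fun h2' => four_le_of_perfect F h2' hP.perf hLbot) hsemi fun g hg => ?_
        obtain ⟨k, hk, hk'⟩ := (h g).1 hg
        exact ⟨k, hP.le hk, hk'⟩
      · rcases h2.lt_or_eq with h3 | h3
        · refine R.sp p V G F f h3 hfa hfn (simil_of F f hfn hP.nor hlin hEnd fun k hk => ?_) fun g hg => ?_
          · -- elements of `L` are isometries
            let k' : V ≃ₗ[F] V := LinearEquiv.ofBijective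
              { toFun := k, map_add' := k.map_add, map_smul' := fun c v => hlin k hk c v } k.bijective
            exact (h k').2 ⟨k, hk, fun v => rfl⟩
          · obtain ⟨k, hk, hk'⟩ := (h g).1 hg
            exact ⟨k, hP.le hk, hk'⟩
        · refine R.sl p V G F h2 (fun h2' => four_le_of_perfect F h2' hP.perf hLbot) hsemi fun g hg => ?_
          obtain ⟨k, hk, hk'⟩ := (h g).1 (isom_of_det f hfa h3.symm g hg)
          exact ⟨k, hP.le hk, hk'⟩
      · subst hp2
        refine R.g2 V G L F htr h6 h4 hsemi hP.le hP.nor hlin (fun g _ hgc => ?_) hiso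
        obtain ⟨c, hc⟩ := hEnd g.toLinearMap fun k hk v => DFunLike.congr_fun (hgc k hk) v
        exact ⟨c, hc⟩
    · rcases h with ⟨⟨h2, h3⟩ | ⟨h4, h3⟩, hiso⟩ | ⟨hp2, h4, hb, hiso⟩ | ⟨hp3, h6, hb, hiso⟩ | ⟨hp2, h6, hb, hiso⟩
      · exact R.sl25 p V G A L htr hA hP hQ h2 h3 hiso
      · subst h3
        exact R.sl25' V G A L htr hA hP hQ h4 hiso
      · subst hp2
        exact R.a67 V G A L htr hA hP hQ h4 hiso
      · subst hp3
        exact R.sl213 V G A L htr hA hP hQ h6 (by rw [hend, hb, pow_one]) hiso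
      · subst hp2
        exact R.u33 V G A L htr hA hP hQ h6 (by rw [hend, hb, pow_one]) hiso

end Cfsg.Agent.H891.Gen
end

-- part: H490/SmallSL2
section
/-!
# TEAM GEN: few derivations for `SL(V) ≤ G ≤ ΓL(V)` (helper490)
-/

set_option autoImplicit false

namespace Cfsg.Agent.H490.SmallSL

open Matrix Cfsg.Agent.H490 Cfsg.Agent.H891.Gen Cfsg.Agent.H99.GenSL Cfsg.Agent.H490.Der Module
open scoped Fin.NatCast Fin.CommRing

universe u

attribute [local instance] actSL

/-- the linear map of a transvection matrix in coordinates -/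
theorem transvection_mulVec {ι F : Type*} [Fintype ι] [DecidableEq ι] [Field F] {i j : ι} (hij : i ≠ j) (c : F)
    (v : ι → F) : (SpecialLinearGroup.transvection hij c).1 *ᵥ v = v + Pi.single i (c * v j) := by
  show (1 + single i j c) *ᵥ v = _
  rw [add_mulVec, one_mulVec, single_mulVec]
  congr 1

theorem small_of_sl {p : ℕ} [hpf : Fact p.Prime] {V : Type u} [AddCommGroup V] [Module (ZMod p) V] [Finite V]
    (G : Subgroup (V ≃ₗ[ZMod p] V)) (F : Type) [Field F] [Fintype F] [Module F V] (hd : 2 ≤ finrank F V)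
    (h2 : finrank F V = 2 → 4 ≤ Fintype.card F) (hS : SemiL F G)
    (hSL : ∀ g : V ≃ₗ[F] V, LinearEquiv.det g = 1 → ∃ h ∈ G, ∀ v, h v = g v) : Cfsg.Agent.H891.Gen.Small ↥G V := by
  classical
  obtain ⟨n, hn⟩ : ∃ n, finrank F V = n + 1 := ⟨finrank F V - 1, by omega⟩
  have hn1 : 1 ≤ n := by omega
  have hfin : Module.Finite F V := Module.Finite.of_finite
  let e : V ≃ₗ[F] (Fin (n + 1) → F) := LinearEquiv.ofFinrankEq V (Fin (n + 1) → F) (by rw [hn, finrank_fin_fun])
  -- the linear map of a matrix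
  have hex : ∀ A : _root_.Matrix.SpecialLinearGroup (Fin (n + 1)) F, ∃ h : ↥G, ∀ v : V, e (h • v) = A • e v := by
    intro A
    let L : V ≃ₗ[F] V := (e.trans (SpecialLinearGroup.toLin' A)).trans e.symm
    have hL : LinearEquiv.det L = 1 := by
      have h1 := LinearEquiv.det_conj (SpecialLinearGroup.toLin' A) e.symm
      have h3 : (e.symm.symm.trans (SpecialLinearGroup.toLin' A)).trans e.symm = L := rfl
      rw [h3] at h1
      rw [h1]
      apply Units.ext
      rw [LinearEquiv.coe_det]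
      have h4 : ((SpecialLinearGroup.toLin' A : (Fin (n + 1) → F) ≃ₗ[F] (Fin (n + 1) → F)) :
          (Fin (n + 1) → F) →ₗ[F] (Fin (n + 1) → F)) = Matrix.toLin' A.1 := rfl
      rw [h4, LinearMap.det_toLin']
      exact A.2
    obtain ⟨h, hh, hv⟩ := hSL L hL
    refine ⟨⟨h, hh⟩, fun v => ?_⟩
    show e (h v) = A • e v
    rw [hv]
    show e (e.symm (SpecialLinearGroup.toLin' A (e v))) = A • e v
    rw [e.apply_symm_apply]
    rfl
  choose φ0 hφ0 using hex
  have hext : ∀ g h : ↥G, (∀ v : V, g • v = h • v) → g = h := by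
    intro g h hgh
    apply Subtype.ext
    exact LinearEquiv.ext hgh
  let φ : SpecialLinearGroup (Fin (n + 1)) F →* ↥G :=
    { toFun := φ0
      map_one' := by
        apply hext
        intro v
        apply e.injective
        rw [hφ0, one_smul, one_smul]
      map_mul' := by
        intro A B
        apply hext
        intro v
        apply e.injective
        rw [hφ0, mul_smul, mul_smul, hφ0, hφ0] }
  have hφ : ∀ (A : _root_.Matrix.SpecialLinearGroup (Fin (n + 1)) F) (v : V), e (φ A • v) = A • e v := hφ0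
  have hfinG : Finite ↥G := by
    have : Finite (V ≃ₗ[ZMod p] V) := Finite.of_injective (fun g => (g : V → V)) DFunLike.coe_injective
    infer_instance
  refine small_of_map_normal' φ e.toAddEquiv hφ ?_ ?_ (small_sl hn1 (fun h => h2 (by rw [hn, h])))
  · intro g A
    -- the set of good `A` is a subgroup containing the transvections
    let S : Subgroup (_root_.Matrix.SpecialLinearGroup (Fin (n + 1)) F) :=
      { carrier := {A | ∃ A' : _root_.Matrix.SpecialLinearGroup (Fin (n + 1)) F, φ A * g = g * φ A'}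
        one_mem' := ⟨1, by rw [map_one, one_mul, mul_one]⟩
        mul_mem' := by
          rintro A B ⟨A', hA⟩ ⟨B', hB⟩
          exact ⟨A' * B', by rw [map_mul, map_mul, mul_assoc, hB, ← mul_assoc, hA, mul_assoc]⟩
        inv_mem' := by
          rintro A ⟨A', hA⟩
          refine ⟨A'⁻¹, ?_⟩
          rw [map_inv, map_inv, inv_mul_eq_iff_eq_mul, ← mul_assoc, hA, mul_inv_cancel_right] }
    suffices hS : S = ⊤ by
      have : A ∈ S := by rw [hS]; trivial
      exact this
    rw [eq_top_iff, ← Cfsg.Agent.LieClassical.SLGen.closure_transvections, Subgroup.closure_le]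
    rintro _ ⟨i, j, hij, c, rfl⟩
    obtain ⟨σ, hσ⟩ := hS g g.2
    -- the conjugate transvection
    let f : Dual F V :=
      { toFun := fun v => σ.symm (c * e (g • v) j)
        map_add' := by
          intro v w
          rw [smul_add, map_add, Pi.add_apply, mul_add, map_add]
        map_smul' := by
          intro a v
          have h1 : g • (a • v) = σ a • (g • v) := hσ a v
          rw [h1, map_smul, Pi.smul_apply, smul_eq_mul, RingHom.id_apply, smul_eq_mul]
          rw [show c * (σ a * e (g • v) j) = σ a * (c * e (g • v) j) by ring, map_mul, σ.symm_apply_apply] }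
    let w : V := g⁻¹ • e.symm (Pi.single i 1)
    have hfw : f w = 0 := by
      show σ.symm (c * e (g • w) j) = 0
      rw [smul_inv_smul, e.apply_symm_apply, Pi.single_eq_of_ne (Ne.symm hij), mul_zero, map_zero]
    let L : V ≃ₗ[F] V := LinearEquiv.transvection hfw
    have hL : LinearEquiv.det L = 1 := LinearEquiv.transvection.det_eq_one hfw
    have hLv : ∀ v, L v = v + f v • w := fun v => rfl
    -- as a matrix
    let B : Matrix (Fin (n + 1)) (Fin (n + 1)) F := LinearMap.toMatrix' ((e.symm.trans L).trans e).toLinearMap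
    have hB : B.det = 1 := by
      have h1 := LinearEquiv.det_conj L e
      have h3 := congrArg Units.val h1
      rw [hL, LinearEquiv.coe_det] at h3
      rw [← LinearMap.det_toMatrix'] at h3
      exact h3
    obtain ⟨B', hB'⟩ : ∃ B' : _root_.Matrix.SpecialLinearGroup (Fin (n + 1)) F, B'.1 = B := ⟨⟨B, hB⟩, rfl⟩
    refine ⟨B', ?_⟩
    apply hext
    intro v
    rw [mul_smul, mul_smul]
    have h4 : φ B' • v = L v := by
      apply e.injective
      rw [hφ, smul_def, hB']
      rw [← Matrix.toLin'_apply, Matrix.toLin'_toMatrix']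
      show e (L (e.symm (e v))) = e (L v)
      rw [e.symm_apply_apply]
    rw [h4, hLv, smul_add]
    apply e.injective
    rw [hφ]
    show (SpecialLinearGroup.transvection hij c).1 *ᵥ e (g • v) = _
    rw [transvection_mulVec, map_add]
    congr 1
    have h5 : g • (f v • w) = σ (f v) • (g • w) := hσ _ _
    rw [h5, smul_inv_smul]
    have h6 : e (σ (f v) • e.symm (Pi.single i 1)) = σ (f v) • (Pi.single i 1 : Fin (n + 1) → F) := by
      rw [map_smul, e.apply_symm_apply]
    rw [h6]
    have h7 : σ (f v) = c * e (g • v) j := σ.apply_symm_apply _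
    rw [h7]
    ext k
    by_cases hk : k = i
    · subst hk
      simp only [_root_.Pi.single_eq_same, _root_.Pi.smul_apply, _root_.smul_eq_mul, _root_.mul_one]
    · simp only [hk, _root_.ne_eq, _root_.not_false_eq_true, _root_.Pi.single_eq_of_ne, _root_.Pi.smul_apply, _root_.smul_eq_mul, _root_.MulZeroClass.mul_zero]
  · intro v hv
    -- all coordinates vanish
    funext j
    obtain ⟨i, hij⟩ : ∃ i, i ≠ j := ⟨j + 1, (ne_succ hn1 j).symm⟩
    have h1 := hv (SpecialLinearGroup.transvection hij 1)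
    have h3 := congrFun h1 i
    rw [smul_def, transvection_mulVec, Pi.add_apply, Pi.single_eq_same, one_mul, add_eq_left] at h3
    exact h3

end Cfsg.Agent.H490.SmallSL
end

-- part: H99/GenLinSL
section
/-!
# TEAM GEN, piece F: groups between `SL(V)` and `ΓL(V)` are 2-generated
-/

set_option autoImplicit false

namespace Cfsg.Agent.H99.GenSL

open Matrix Cfsg.Agent.H891.Gen Cfsg.Agent.H440.TwoGen Module

universe u

section

variable {p : ℕ} [hp : Fact p.Prime] {V : Type u} [AddCommGroup V] [Module (ZMod p) V]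

/-- additive automorphisms are linear over the prime field -/
def toZ (e : V ≃+ V) : V ≃ₗ[ZMod p] V := { e with map_smul' := fun c x => ZMod.map_smul e c x }

@[simp] theorem toZ_apply (e : V ≃+ V) (v : V) : (toZ e : V ≃ₗ[ZMod p] V) v = e v := rfl

variable {F : Type*} [Field F] [Module F V] {n : ℕ}

variable (p) in
/-- matrices acting on `V` with respect to a basis -/
noncomputable def jj (b : Basis (Fin (n + 1)) F V) :
    GL (Fin (n + 1)) F →* (V ≃ₗ[ZMod p] V) where
  toFun A := toZ ((LinearMap.GeneralLinearGroup.generalLinearEquiv F V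
    (Units.map (Matrix.toLinAlgEquiv b : Matrix (Fin (n + 1)) (Fin (n + 1)) F →* (V →ₗ[F] V)) A)).toAddEquiv)
  map_one' := by
    rw [map_one, map_one]
    rfl
  map_mul' A B := by
    rw [map_mul, map_mul]
    rfl

theorem jj_apply (b : Basis (Fin (n + 1)) F V) (A : GL (Fin (n + 1)) F) (v : V) :
    jj p b A v = Matrix.toLin b b (A : Matrix (Fin (n + 1)) (Fin (n + 1)) F) v := rfl

theorem repr_jj (b : Basis (Fin (n + 1)) F V) (A : GL (Fin (n + 1)) F) (v : V) :
    b.equivFun (jj p b A v) = (A : Matrix (Fin (n + 1)) (Fin (n + 1)) F) *ᵥ b.equivFun v := by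
  rw [jj_apply]
  exact Matrix.repr_toLin b b _ v

variable (p) in
/-- the coordinatewise field automorphism -/
noncomputable def fl (b : Basis (Fin (n + 1)) F V) (σ : F ≃+* F) : V ≃ₗ[ZMod p] V :=
  toZ ((b.equivFun.toAddEquiv.trans (AddEquiv.piCongrRight fun _ => σ.toAddEquiv)).trans b.equivFun.symm.toAddEquiv)

theorem repr_fl (b : Basis (Fin (n + 1)) F V) (σ : F ≃+* F) (v : V) (i : Fin (n + 1)) :
    b.equivFun (fl p b σ v) i = σ (b.equivFun v i) := by
  show b.equivFun (b.equivFun.symm _) i = _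
  rw [LinearEquiv.apply_symm_apply]
  rfl

theorem fl_smul (b : Basis (Fin (n + 1)) F V) (σ : F ≃+* F) (c : F) (v : V) :
    fl p b σ (c • v) = σ c • fl p b σ v := by
  apply b.equivFun.injective
  funext i
  rw [repr_fl, map_smul, map_smul, Pi.smul_apply, Pi.smul_apply, repr_fl, smul_eq_mul, smul_eq_mul, map_mul]

theorem conj_fl (b : Basis (Fin (n + 1)) F V) (σ : F ≃+* F) (A : GL (Fin (n + 1)) F) :
    fl p b σ * jj p b A * (fl p b σ)⁻¹ = jj p b (GeneralLinearGroup.map (σ : F →+* F) A) := by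
  rw [mul_inv_eq_iff_eq_mul]
  apply LinearEquiv.ext
  intro v
  apply b.equivFun.injective
  funext i
  rw [LinearEquiv.mul_apply, LinearEquiv.mul_apply, repr_fl, repr_jj, repr_jj, Matrix.mulVec, Matrix.mulVec, dotProduct, dotProduct, map_sum]
  refine Finset.sum_congr rfl fun k _ => ?_
  rw [map_mul, repr_fl]
  rfl

theorem jj_injective (b : Basis (Fin (n + 1)) F V) : Function.Injective (jj p b) := by
  intro A B h
  apply Units.ext
  apply (Matrix.toLin b b).injective
  apply LinearMap.ext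
  intro v
  rw [← jj_apply (p := p), ← jj_apply (p := p), h]

/-- linear maps are matrices -/
theorem exists_jj (b : Basis (Fin (n + 1)) F V) {g : V ≃ₗ[ZMod p] V} (hg : ∀ (c : F) (v : V), g (c • v) = c • g v) :
    ∃ A : GL (Fin (n + 1)) F, jj p b A = g := by
  let g' : V ≃ₗ[F] V := { g.toAddEquiv with map_smul' := hg }
  refine ⟨Units.map (LinearMap.toMatrixAlgEquiv b : (V →ₗ[F] V) →* Matrix (Fin (n + 1)) (Fin (n + 1)) F)
    ((LinearMap.GeneralLinearGroup.generalLinearEquiv F V).symm g'), ?_⟩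
  apply LinearEquiv.ext
  intro v
  rw [jj_apply]
  show Matrix.toLin b b (LinearMap.toMatrix b b (g' : V →ₗ[F] V)) v = g v
  rw [Matrix.toLin_toMatrix]
  rfl

theorem det_jj (b : Basis (Fin (n + 1)) F V) (A : GL (Fin (n + 1)) F) (g : V ≃ₗ[F] V) (hg : ∀ v, jj p b A v = g v) :
    GeneralLinearGroup.det A = LinearEquiv.det g := by
  apply Units.ext
  rw [LinearEquiv.coe_det]
  have h1 : (g : V →ₗ[F] V) = Matrix.toLin b b (A : Matrix (Fin (n + 1)) (Fin (n + 1)) F) := by
    apply LinearMap.ext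
    intro v
    rw [← jj_apply (p := p)]
    exact (hg v).symm
  rw [h1, LinearMap.det_toLin]
  rfl

/-- `g` is semilinear with respect to `σ` -/
def Sem (σ : F ≃+* F) (g : V ≃ₗ[ZMod p] V) : Prop := ∀ (c : F) (v : V), g (c • v) = σ c • g v

theorem Sem.mul {σ τ : F ≃+* F} {g h : V ≃ₗ[ZMod p] V} (hg : Sem σ g) (hh : Sem τ h) : Sem (σ * τ) (g * h) := by
  intro c v
  rw [LinearEquiv.mul_apply, LinearEquiv.mul_apply, hh, hg]
  rfl

theorem Sem.inv {σ : F ≃+* F} {g : V ≃ₗ[ZMod p] V} (hg : Sem σ g) : Sem σ⁻¹ g⁻¹ := by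
  intro c v
  apply g.injective
  rw [hg]
  show (g * g⁻¹) (c • v) = σ (σ.symm c) • (g * g⁻¹) v
  rw [mul_inv_cancel, RingEquiv.apply_symm_apply]
  rfl

theorem sem_one : Sem (1 : F ≃+* F) (1 : V ≃ₗ[ZMod p] V) := fun _ _ => rfl

theorem Sem.zpow {σ : F ≃+* F} {g : V ≃ₗ[ZMod p] V} (hg : Sem σ g) (k : ℤ) : Sem (σ ^ k) (g ^ k) := by
  have h1 : ∀ m : ℕ, Sem (σ ^ m) (g ^ m) := by
    intro m
    induction m with
    | zero => rw [pow_zero, pow_zero]; exact sem_one
    | succ m ih => rw [pow_succ, pow_succ]; exact ih.mul hg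
  rcases Int.eq_nat_or_neg k with ⟨m, rfl | rfl⟩
  · rw [zpow_natCast, zpow_natCast]
    exact h1 m
  · rw [_root_.zpow_neg, _root_.zpow_neg, zpow_natCast, zpow_natCast]
    exact (h1 m).inv

/-- semilinear maps are matrices times field automorphisms -/
theorem exists_jj_fl (b : Basis (Fin (n + 1)) F V) {σ : F ≃+* F} {g : V ≃ₗ[ZMod p] V} (hg : Sem σ g) :
    ∃ B : GL (Fin (n + 1)) F, jj p b B * fl p b σ = g := by
  have h1 : Sem (1 : F ≃+* F) (g * (fl p b σ)⁻¹) := by
    have h2 := hg.mul (Sem.inv (g := fl p b σ) (σ := σ) (fun c v => fl_smul b σ c v))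
    rwa [mul_inv_cancel] at h2
  obtain ⟨B, hB⟩ := exists_jj b h1
  exact ⟨B, by rw [hB, inv_mul_cancel_right]⟩

/-- the group between `SL(V)` and `ΓL(V)` is generated by `SL(V)` and two elements -/
theorem exists_pair (b : Basis (Fin (n + 1)) F V) [Finite F] (G : Subgroup (V ≃ₗ[ZMod p] V)) (hG : SemiL F G) :
    ∃ (A B : GL (Fin (n + 1)) F) (σ : F ≃+* F), jj p b A ∈ G ∧ jj p b B * fl p b σ ∈ G ∧
      G ≤ Subgroup.closure ({jj p b A, jj p b B * fl p b σ} : Set (V ≃ₗ[ZMod p] V)) ⊔
        ((jj p b).comp SpecialLinearGroup.toGL).range := by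
  -- the field automorphisms
  let S : Subgroup (F ≃+* F) :=
    { carrier := {σ | ∃ g ∈ G, Sem σ g}
      one_mem' := ⟨1, G.one_mem, sem_one⟩
      mul_mem' := by
        rintro σ τ ⟨g, hg, hg'⟩ ⟨h, hh, hh'⟩
        exact ⟨g * h, G.mul_mem hg hh, hg'.mul hh'⟩
      inv_mem' := by
        rintro σ ⟨g, hg, hg'⟩
        exact ⟨g⁻¹, G.inv_mem hg, hg'.inv⟩ }
  have hcS : IsCyclic (F ≃+* F) := Cfsg.Agent.LieRecognition.FieldSemilinear.isCyclic_ringAut F
  obtain ⟨⟨σ, y, hy, hyσ⟩, hσ⟩ := IsCyclic.exists_generator (α := ↥S)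
  obtain ⟨B, rfl⟩ := exists_jj_fl b hyσ
  -- the determinants
  obtain ⟨⟨δ, A, hA, rfl⟩, hδ⟩ := IsCyclic.exists_generator (α := ↥((G.comap (jj p b)).map GeneralLinearGroup.det))
  refine ⟨A, B, σ, hA, hy, ?_⟩
  intro g hg
  obtain ⟨τ, hτ⟩ := hG g hg
  obtain ⟨k, hk⟩ := hσ ⟨τ, g, hg, hτ⟩
  have hk' : σ ^ k = τ := congrArg Subtype.val hk
  set y := jj p b B * fl p b σ with hydef
  have h1 : Sem (1 : F ≃+* F) (g * (y ^ k)⁻¹) := by
    have h2 := Sem.mul (σ := τ) hτ (hyσ.zpow k).inv
    rwa [hk', mul_inv_cancel] at h2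
  obtain ⟨C, hC⟩ := exists_jj b h1
  have hCG : jj p b C ∈ G := by
    rw [hC]
    exact G.mul_mem hg (G.inv_mem (G.zpow_mem hy k))
  obtain ⟨m, hm⟩ := hδ ⟨GeneralLinearGroup.det C, C, hCG, rfl⟩
  have hm' : GeneralLinearGroup.det A ^ m = GeneralLinearGroup.det C := congrArg Subtype.val hm
  have h3 : jj p b (C * (A ^ m)⁻¹) ∈ ((jj p b).comp SpecialLinearGroup.toGL).range := by
    apply mem_range
    rw [map_mul, map_inv, map_zpow, hm', mul_inv_cancel]
  have h4 : g = jj p b (C * (A ^ m)⁻¹) * (jj p b A) ^ m * y ^ k := by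
    rw [map_mul, map_inv, map_zpow, inv_mul_cancel_right, hC, inv_mul_cancel_right]
  rw [h4]
  have hx' : jj p b A ∈ Subgroup.closure ({jj p b A, y} : Set (V ≃ₗ[ZMod p] V)) :=
    Subgroup.subset_closure (by simp)
  have hy' : y ∈ Subgroup.closure ({jj p b A, y} : Set (V ≃ₗ[ZMod p] V)) :=
    Subgroup.subset_closure (by simp)
  refine mul_mem (mul_mem ?_ ?_) ?_
  · exact (le_sup_right : _ ≤ Subgroup.closure ({jj p b A, y} : Set (V ≃ₗ[ZMod p] V)) ⊔ _) h3
  · exact (le_sup_left : Subgroup.closure ({jj p b A, y} : Set (V ≃ₗ[ZMod p] V)) ≤ _) (Subgroup.zpow_mem _ hx' m)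
  · exact (le_sup_left : Subgroup.closure ({jj p b A, y} : Set (V ≃ₗ[ZMod p] V)) ≤ _) (Subgroup.zpow_mem _ hy' k)

theorem range_le_of_det (b : Basis (Fin (n + 1)) F V) (G : Subgroup (V ≃ₗ[ZMod p] V))
    (hN : ∀ g : V ≃ₗ[F] V, LinearEquiv.det g = 1 → ∃ h ∈ G, ∀ v, h v = g v) :
    ((jj p b).comp SpecialLinearGroup.toGL).range ≤ G := by
  rintro _ ⟨A, rfl⟩
  let g : V ≃ₗ[F] V := { (jj p b (SpecialLinearGroup.toGL A)).toAddEquiv with
    map_smul' := fun c v => map_smul (Matrix.toLin b b ((SpecialLinearGroup.toGL A : GL (Fin (n + 1)) F) :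
      Matrix (Fin (n + 1)) (Fin (n + 1)) F)) c v }
  obtain ⟨h, hh, hv⟩ := hN g (by
    rw [← det_jj (p := p) b (SpecialLinearGroup.toGL A) g (fun v => rfl)]
    apply Units.ext
    exact A.2)
  have h1 : jj p b (SpecialLinearGroup.toGL A) = h := by
    apply LinearEquiv.ext
    intro v
    exact (hv v).symm
  show jj p b (SpecialLinearGroup.toGL A) ∈ G
  rw [h1]
  exact hh

/-- **groups between `SL(V)` and `ΓL(V)` are 2-generated** -/
theorem twoGen_sl (p : ℕ) [Fact p.Prime] (V : Type u) [AddCommGroup V] [Module (ZMod p) V] [Finite V]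
    (G : Subgroup (V ≃ₗ[ZMod p] V)) (F : Type*) [Field F] [Fintype F] [Module F V] (h2 : 2 ≤ finrank F V)
    (h4 : finrank F V = 2 → 4 ≤ Fintype.card F) (hG : SemiL F G)
    (hN : ∀ g : V ≃ₗ[F] V, LinearEquiv.det g = 1 → ∃ h ∈ G, ∀ v, h v = g v) : TwoGen ↥G := by
  obtain ⟨n, hn⟩ : ∃ n, finrank F V = n + 1 := ⟨finrank F V - 1, by omega⟩
  have hfin : Module.Finite F V := Module.finite_of_finrank_pos (by omega)
  let b : Basis (Fin (n + 1)) F V := Module.finBasisOfFinrankEq F V hn
  have hNG := range_le_of_det b G hN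
  obtain ⟨A, B, σ, hA, hB, hgen⟩ := exists_pair b G hG
  refine twoGen_of_lift' hNG hA hB hgen (lift_gl (by omega) (fun h => h4 (by omega)) _ σ _ (conj_fl b σ) ?_ A B)
  intro h s hs
  have h1 : (SpecialLinearGroup.toGL (SpecialLinearGroup.transvection h s) : GL (Fin (n + 1)) F) = 1 :=
    jj_injective (p := p) b (by rw [hs, map_one])
  have h3 := congrArg (fun M : GL (Fin (n + 1)) F => (M : Matrix (Fin (n + 1)) (Fin (n + 1)) F) 0 1) h1
  have h5 : (1 + single (0 : Fin (n + 1)) 1 s : Matrix (Fin (n + 1)) (Fin (n + 1)) F) 0 1 =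
      (1 : Matrix (Fin (n + 1)) (Fin (n + 1)) F) 0 1 := h3
  rw [Matrix.add_apply, Matrix.one_apply_ne h, Matrix.single_apply_same, zero_add] at h5
  exact h5

end

end Cfsg.Agent.H99.GenSL
end

-- part: H490/GenSL
section
/-!
# TEAM GEN: the row `LinRows.sl` (helper490, helper99)
-/

set_option autoImplicit false

namespace Cfsg.Agent.H490.GenSL

open Cfsg.Agent.H891.Gen Module

universe u

/-- `LinRows.sl` : `SL(V) ≤ G ≤ ΓL(V)`. -/
theorem lin_sl : ∀ (p : ℕ) [Fact p.Prime] (V : Type u) [AddCommGroup V] [Module (ZMod p) V] [Finite V]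
    (G : Subgroup (V ≃ₗ[ZMod p] V)) (F : Type) [Field F] [Fintype F] [Module F V], 2 ≤ finrank F V →
    (finrank F V = 2 → 4 ≤ Fintype.card F) → SemiL F G →
    (∀ g : V ≃ₗ[F] V, LinearEquiv.det g = 1 → ∃ h ∈ G, ∀ v, h v = g v) → LGood G := by
  intro p _ V _ _ _ G F _ _ _ h2 h4 hS hSL
  exact ⟨Cfsg.Agent.H99.GenSL.twoGen_sl p V G F h2 h4 hS hSL, SmallSL.small_of_sl G F h2 h4 hS hSL⟩

end Cfsg.Agent.H490.GenSL
end

-- part: H479/GenQuat
section
set_option autoImplicit false

namespace Cfsg.Agent.H479.GenQuat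

open Subgroup QuaternionGroup Cfsg.Agent.PermutationGroups.AutQuaternion Cfsg.Agent.H440.TwoGen

/-! ### facts on the quaternion group -/

theorem gen_fact : ∀ s t : QuaternionGroup 2, s * s = a 2 → t * t = a 2 → t ≠ s → t ≠ a 2 * s →
    ∀ g : QuaternionGroup 2, ∃ (k : Fin 4) (l : Fin 2), g = s ^ k.val * t ^ l.val := by
  (set_option synthInstance.maxSize 2000 in open scoped Cfsg.Agent.Lib.Hoist Cfsg.Agent.Lib.HoistLin in decide +kernel)

theorem order3_fact : ∀ x y : QuaternionGroup 2, good x y = true →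
    (∀ g, cand x y (cand x y (cand x y g)) = g) → (x = a 1 ∨ x = a 2 * a 1) → ∀ g, cand x y g = g := by
  decide +kernel

theorem inner_fact : ∀ x y : QuaternionGroup 2, good x y = true → (x = a 1 ∨ x = a 2 * a 1) →
    (y = xa 0 ∨ y = a 2 * xa 0) → ∃ g : QuaternionGroup 2, ∀ t, cand x y t = g * t * g⁻¹ := by
  decide +kernel

/-- an automorphism of order four: `i ↦ i`, `j ↦ k`. -/
theorem good4 : good (a 1) (xa 1) = true := by decide +kernel

/-- an automorphism of order three. -/
theorem good3 : good (xa 0) (xa 1) = true := by decide +kernel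

theorem all_fact : ∀ x y : QuaternionGroup 2, good x y = true →
    ∃ (g : QuaternionGroup 2) (k : Fin 2) (l : Fin 3), ∀ t, cand x y t =
      g * ((cand (a 1) (xa 1))^[k.val] ((cand (xa 0) (xa 1))^[l.val] t)) * g⁻¹ := by
  decide +kernel

theorem sq4 : ∀ t : QuaternionGroup 2, cand (a 1) (xa 1) (cand (a 1) (xa 1) t) = a 1 * t * (a 1)⁻¹ := by
  decide +kernel

theorem cube3 : ∀ t : QuaternionGroup 2,
    cand (xa 0) (xa 1) (cand (xa 0) (xa 1) (cand (xa 0) (xa 1) t)) = t := by
  decide +kernel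

/-! ### parts -/

theorem exists_part {X : Type*} [Group X] [Finite X] (x : X) {r : ℕ} (hr : r.Prime) :
    ∃ m a : ℕ, ¬ r ∣ m ∧ (x ^ m) ^ (r ^ a) = 1 := by
  refine ⟨orderOf x / r ^ (orderOf x).factorization r, (orderOf x).factorization r,
    Nat.not_dvd_ordCompl hr (orderOf_pos x).ne', ?_⟩
  rw [← pow_mul, Nat.div_mul_cancel (Nat.ordProj_dvd _ _), pow_orderOf_eq_one]

theorem mem_of_pow_mem {X : Type*} [Group X] {K : Subgroup X} {x : X} {m n : ℕ} (hn : x ^ n = 1)
    (hc : m.Coprime n) (h : x ^ m ∈ K) : x ∈ K := by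
  have h1 := Nat.gcd_eq_gcd_ab m n
  rw [hc.gcd_eq_one] at h1
  have h2 : x = (x ^ m) ^ (Nat.gcdA m n) := by
    have h3 : x ^ (((1 : ℕ) : ℤ)) = x := by simp
    rw [h1, zpow_add, zpow_mul, zpow_mul, zpow_natCast, zpow_natCast, hn, one_zpow, mul_one] at h3
    exact h3.symm
  rw [h2]
  exact K.zpow_mem h _

section main

variable {X : Type*} [Group X] (N : Subgroup X) [hN : N.Normal] (e : N ≃* QuaternionGroup 2)

/-- conjugation on the model -/
noncomputable def kap : X →* MulAut (QuaternionGroup 2) :=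
  (MulAut.congr e).toMonoidHom.comp MulAut.conjNormal

theorem kap_apply (x : X) (t : QuaternionGroup 2) :
    ((e.symm (kap N e x t) : N) : X) = x * (e.symm t : N) * x⁻¹ := by
  have h1 : kap N e x t = e (MulAut.conjNormal x (e.symm t)) := rfl
  rw [h1, MulEquiv.symm_apply_apply, MulAut.conjNormal_apply]

theorem kap_coe (n : N) (t : QuaternionGroup 2) : kap N e n t = e n * t * (e n)⁻¹ := by
  apply e.symm.injective
  apply Subtype.ext
  rw [kap_apply, map_mul, map_mul, map_inv, e.symm_apply_apply]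
  rfl

variable {N e}

omit hN in
theorem N_le {K : Subgroup X} {s t : QuaternionGroup 2} (hs : s * s = a 2) (ht : t * t = a 2)
    (h1 : t ≠ s) (h2 : t ≠ a 2 * s) (hsK : ((e.symm s : N) : X) ∈ K) (htK : ((e.symm t : N) : X) ∈ K) :
    N ≤ K := by
  intro n hn
  obtain ⟨k, l, h⟩ := gen_fact s t hs ht h1 h2 (e ⟨n, hn⟩)
  have h3 : n = ((e.symm s : N) : X) ^ k.val * ((e.symm t : N) : X) ^ l.val := by
    have h4 := congrArg (fun g => ((e.symm g : N) : X)) h
    simpa using h4
  rw [h3]
  exact K.mul_mem (K.pow_mem hsK _) (K.pow_mem htK _)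

theorem eq_top_of {K : Subgroup X} (hC : (kap N e).ker ≤ K) (h : (kap N e).range ≤ K.map (kap N e)) :
    K = ⊤ := by
  rw [eq_top_iff]
  intro x _
  obtain ⟨k, hk, hkx⟩ := h ⟨x, rfl⟩
  have h1 : k⁻¹ * x ∈ (kap N e).ker := by
    rw [MonoidHom.mem_ker, map_mul, map_inv, hkx, inv_mul_cancel]
  have h2 := K.mul_mem hk (hC h1)
  rwa [mul_inv_cancel_left] at h2

/-- The inner automorphisms are in the image of `K ≥ N`. -/
theorem inner_mem {K : Subgroup X} (hK : N ≤ K) (g : QuaternionGroup 2) :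
    MulAut.conj g ∈ K.map (kap N e) := by
  refine ⟨(e.symm g : N), hK (e.symm g).2, ?_⟩
  ext t
  rw [kap_coe, e.apply_symm_apply, MulAut.conj_apply]

theorem mkpow (α : MulAut (QuaternionGroup 2)) (x y : QuaternionGroup 2)
    (hα : ∀ t, α t = cand x y t) (k : ℕ) (t : QuaternionGroup 2) : (α ^ k) t = (cand x y)^[k] t := by
  induction k generalizing t with
  | zero => rfl
  | succ k ih =>
    rw [pow_succ, Function.iterate_succ_apply, MulAut.mul_apply, ih, hα]

theorem exists_aut (x y : QuaternionGroup 2) (h : good x y = true) :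
    ∃ α : MulAut (QuaternionGroup 2), ∀ t, α t = cand x y t :=
  ⟨MulEquiv.ofBijective
      ({ toFun := cand x y, map_one' := cand_one x y, map_mul' := cand_mul x y h } :
        QuaternionGroup 2 →* QuaternionGroup 2)
      (Finite.injective_iff_bijective.1 (fun g g' => cand_inj x y h g g')), fun _ => rfl⟩

theorem top_of_24 {T : Subgroup (MulAut (QuaternionGroup 2))} (hI : ∀ g, MulAut.conj g ∈ T)
    {α β : MulAut (QuaternionGroup 2)} (hα : ∀ t, α t = cand (a 1) (xa 1) t)
    (hβ : ∀ t, β t = cand (xa 0) (xa 1) t) (hαT : α ∈ T) (hβT : β ∈ T) : T = ⊤ := by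
  rw [eq_top_iff]
  intro γ _
  obtain ⟨g, k, l, h⟩ := all_fact _ _ (good_map γ)
  have h1 : γ = MulAut.conj g * (α ^ k.val * β ^ l.val) := by
    ext t
    rw [eq_cand γ, h, MulAut.mul_apply, MulAut.conj_apply, MulAut.mul_apply, mkpow α _ _ hα,
      mkpow β _ _ hβ]
  rw [h1]
  exact T.mul_mem (hI g) (T.mul_mem (T.pow_mem hαT _) (T.pow_mem hβT _))

variable [Finite X]

/-- the two parts of a cyclic group -/
theorem cyc_parts {C : Subgroup X} (hC : IsCyclic C) :
    ∃ u' ∈ C, ∃ u'' ∈ C, ∃ m s : ℕ, Odd m ∧ u' ^ m = 1 ∧ u'' ^ 2 ^ s = 1 ∧ Nat.card C = 2 ^ s * m ∧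
      orderOf u'' = 2 ^ s ∧ ∀ K : Subgroup X, u' ∈ K → u'' ∈ K → C ≤ K := by
  obtain ⟨⟨c, hc⟩, hg⟩ := hC.exists_generator
  obtain ⟨s, m, hm, hcard⟩ := Nat.exists_eq_two_pow_mul_odd (n := Nat.card C) Nat.card_pos.ne'
  have hoc : orderOf c = Nat.card C := by
    rw [← orderOf_eq_card_of_forall_mem_zpowers hg]
    exact (Subgroup.orderOf_mk c hc).symm
  have hco : Nat.Coprime (2 ^ s) m := Nat.Coprime.pow_left _ (Nat.coprime_two_left.2 hm)
  refine ⟨c ^ 2 ^ s, C.pow_mem hc _, c ^ m, C.pow_mem hc _, m, s, hm, ?_, ?_, hcard, ?_,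
    fun K h1 h2 => ?_⟩
  · rw [← pow_mul, ← hcard, ← hoc, pow_orderOf_eq_one]
  · rw [← pow_mul, mul_comm, ← hcard, ← hoc, pow_orderOf_eq_one]
  · rw [orderOf_pow' _ hm.pos.ne', hoc, hcard, Nat.gcd_eq_right (Dvd.intro_left _ rfl),
      Nat.mul_div_cancel _ hm.pos]
  · have hcK : c ∈ K := by
      have h3 := Nat.gcd_eq_gcd_ab (2 ^ s) m
      rw [hco.gcd_eq_one] at h3
      have h4 : c ^ (((1 : ℕ) : ℤ)) = c := by simp
      rw [h3, zpow_add, zpow_mul, zpow_mul, zpow_natCast, zpow_natCast] at h4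
      rw [← h4]
      exact K.mul_mem (K.zpow_mem h1 _) (K.zpow_mem h2 _)
    intro x hx
    obtain ⟨i, hi⟩ := Subgroup.mem_zpowers_iff.1 (hg ⟨x, hx⟩)
    have h5 := congrArg Subtype.val hi
    simp only [SubgroupClass.coe_zpow] at h5
    rw [← h5]
    exact K.zpow_mem hcK _

/-- Case 24. -/
theorem twoGen_24 (hC : IsCyclic (kap N e).ker) (hZ : ∀ c ∈ (kap N e).ker, ∀ x : X, c * x = x * c)
    (hR : Nat.card (kap N e).range = 24) : TwoGen X := by
  have hRt : (kap N e).range = ⊤ := by
    have hfin : Finite (MulAut (QuaternionGroup 2)) :=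
      Nat.finite_of_card_ne_zero (by rw [card_mulAut]; norm_num)
    exact Subgroup.eq_top_of_card_eq _ (by rw [hR, card_mulAut])
  obtain ⟨α, hα⟩ := exists_aut _ _ good4
  obtain ⟨β, hβ⟩ := exists_aut _ _ good3
  obtain ⟨x, hx⟩ : α ∈ (kap N e).range := hRt ▸ Subgroup.mem_top α
  obtain ⟨y, hy⟩ : β ∈ (kap N e).range := hRt ▸ Subgroup.mem_top β
  obtain ⟨mx, ax, hmx, hx'⟩ := exists_part x Nat.prime_two
  obtain ⟨my, ay, hmy, hy'⟩ := exists_part y Nat.prime_three
  obtain ⟨u', hu', u'', hu'', m, s, hm, hu'm, hu''s, hcard, -, hK⟩ := cyc_parts hC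
  refine ⟨x ^ mx * u', y ^ my * u'', ?_⟩
  obtain ⟨K, hKd⟩ : ∃ K, K = _root_.Subgroup.closure ({x ^ mx * u', y ^ my * u''} : Set X) := ⟨_, rfl⟩
  rw [← hKd]
  have h1 : x ^ mx * u' ∈ K := hKd ▸ _root_.Subgroup.subset_closure (by simp)
  have h2 : y ^ my * u'' ∈ K := hKd ▸ _root_.Subgroup.subset_closure (by simp)
  have hxK : x ^ mx ∈ K := left_mem_of_pow K (hZ _ hu' _).symm hx' hu'm
    (Nat.Coprime.pow_left _ (Nat.coprime_two_left.2 hm)) h1
  have hyK : y ^ my ∈ K := left_mem_of_pow K (hZ _ hu'' _).symm hy' hu''s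
    (Nat.Coprime.pow _ _ (by norm_num)) h2
  have hu'K : u' ∈ K := by
    have := K.mul_mem (K.inv_mem hxK) h1
    rwa [inv_mul_cancel_left] at this
  have hu''K : u'' ∈ K := by
    have := K.mul_mem (K.inv_mem hyK) h2
    rwa [inv_mul_cancel_left] at this
  have hCK := hK K hu'K hu''K
  have hα2 : α ^ 2 = MulAut.conj (a 1) := by
    ext t
    rw [pow_two, MulAut.mul_apply, hα, hα, MulAut.conj_apply, sq4]
  have hα4 : α ^ 4 = 1 := by
    have : α ^ 4 = α ^ 2 * α ^ 2 := by rw [← pow_add]
    rw [this, hα2, ← map_mul]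
    have h3 : (a 1 : QuaternionGroup 2) * a 1 = a 2 := by decide
    rw [h3]
    ext t
    rw [MulAut.conj_apply, MulAut.one_apply]
    revert t
    decide
  have hβ3 : β ^ 3 = 1 := by
    ext t
    rw [pow_succ, pow_two, MulAut.mul_apply, MulAut.mul_apply, hβ, hβ, hβ, cube3, MulAut.one_apply]
  -- `α, β ∈ K.map`
  have hαK : α ∈ K.map (kap N e) := by
    refine mem_of_pow_mem (m := mx) hα4 ?_ ⟨x ^ mx, hxK, by rw [map_pow, hx]⟩
    have : (4 : ℕ) = 2 ^ 2 := by norm_num
    rw [this]
    exact Nat.Coprime.pow_right _ ((Nat.Prime.coprime_iff_not_dvd Nat.prime_two).2 hmx).symm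
  have hβK : β ∈ K.map (kap N e) := by
    refine mem_of_pow_mem (m := my) hβ3 ?_ ⟨y ^ my, hyK, by rw [map_pow, hy]⟩
    exact ((Nat.Prime.coprime_iff_not_dvd Nat.prime_three).2 hmy).symm
  -- `e.symm (a 1) ∈ K`
  have hi : ((e.symm (a 1) : N) : X) ∈ K := by
    obtain ⟨x', hx'K, hx'α⟩ := hαK
    have h3 : (x' ^ 2)⁻¹ * ((e.symm (a 1) : N) : X) ∈ (kap N e).ker := by
      rw [MonoidHom.mem_ker, map_mul, map_inv, map_pow, hx'α, hα2]
      have h4 : kap N e ((e.symm (a 1) : N) : X) = MulAut.conj (a 1) := by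
        ext t
        rw [kap_coe, e.apply_symm_apply, MulAut.conj_apply]
      rw [h4, inv_mul_cancel]
    have h5 := K.mul_mem (K.pow_mem hx'K 2) (hCK h3)
    rwa [mul_inv_cancel_left] at h5
  have hNK : N ≤ K := by
    obtain ⟨y', hy'K, hy'β⟩ := hβK
    refine N_le (e := e) (s := a 1) (t := β (a 1)) (by decide) ?_ ?_ ?_ hi ?_
    · rw [hβ]; decide +kernel
    · rw [hβ]; decide +kernel
    · rw [hβ]; decide +kernel
    · rw [← hy'β, kap_apply]
      exact K.mul_mem (K.mul_mem hy'K hi) (K.inv_mem hy'K)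
  apply eq_top_of hCK
  rw [top_of_24 (fun g => inner_mem hNK g) hα hβ hαK hβK]
  exact le_top

omit [Finite X] in
/-- The image contains the inner automorphisms, four of them. -/
theorem four_dvd {K : Subgroup X} (hK : N ≤ K) : 4 ∣ Nat.card (K.map (kap N e)) := by
  have h1 : (MulAut.conj : QuaternionGroup 2 →* MulAut (QuaternionGroup 2)).range ≤
      K.map (kap N e) := by
    rintro _ ⟨g, rfl⟩
    exact inner_mem hK g
  have h2 : Nat.card (MulAut.conj : QuaternionGroup 2 →* MulAut (QuaternionGroup 2)).range = 4 := by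
    have h3 := Subgroup.card_mul_index (MulAut.conj : QuaternionGroup 2 →* MulAut (QuaternionGroup 2)).ker
    rw [Subgroup.index_ker, Nat.card_eq_fintype_card (α := QuaternionGroup 2),
      QuaternionGroup.card] at h3
    have h4 : Nat.card (MulAut.conj : QuaternionGroup 2 →* MulAut (QuaternionGroup 2)).ker = 2 := by
      have h5 : ((MulAut.conj : QuaternionGroup 2 →* MulAut (QuaternionGroup 2)).ker :
          Set (QuaternionGroup 2)) = {1, a 2} := by
        ext g
        simp only [SetLike.mem_coe, MonoidHom.mem_ker, Set.mem_insert_iff, Set.mem_singleton_iff]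
        constructor
        · intro h
          have h6 : ∀ t : QuaternionGroup 2, g * t * g⁻¹ = t := fun t => by
            rw [← MulAut.conj_apply, h, MulAut.one_apply]
          revert h6
          revert g
          decide +kernel
        · intro h
          ext t
          rw [MulAut.conj_apply, MulAut.one_apply]
          rcases h with rfl | rfl
          · simp
          · revert t; decide
      have h6 : Nat.card ((MulAut.conj : QuaternionGroup 2 →* MulAut (QuaternionGroup 2)).ker :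
          Set (QuaternionGroup 2)) = 2 := by
        rw [h5, Nat.card_coe_set_eq, Set.ncard_pair]
        decide
      exact h6
    rw [h4] at h3
    omega
  rw [← h2]
  exact Subgroup.card_dvd_of_le h1

/-- Case 12. -/
theorem twoGen_12 (hC : IsCyclic (kap N e).ker) (hZ : ∀ c ∈ (kap N e).ker, ∀ x : X, c * x = x * c)
    (hR : Nat.card (kap N e).range = 12) : TwoGen X := by
  have hfin : Finite (MulAut (QuaternionGroup 2)) :=
    Nat.finite_of_card_ne_zero (by rw [card_mulAut]; norm_num)
  have hp3 : Fact (Nat.Prime 3) := ⟨Nat.prime_three⟩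
  obtain ⟨b, hb⟩ := exists_prime_orderOf_dvd_card' (G := (kap N e).range) 3
    (by rw [hR]; norm_num)
  obtain ⟨β, hβd⟩ : ∃ β : MulAut (QuaternionGroup 2), β = b := ⟨_, rfl⟩
  have hβo : orderOf β = 3 := by rw [hβd, Subgroup.orderOf_coe, hb]
  obtain ⟨y, hy⟩ : β ∈ (kap N e).range := hβd ▸ b.2
  have hβ3 : β ^ 3 = 1 := by rw [← hβo, pow_orderOf_eq_one]
  obtain ⟨my, ay, hmy, hy'⟩ := exists_part y Nat.prime_three
  obtain ⟨u', hu', u'', hu'', m, s, hm, hu'm, hu''s, hcard, -, hK⟩ := cyc_parts hC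
  obtain ⟨n, hn⟩ : ∃ n : N, n = e.symm (a 1) := ⟨_, rfl⟩
  have hn4 : ((n : X)) ^ 2 ^ 2 = 1 := by
    have h1 : n ^ 4 = 1 := by
      rw [hn, ← map_pow]
      have : (a 1 : QuaternionGroup 2) ^ 4 = 1 := by decide
      rw [this, map_one]
    have := congrArg Subtype.val h1
    simpa only [_root_.Nat.reducePow, _root_.SubmonoidClass.coe_pow, _root_.OneMemClass.coe_one] using this
  refine ⟨n * u', y ^ my * u'', ?_⟩
  obtain ⟨K, hKd⟩ : ∃ K, K = _root_.Subgroup.closure ({(n : X) * u', y ^ my * u''} : Set X) := ⟨_, rfl⟩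
  rw [← hKd]
  have h1 : (n : X) * u' ∈ K := hKd ▸ _root_.Subgroup.subset_closure (by simp)
  have h2 : y ^ my * u'' ∈ K := hKd ▸ _root_.Subgroup.subset_closure (by simp)
  have hnK : (n : X) ∈ K := left_mem_of_pow K (hZ _ hu' _).symm hn4 hu'm
    (Nat.Coprime.pow_left _ (Nat.coprime_two_left.2 hm)) h1
  have hyK : y ^ my ∈ K := left_mem_of_pow K (hZ _ hu'' _).symm hy' hu''s
    (Nat.Coprime.pow _ _ (by norm_num)) h2
  have hu'K : u' ∈ K := by
    have := K.mul_mem (K.inv_mem hnK) h1
    rwa [inv_mul_cancel_left] at this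
  have hu''K : u'' ∈ K := by
    have := K.mul_mem (K.inv_mem hyK) h2
    rwa [inv_mul_cancel_left] at this
  have hCK := hK K hu'K hu''K
  have hβK : β ∈ K.map (kap N e) := by
    refine mem_of_pow_mem (m := my) hβ3 ?_ ⟨y ^ my, hyK, by rw [map_pow, hy]⟩
    exact ((Nat.Prime.coprime_iff_not_dvd Nat.prime_three).2 hmy).symm
  have hNK : N ≤ K := by
    obtain ⟨y', hy'K, hy'β⟩ := hβK
    have hsq : β (a 1) * β (a 1) = a 2 := by
      rw [← map_mul]
      have : (a 1 : QuaternionGroup 2) * a 1 = a 2 := by decide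
      rw [this, map_a_two]
    have hne : ¬ (β (a 1) = a 1 ∨ β (a 1) = a 2 * a 1) := by
      intro h
      have h3 := order3_fact _ _ (good_map β) (fun g => by
        rw [← eq_cand β g, ← eq_cand β (β g), ← eq_cand β (β (β g))]
        have := DFunLike.congr_fun hβ3 g
        rw [pow_succ, pow_two] at this
        exact this) h
      have h4 : β = 1 := by
        ext t
        rw [eq_cand β, h3, MulAut.one_apply]
      rw [h4, orderOf_one] at hβo
      omega
    rw [not_or] at hne
    refine N_le (e := e) (s := a 1) (t := β (a 1)) (by decide) hsq hne.1 hne.2 (hn ▸ hnK) ?_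
    rw [← hy'β, kap_apply]
    exact K.mul_mem (K.mul_mem hy'K (hn ▸ hnK)) (K.inv_mem hy'K)
  apply eq_top_of hCK
  have h4 := four_dvd (e := e) hNK
  have h3 : 3 ∣ Nat.card (K.map (kap N e)) := by
    have := Subgroup.orderOf_dvd_natCard _ hβK
    rwa [hβo] at this
  have h12 : 12 ∣ Nat.card (K.map (kap N e)) := by
    have : (12 : ℕ) = 4 * 3 := by norm_num
    rw [this]
    exact Nat.Coprime.mul_dvd_of_dvd_of_dvd (by norm_num) h4 h3
  have hle : K.map (kap N e) ≤ (kap N e).range := Subgroup.map_le_range _ _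
  have heq : K.map (kap N e) = (kap N e).range := by
    apply Subgroup.eq_of_le_of_card_ge hle
    rw [hR]
    exact Nat.le_of_dvd Nat.card_pos h12
  exact heq.ge

/-- Case 8. -/
theorem twoGen_8 (hC : IsCyclic (kap N e).ker) (hZ : ∀ c ∈ (kap N e).ker, ∀ x : X, c * x = x * c)
    (hR : Nat.card (kap N e).range = 8) (h4 : ¬ 4 ∣ Nat.card (kap N e).ker) : TwoGen X := by
  have hfin : Finite (MulAut (QuaternionGroup 2)) :=
    Nat.finite_of_card_ne_zero (by rw [card_mulAut]; norm_num)
  -- an element outside the inner automorphisms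
  obtain ⟨α, ⟨x, hx⟩, hαI⟩ : ∃ α ∈ (kap N e).range, ¬ ∃ g, α = MulAut.conj g := by
    by_contra hcon
    push Not at hcon
    have h1 : (kap N e).range ≤ N.map (kap N e) := by
      intro α hα
      obtain ⟨g, rfl⟩ := hcon α hα
      exact inner_mem le_rfl g
    have h2 : Nat.card (N.map (kap N e)) ∣ 4 := by
      have h3 : N.map (kap N e) ≤ (MulAut.conj : QuaternionGroup 2 →* MulAut (QuaternionGroup 2)).range := by
        rintro _ ⟨n, hn, rfl⟩
        refine ⟨e ⟨n, hn⟩, ?_⟩
        ext t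
        rw [MulAut.conj_apply]
        exact (kap_coe N e ⟨n, hn⟩ t).symm
      refine (Subgroup.card_dvd_of_le h3).trans ?_
      have h5 := Subgroup.card_mul_index (MulAut.conj : QuaternionGroup 2 →* MulAut (QuaternionGroup 2)).ker
      rw [Subgroup.index_ker, Nat.card_eq_fintype_card (α := QuaternionGroup 2),
        QuaternionGroup.card] at h5
      have h6 : 2 ∣ Nat.card (MulAut.conj : QuaternionGroup 2 →* MulAut (QuaternionGroup 2)).ker := by
        have h7 : (a 2 : QuaternionGroup 2) ∈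
            (MulAut.conj : QuaternionGroup 2 →* MulAut (QuaternionGroup 2)).ker := by
          rw [MonoidHom.mem_ker]
          ext t
          rw [MulAut.conj_apply, MulAut.one_apply]
          revert t; decide
        have h8 : orderOf (a 2 : QuaternionGroup 2) = 2 :=
          orderOf_eq_prime (by decide) (by decide)
        have h9 := Subgroup.orderOf_dvd_natCard _ h7
        rwa [h8] at h9
      obtain ⟨w, hw⟩ := h6
      rw [hw, mul_assoc] at h5
      refine ⟨w, ?_⟩
      rw [mul_comm] at h5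
      have : Nat.card (MulAut.conj : QuaternionGroup 2 →* MulAut (QuaternionGroup 2)).range * w = 4 := by
        linarith only [h5]
      exact this.symm
    have h3 := Nat.le_of_dvd (by norm_num) ((Subgroup.card_dvd_of_le h1).trans h2)
    omega
  have hα8 : α ^ 8 = 1 := by
    have h1 := Subgroup.orderOf_dvd_natCard (kap N e).range ⟨x, hx⟩
    rw [hR] at h1
    exact orderOf_dvd_iff_pow_eq_one.1 h1
  obtain ⟨mx, ax, hmx, hx'⟩ := exists_part x Nat.prime_two
  obtain ⟨u', hu', u'', hu'', m, s, hm, hu'm, hu''s, hcard, ho'', hK⟩ := cyc_parts hC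
  -- `u''` has order at most two
  have hz : ((e.symm (a 2) : N) : X) ∈ (kap N e).ker := by
    rw [MonoidHom.mem_ker]
    ext t
    rw [kap_coe, e.apply_symm_apply, MulAut.one_apply]
    revert t; decide
  have hs1 : s = 1 := by
    have hs2 : s ≤ 1 := by
      by_contra hcon
      apply h4
      rw [hcard]
      exact Dvd.dvd.mul_right (pow_dvd_pow 2 (show 2 ≤ s by omega)) _
    have hs0 : s ≠ 0 := by
      rintro rfl
      have h1 := Subgroup.orderOf_dvd_natCard (kap N e).ker hz
      have h2 : orderOf ((e.symm (a 2) : N) : X) = 2 := by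
        rw [Subgroup.orderOf_coe, MulEquiv.orderOf_eq]
        exact orderOf_eq_prime (by decide) (by decide)
      rw [h2, hcard, pow_zero, one_mul] at h1
      exact (Nat.not_even_iff_odd.2 hm) (even_iff_two_dvd.2 h1)
    omega
  have hu''z : u'' = ((e.symm (a 2) : N) : X) := by
    -- the involution of a cyclic group is unique
    have h1 : orderOf (⟨u'', hu''⟩ : (kap N e).ker) = 2 := by
      rw [Subgroup.orderOf_mk, ho'', hs1, pow_one]
    have h2 : orderOf (⟨_, hz⟩ : (kap N e).ker) = 2 := by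
      rw [Subgroup.orderOf_mk, Subgroup.orderOf_coe, MulEquiv.orderOf_eq]
      exact orderOf_eq_prime (by decide) (by decide)
    classical
    have : Fintype (kap N e).ker := Fintype.ofFinite _
    have h5 := IsCyclic.card_pow_eq_one_le (α := (kap N e).ker) (n := 2) (by norm_num)
    by_contra hne
    have h6 : ({1, ⟨u'', hu''⟩, ⟨_, hz⟩} : Finset (kap N e).ker) ⊆
        Finset.univ.filter (fun a => a ^ 2 = 1) := by
      intro w hw
      rw [Finset.mem_filter]
      refine ⟨Finset.mem_univ _, ?_⟩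
      simp only [Finset.mem_insert, Finset.mem_singleton] at hw
      rcases hw with rfl | rfl | rfl
      · simp
      · exact orderOf_dvd_iff_pow_eq_one.1 (dvd_of_eq h1)
      · exact orderOf_dvd_iff_pow_eq_one.1 (dvd_of_eq h2)
    have h7 := (Finset.card_le_card h6).trans h5
    rw [Finset.card_eq_three.2 ⟨_, _, _, ?_, ?_, ?_, rfl⟩] at h7
    · omega
    · intro h; rw [← h, orderOf_one] at h1; omega
    · intro h; rw [← h, orderOf_one] at h2; omega
    · intro h; exact hne (congrArg Subtype.val h)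
  -- the element moved
  obtain ⟨s0, hs0, ht1, ht2⟩ : ∃ s0 : QuaternionGroup 2, s0 * s0 = a 2 ∧ α s0 ≠ s0 ∧ α s0 ≠ a 2 * s0 := by
    by_contra hcon
    push Not at hcon
    apply hαI
    have h1 : α (a 1) = a 1 ∨ α (a 1) = a 2 * a 1 := by
      by_cases h : α (a 1) = a 1
      · exact Or.inl h
      · exact Or.inr (hcon _ (by decide) h)
    have h2 : α (xa 0) = xa 0 ∨ α (xa 0) = a 2 * xa 0 := by
      by_cases h : α (xa 0) = xa 0
      · exact Or.inl h
      · exact Or.inr (hcon _ (by decide) h)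
    obtain ⟨g, hg⟩ := inner_fact _ _ (good_map α) h1 h2
    refine ⟨g, ?_⟩
    ext t
    rw [eq_cand α, hg, MulAut.conj_apply]
  obtain ⟨n, hn⟩ : ∃ n : N, n = e.symm s0 := ⟨_, rfl⟩
  refine ⟨x ^ mx * u', n, ?_⟩
  obtain ⟨K, hKd⟩ : ∃ K, K = _root_.Subgroup.closure ({x ^ mx * u', (n : X)} : Set X) := ⟨_, rfl⟩
  rw [← hKd]
  have h1 : x ^ mx * u' ∈ K := hKd ▸ _root_.Subgroup.subset_closure (by simp)
  have hnK : (n : X) ∈ K := hKd ▸ _root_.Subgroup.subset_closure (by simp)
  have hxK : x ^ mx ∈ K := left_mem_of_pow K (hZ _ hu' _).symm hx' hu'm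
    (Nat.Coprime.pow_left _ (Nat.coprime_two_left.2 hm)) h1
  have hu'K : u' ∈ K := by
    have := K.mul_mem (K.inv_mem hxK) h1
    rwa [inv_mul_cancel_left] at this
  have hαK : α ∈ K.map (kap N e) := by
    refine mem_of_pow_mem (m := mx) hα8 ?_ ⟨x ^ mx, hxK, by rw [map_pow, hx]⟩
    have : (8 : ℕ) = 2 ^ 3 := by norm_num
    rw [this]
    exact Nat.Coprime.pow_right _ ((Nat.Prime.coprime_iff_not_dvd Nat.prime_two).2 hmx).symm
  have hNK : N ≤ K := by
    obtain ⟨y', hy'K, hy'β⟩ := hαK
    have hsq : α s0 * α s0 = a 2 := by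
      rw [← map_mul, hs0, map_a_two]
    refine N_le (e := e) (s := s0) (t := α s0) hs0 hsq ht1 ht2 (hn ▸ hnK) ?_
    rw [← hy'β, kap_apply]
    exact K.mul_mem (K.mul_mem hy'K (hn ▸ hnK)) (K.inv_mem hy'K)
  have hCK : (kap N e).ker ≤ K := hK K hu'K (by rw [hu''z]; exact hNK (e.symm (a 2)).2)
  apply eq_top_of hCK
  -- orders
  have h5 := four_dvd (e := e) hNK
  have hle : K.map (kap N e) ≤ (kap N e).range := Subgroup.map_le_range _ _
  have h6 := Subgroup.card_dvd_of_le hle
  rw [hR] at h6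
  have h7 : Nat.card (K.map (kap N e)) ≠ 4 := by
    intro h8
    -- then `K.map` is the group of inner automorphisms
    have h9 : N.map (kap N e) = K.map (kap N e) := by
      apply Subgroup.eq_of_le_of_card_ge (Subgroup.map_mono hNK)
      rw [h8]
      exact Nat.le_of_dvd Nat.card_pos (four_dvd (e := e) le_rfl)
    rw [← h9] at hαK
    obtain ⟨n', hn', hn'α⟩ := hαK
    apply hαI
    refine ⟨e ⟨n', hn'⟩, ?_⟩
    ext t
    rw [← hn'α, MulAut.conj_apply]
    exact kap_coe N e ⟨n', hn'⟩ t
  have h8 : Nat.card (K.map (kap N e)) = 8 := by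
    obtain ⟨w, hw⟩ := h5
    have := Nat.le_of_dvd (by norm_num) h6
    have h9 : 0 < Nat.card (K.map (kap N e)) := Nat.card_pos
    omega
  have heq : K.map (kap N e) = (kap N e).range := by
    apply Subgroup.eq_of_le_of_card_ge hle
    rw [hR, h8]
  exact heq.ge

end main

end Cfsg.Agent.H479.GenQuat
end

-- part: H479/GenAff
section
set_option autoImplicit false

namespace Cfsg.Agent.H479.GenAff

open Cfsg.Agent.H440.TwoGen Cfsg.Agent.H891.Gen Subgroup

universe u

variable {V : Type u} [AddCommGroup V] {p : ℕ} {H : Subgroup (Equiv.Perm V)}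

/-- elements as additive maps -/
def ad (L : Lin p H) (h : H) : V →+ V := AddMonoidHom.mk' (h : Equiv.Perm V) (L.add h h.2)

@[simp] theorem ad_apply (L : Lin p H) (h : H) (v : V) : ad L h v = (h : Equiv.Perm V) v := rfl

theorem map_sub' (L : Lin p H) (h : H) (v w : V) :
    (h : Equiv.Perm V) (v - w) = (h : Equiv.Perm V) v - (h : Equiv.Perm V) w := map_sub (ad L h) v w

/-- A normal subgroup of order prime to `p` without fixed vectors gives good pairs. -/
theorem affGood_of_coprime (L : Lin p H) (hT : TwoGen ↥H) (N : Subgroup ↥H) [hNn : N.Normal]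
    (hN : ¬ p ∣ Nat.card N) (hfix : ∀ v : V, (∀ n ∈ N, ((n : H) : Equiv.Perm V) v = v) → v = 0) :
    AffGood H := by
  classical
  have hfinV := L.fin
  have hfinH : Finite H := inferInstance
  obtain ⟨a, b, hab⟩ := hT
  refine ⟨a, b, ?_, ?_⟩
  · have h1 := congrArg (Subgroup.map H.subtype) hab
    rw [MonoidHom.map_closure, Set.image_pair, ← MonoidHom.range_eq_map, Subgroup.range_subtype] at h1
    exact h1
  -- every derivation is inner
  have key : ∀ z : Equiv.Perm V → V, (∀ g ∈ H, ∀ h ∈ H, z (g * h) = z g + g (z h)) →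
      ∃ x : V, ∀ h : H, z h = x - (h : Equiv.Perm V) x := by
    intro z hz
    have : Fintype N := Fintype.ofFinite N
    obtain ⟨s, hs⟩ : ∃ s, s = ∑ n : N, z ((n : H) : Equiv.Perm V) := ⟨_, rfl⟩
    have h1 : ∀ g : N, (((g : N) : H) : Equiv.Perm V) s =
        s - Nat.card N • z ((g : H) : Equiv.Perm V) := by
      intro g
      have h2 : (((g : N) : H) : Equiv.Perm V) s = ∑ n : N, (((g : N) : H) : Equiv.Perm V)
          (z ((n : H) : Equiv.Perm V)) := by
        rw [hs]
        exact map_sum (ad L g) _ _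
      have h3 : ∀ n : N, (((g : N) : H) : Equiv.Perm V) (z ((n : H) : Equiv.Perm V)) =
          z (((g * n : N) : H) : Equiv.Perm V) - z ((g : H) : Equiv.Perm V) := by
        intro n
        have h4 := hz ((g : H) : Equiv.Perm V) (g : H).2 ((n : H) : Equiv.Perm V) (n : H).2
        have h5 : (((g * n : N) : H) : Equiv.Perm V) =
            ((g : H) : Equiv.Perm V) * ((n : H) : Equiv.Perm V) := rfl
        rw [h5, h4, add_sub_cancel_left]
      rw [h2, Finset.sum_congr rfl (fun n _ => h3 n), Finset.sum_sub_distrib, Finset.sum_const,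
        Finset.card_univ, ← Nat.card_eq_fintype_card]
      congr 1
      rw [hs]
      exact Fintype.sum_equiv (Equiv.mulLeft g) _ _ (fun n => rfl)
    -- invert `|N|`
    have hco : (Nat.card N).Coprime p := ((Nat.Prime.coprime_iff_not_dvd L.prime).2 hN).symm
    have h6 := Nat.gcd_eq_gcd_ab (Nat.card N) p
    rw [hco.gcd_eq_one] at h6
    obtain ⟨k, hk⟩ : ∃ k : ℤ, k = Nat.gcdA (Nat.card N) p := ⟨_, rfl⟩
    have hkN : ∀ v : V, k • (Nat.card N • v) = v := by
      intro v
      have h7 : ((1 : ℕ) : ℤ) • v = v := by simp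
      rw [h6, add_smul, mul_smul, mul_comm, mul_smul] at h7
      have h8 : ((p : ℕ) : ℤ) • v = 0 := by rw [natCast_zsmul, L.tors]
      rw [h8, smul_zero, add_zero, natCast_zsmul, ← hk, smul_comm] at h7
      exact h7
    have hx : ∀ g : N, z ((g : H) : Equiv.Perm V) = k • s - ((g : H) : Equiv.Perm V) (k • s) := by
      intro g
      have h7 := h1 g
      have h8 : Nat.card N • z ((g : H) : Equiv.Perm V) = s - (((g : N) : H) : Equiv.Perm V) s := by
        rw [h7]; abel
      have h9 := congrArg (fun v => k • v) h8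
      simp only [hkN, smul_sub] at h9
      rw [h9]
      congr 1
      exact (map_zsmul (ad L (g : H)) k s).symm
    refine ⟨k • s, fun h => ?_⟩
    obtain ⟨x, hxd⟩ : ∃ x, x = k • s := ⟨_, rfl⟩
    rw [← hxd] at hx ⊢
    have h10 : z h - x + (h : Equiv.Perm V) x = 0 := by
      apply hfix
      intro n' hn'
      -- `n' = h n h⁻¹`
      obtain ⟨n, hn⟩ : ∃ n : N, n' = h * n * h⁻¹ :=
        ⟨⟨h⁻¹ * n' * h, by simpa only [_root_.inv_inv] using hNn.conj_mem n' hn' h⁻¹⟩, by group⟩
      have h11 : n' * h = h * n := by rw [hn]; group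
      have h12 : (n' : Equiv.Perm V) * (h : Equiv.Perm V) = (h : Equiv.Perm V) * ((n : H) : Equiv.Perm V) :=
        congrArg Subtype.val h11
      have h13 := hz (h : Equiv.Perm V) h.2 ((n : H) : Equiv.Perm V) (n : H).2
      have h14 := hz (n' : Equiv.Perm V) n'.2 (h : Equiv.Perm V) h.2
      rw [h12, h13] at h14
      have h15 := hx n
      have h16 := hx ⟨n', hn'⟩
      simp only at h16
      rw [h15, h16, map_sub' L] at h14
      have h17 : (h : Equiv.Perm V) (((n : H) : Equiv.Perm V) x) =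
          (n' : Equiv.Perm V) ((h : Equiv.Perm V) x) := (DFunLike.congr_fun h12 x).symm
      rw [h17] at h14
      have h18 : (n' : Equiv.Perm V) (z h - x + (h : Equiv.Perm V) x) =
          (n' : Equiv.Perm V) (z h) - (n' : Equiv.Perm V) x +
            (n' : Equiv.Perm V) ((h : Equiv.Perm V) x) := by
        have h19 := map_add (ad L n') (z h - x) ((h : Equiv.Perm V) x)
        rw [map_sub (ad L n')] at h19
        exact h19
      rw [h18]
      have h20 : (n' : Equiv.Perm V) (z h) = z h + ((h : Equiv.Perm V) x -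
          (n' : Equiv.Perm V) ((h : Equiv.Perm V) x)) - (x - (n' : Equiv.Perm V) x) := by
        rw [h14]; abel
      rw [h20]; abel
    have h21 : z h = x - (h : Equiv.Perm V) x + (z h - x + (h : Equiv.Perm V) x) := by abel
    rw [h21, h10, add_zero]
  -- counting
  by_contra hcon
  push Not at hcon
  have hsurj : Function.Surjective (fun x : V => (x - (a : Equiv.Perm V) x, x - (b : Equiv.Perm V) x)) := by
    rintro ⟨v, w⟩
    obtain ⟨z, hz, hza, hzb⟩ := hcon v w
    obtain ⟨x, hx⟩ := key z hz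
    exact ⟨x, by rw [← hza, ← hzb, hx a, hx b]⟩
  have h1 := Nat.card_le_card_of_surjective _ hsurj
  rw [Nat.card_prod] at h1
  have h2 : 1 < Nat.card V := by
    obtain ⟨v, hv⟩ := L.ne
    have : Nontrivial V := ⟨v, 0, hv⟩
    exact Finite.one_lt_card
  nlinarith

/-! ### matrices -/

section mat

variable {F : Type*} [Field F]

/-- Matrices commuting with a non-scalar matrix commute. -/
theorem comm_of_comm {A B B' : Matrix (Fin 2) (Fin 2) F} (hA : ¬ ∃ t : F, A = t • (1 : Matrix (Fin 2) (Fin 2) F))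
    (h : A * B = B * A) (h' : A * B' = B' * A) : B * B' = B' * B := by
  have e1 := fun i j => congrFun (congrFun h i) j
  have e2 := fun i j => congrFun (congrFun h' i) j
  simp only [Matrix.mul_apply, Fin.sum_univ_two] at e1 e2
  have a1 := e1 0 0
  have a2 := e1 0 1
  have a3 := e1 1 0
  have b1 := e2 0 0
  have b2 := e2 0 1
  have b3 := e2 1 0
  by_cases hb : A 0 1 = 0
  · by_cases hc : A 1 0 = 0
    · by_cases hd : A 0 0 = A 1 1
      · exact absurd ⟨A 0 0, by
          ext i j
          (revert i j; simp only [hb, hc, hd, _root_.Fin.forall_fin_succ, Fin.isValue, _root_.Matrix.smul_apply, _root_.smul_eq_mul, _root_.Fin.succ_zero_eq_one, _root_.IsEmpty.forall_iff, _root_.and_true, _root_.Matrix.one_apply_eq, _root_.mul_one, Nat.reduceAdd, _root_.ne_eq, _root_.zero_ne_one, _root_.not_false_eq_true, _root_.Matrix.one_apply_ne, _root_.MulZeroClass.mul_zero, _root_.and_self, _root_.Fin.succ_ne_zero])⟩ hA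
      · have hd' : A 0 0 - A 1 1 ≠ 0 := sub_ne_zero.2 hd
        rw [hb] at a2 b2
        rw [hc] at a3 b3
        have g1 : B 0 1 = 0 := (mul_eq_zero.1 (by linear_combination a2 :
          (A 0 0 - A 1 1) * B 0 1 = 0)).resolve_left hd'
        have g2 : B 1 0 = 0 := (mul_eq_zero.1 (by linear_combination -a3 :
          (A 0 0 - A 1 1) * B 1 0 = 0)).resolve_left hd'
        have g3 : B' 0 1 = 0 := (mul_eq_zero.1 (by linear_combination b2 :
          (A 0 0 - A 1 1) * B' 0 1 = 0)).resolve_left hd'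
        have g4 : B' 1 0 = 0 := (mul_eq_zero.1 (by linear_combination -b3 :
          (A 0 0 - A 1 1) * B' 1 0 = 0)).resolve_left hd'
        ext i j
        (revert i j; simp only [Matrix.mul_apply, Fin.sum_univ_two, g1, g2, g3, g4, mul_comm, _root_.Fin.forall_fin_succ, Fin.isValue, _root_.MulZeroClass.zero_mul, _root_.add_zero, _root_.Fin.succ_zero_eq_one, _root_.zero_add, _root_.IsEmpty.forall_iff, _root_.and_true, _root_.and_self])
    · ext i j
      rw [hb] at a1 a2 b1 b2
      have g1 : B 0 1 = 0 := (mul_eq_zero.1 (by linear_combination -a1 :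
        A 1 0 * B 0 1 = 0)).resolve_left hc
      have g2 : B' 0 1 = 0 := (mul_eq_zero.1 (by linear_combination -b1 :
        A 1 0 * B' 0 1 = 0)).resolve_left hc
      have g3 : A 1 0 * (B 1 0 * (B' 0 0 - B' 1 1) - B' 1 0 * (B 0 0 - B 1 1)) = 0 := by
        linear_combination B 1 0 * b3 - B' 1 0 * a3
      have g4 := (mul_eq_zero.1 g3).resolve_left hc
      fin_cases i <;> fin_cases j <;> simp only [Matrix.mul_apply, Fin.sum_univ_two, g1, g2, Fin.zero_eta, Fin.mk_one]
      · ring
      · ring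
      · linear_combination g4
      · ring
  · have g3 : A 0 1 * (B 0 1 * B' 1 0 - B' 0 1 * B 1 0) = 0 := by
      linear_combination B 0 1 * b1 - B' 0 1 * a1
    have g4 := (mul_eq_zero.1 g3).resolve_left hb
    have g5 : A 0 1 * (B 0 1 * (B' 0 0 - B' 1 1) - B' 0 1 * (B 0 0 - B 1 1)) = 0 := by
      linear_combination B' 0 1 * a2 - B 0 1 * b2
    have g6 := (mul_eq_zero.1 g5).resolve_left hb
    have g7 : A 0 1 * (B 1 0 * (B' 0 0 - B' 1 1) - B' 1 0 * (B 0 0 - B 1 1)) = 0 := by
      linear_combination (B' 0 0 - B' 1 1) * a1 - (B 0 0 - B 1 1) * b1 + A 1 0 * g6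
    have g8 := (mul_eq_zero.1 g7).resolve_left hb
    ext i j
    fin_cases i <;> fin_cases j <;> simp only [Matrix.mul_apply, Fin.sum_univ_two, Fin.zero_eta, Fin.mk_one]
    · linear_combination g4
    · linear_combination -g6
    · linear_combination g8
    · linear_combination -g4

end mat

/-! ### dimension two -/

theorem exists_mat_aux [Fact p.Prime] [Finite V] [Module (ZMod p) V] (L : Lin p H)
    (h2 : Nat.card V = p ^ 2) :
    ∃ r : ↥H →* Matrix (Fin 2) (Fin 2) (ZMod p), Function.Injective r := by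
  have hfr : Module.finrank (ZMod p) V = 2 := by
    have h3 := Module.natCard_eq_pow_finrank (K := ZMod p) (V := V)
    rw [h2, Nat.card_zmod] at h3
    exact (Nat.pow_right_injective L.prime.two_le h3).symm
  let b : Module.Basis (Fin 2) (ZMod p) V := Module.finBasisOfFinrankEq (ZMod p) V hfr
  let g : ↥H →* Module.End (ZMod p) V :=
    { toFun := fun h => (ad L h).toZModLinearMap p
      map_one' := by ext v; simp only [_root_.AddMonoidHom.coe_toZModLinearMap, _root_.Cfsg.Agent.H479.GenAff.ad_apply, _root_.OneMemClass.coe_one, _root_.Equiv.Perm.coe_one, _root_.id_eq, _root_.Module.End.one_apply]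
      map_mul' := fun x y => by ext v; simp only [_root_.AddMonoidHom.coe_toZModLinearMap, _root_.Cfsg.Agent.H479.GenAff.ad_apply, _root_.Subgroup.coe_mul, _root_.Equiv.Perm.coe_mul, _root_.Function.comp_apply, _root_.Module.End.mul_apply] }
  refine ⟨((LinearMap.toMatrixAlgEquiv b : _ ≃ₐ[ZMod p] _) : _ →* _).comp g, ?_⟩
  intro x y hxy
  have h3 : g x = g y := (LinearMap.toMatrixAlgEquiv b).injective hxy
  apply Subtype.ext
  ext v
  exact DFunLike.congr_fun h3 v

/-- A linear representation by `2 × 2` matrices over `ZMod p`. -/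
theorem exists_mat (L : Lin p H) (h2 : Nat.card V = p ^ 2) :
    ∃ r : ↥H →* Matrix (Fin 2) (Fin 2) (ZMod p), Function.Injective r := by
  have hp : Fact p.Prime := ⟨L.prime⟩
  have hfin := L.fin
  let hmod : Module (ZMod p) V := AddCommGroup.zmodModule L.tors
  exact exists_mat_aux L h2

/-- `p² - 1` divides the order. -/
theorem card_dvd (L : Lin p H) (h2 : Nat.card V = p ^ 2) : p ^ 2 - 1 ∣ Nat.card H := by
  have hfin := L.fin
  obtain ⟨v, hv⟩ := L.ne
  have h1 : MulAction.orbit H v = {w : V | w ≠ 0} := by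
    ext w
    constructor
    · rintro ⟨h, rfl⟩ h0
      have h3 : (h : Equiv.Perm V) 0 = 0 := map_zero (ad L h)
      exact hv ((h : Equiv.Perm V).injective (h0.trans h3.symm))
    · intro hw
      obtain ⟨h, hh, h3⟩ := L.trans v w hv hw
      exact ⟨⟨h, hh⟩, h3⟩
  have h3 : Nat.card (MulAction.orbit H v) = p ^ 2 - 1 := by
    rw [h1, ← h2, Nat.card_coe_set_eq]
    have h4 : {w : V | w ≠ 0} = ({0} : Set V)ᶜ := rfl
    rw [h4, Set.ncard_compl, Set.ncard_singleton]
  rw [← h3, Nat.card_coe_set_eq, ← MulAction.index_stabilizer]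
  exact Subgroup.index_dvd_card _

/-- A normal subgroup `≠ 1` has no fixed vectors. -/
theorem fix_zero (L : Lin p H) (N : Subgroup ↥H) [hNn : N.Normal] (hN : N ≠ ⊥) :
    ∀ v : V, (∀ n ∈ N, ((n : H) : Equiv.Perm V) v = v) → v = 0 := by
  intro v hv
  by_contra hv0
  -- then every vector is fixed
  have h3 : ∀ w : V, ∀ n ∈ N, ((n : H) : Equiv.Perm V) w = w := by
    intro w n hn
    by_cases hw : w = 0
    · rw [hw]; exact map_zero (ad L n)
    obtain ⟨h, hh, rfl⟩ := L.trans v w hv0 hw
    obtain ⟨g, hg⟩ : ∃ g : H, g = ⟨h, hh⟩ := ⟨_, rfl⟩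
    have h4 := hv (g⁻¹ * n * g) (by simpa only [_root_.inv_inv] using hNn.conj_mem n hn g⁻¹)
    have h5 : n * g = g * (g⁻¹ * n * g) := by group
    have h6 : (n : Equiv.Perm V) ((g : Equiv.Perm V) v) =
        (g : Equiv.Perm V) (((g⁻¹ * n * g : H) : Equiv.Perm V) v) :=
      DFunLike.congr_fun (congrArg Subtype.val h5) v
    rw [h4, hg] at h6
    exact h6
  apply hN
  rw [Subgroup.eq_bot_iff_forall]
  intro n hn
  apply Subtype.ext
  ext w
  exact h3 w n hn

/-- The centralizer of a non-abelian normal subgroup: central, cyclic, of order dividing `p - 1`. -/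
theorem central (L : Lin p H) (h2 : Nat.card V = p ^ 2) (N : Subgroup ↥H)
    (hN : ∃ n ∈ N, ∃ n' ∈ N, n * n' ≠ n' * n) (C : Subgroup ↥H)
    (hC : ∀ c ∈ C, ∀ n ∈ N, c * n = n * c) :
    (∀ c ∈ C, ∀ x : H, c * x = x * c) ∧ IsCyclic C ∧ Nat.card C ∣ p - 1 := by
  have hp : Fact p.Prime := ⟨L.prime⟩
  have hfinV := L.fin
  obtain ⟨r, hr⟩ := exists_mat L h2
  obtain ⟨n, hn, n', hn', hnn⟩ := hN
  have hsc : ∀ c ∈ C, ∃ t : ZMod p, r c = t • (1 : Matrix (Fin 2) (Fin 2) (ZMod p)) := by
    intro c hc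
    by_contra hcon
    apply hnn
    apply hr
    rw [map_mul, map_mul]
    exact comm_of_comm hcon (by rw [← map_mul, hC c hc n hn, map_mul])
      (by rw [← map_mul, hC c hc n' hn', map_mul])
  refine ⟨fun c hc x => ?_, ?_⟩
  · apply hr
    obtain ⟨t, ht⟩ := hsc c hc
    rw [map_mul, map_mul, ht, Matrix.smul_mul, Matrix.mul_smul, Matrix.one_mul, Matrix.mul_one]
  · have hent : ∀ c ∈ C, r c = (r c 0 0) • (1 : Matrix (Fin 2) (Fin 2) (ZMod p)) := by
      intro c hc
      obtain ⟨t, ht⟩ := hsc c hc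
      rw [ht]
      simp
    let f : C →* ZMod p :=
      { toFun := fun c => r c 0 0
        map_one' := by simp only [_root_.OneMemClass.coe_one, _root_.Fin.isValue, _root_.map_one, _root_.Matrix.one_apply_eq]
        map_mul' := fun c d => by
          rw [Subgroup.coe_mul, map_mul, hent c c.2, hent d d.2]
          simp [mul_comm] }
    have hf : Function.Injective f := by
      intro c d hcd
      apply Subtype.ext
      apply hr
      rw [hent c c.2, hent d d.2]
      congr 1
    refine ⟨isCyclic_of_injective_ringHom f hf, ?_⟩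
    have h3 : Function.Injective f.toHomUnits := by
      intro c d hcd
      apply hf
      exact congrArg Units.val hcd
    have h4 := Subgroup.card_dvd_of_injective f.toHomUnits h3
    rwa [Nat.card_units, Nat.card_zmod] at h4

theorem num5 : ∀ C ∈ Finset.range 23, ∀ R ∈ ({1, 2, 3, 4, 6, 8, 12, 24} : Finset ℕ),
    5 ^ 2 - 1 ∣ C * R → C ∣ 5 - 1 → (R = 24 ∨ R = 12 ∨ (R = 8 ∧ ¬ 4 ∣ C)) ∨ R = 6 := by decide +kernel

theorem num7 : ∀ C ∈ Finset.range 23, ∀ R ∈ ({1, 2, 3, 4, 6, 8, 12, 24} : Finset ℕ),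
    7 ^ 2 - 1 ∣ C * R → C ∣ 7 - 1 → R = 24 ∨ R = 12 ∨ (R = 8 ∧ ¬ 4 ∣ C) := by decide +kernel

theorem num11 : ∀ C ∈ Finset.range 23, ∀ R ∈ ({1, 2, 3, 4, 6, 8, 12, 24} : Finset ℕ),
    11 ^ 2 - 1 ∣ C * R → C ∣ 11 - 1 → R = 24 ∨ R = 12 ∨ (R = 8 ∧ ¬ 4 ∣ C) := by decide +kernel

theorem num23 : ∀ C ∈ Finset.range 23, ∀ R ∈ ({1, 2, 3, 4, 6, 8, 12, 24} : Finset ℕ),
    23 ^ 2 - 1 ∣ C * R → C ∣ 23 - 1 → R = 24 ∨ R = 12 ∨ (R = 8 ∧ ¬ 4 ∣ C) := by decide +kernel

/-- The quaternion row. -/
theorem quat (L : Lin p H) (h2 : Nat.card V = p ^ 2) (hp : p = 5 ∨ p = 7 ∨ p = 11 ∨ p = 23)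
    (hN : ∃ N : Subgroup ↥H, N.Normal ∧ Nonempty (↥N ≃* QuaternionGroup 2)) : AffGood H := by
  obtain ⟨N, hNn, ⟨e⟩⟩ := hN
  have hfinV := L.fin
  have hcardN : Nat.card N = 8 := by
    rw [Nat.card_congr e.toEquiv, Nat.card_eq_fintype_card, QuaternionGroup.card]
  have hfix := fix_zero L N (by rintro rfl; simp at hcardN)
  refine affGood_of_coprime L ?_ N ?_ hfix
  · have hker : ∀ c ∈ (GenQuat.kap N e).ker, ∀ n ∈ N, c * n = n * c := by
      intro c hc n hn
      have h3 := GenQuat.kap_apply N e c (e ⟨n, hn⟩)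
      rw [MonoidHom.mem_ker.1 hc, MulAut.one_apply, e.symm_apply_apply] at h3
      simp only at h3
      exact (eq_mul_inv_iff_mul_eq.1 h3).symm
    obtain ⟨hZ, hcy, hdv⟩ := central L h2 N ⟨e.symm (QuaternionGroup.a 1), (e.symm _).2,
      e.symm (QuaternionGroup.xa 0), (e.symm _).2, by
        intro h
        have h3 : e.symm (QuaternionGroup.a 1) * e.symm (QuaternionGroup.xa 0) =
            e.symm (QuaternionGroup.xa 0) * e.symm (QuaternionGroup.a 1) := Subtype.ext h
        rw [← map_mul, ← map_mul] at h3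
        exact absurd (e.symm.injective h3) (by decide)⟩ _ hker
    have h3 := card_dvd L h2
    have h4 := Subgroup.card_mul_index (GenQuat.kap N e).ker
    rw [Subgroup.index_ker] at h4
    have h24 : Nat.card (GenQuat.kap N e).range ∣ 24 := by
      rw [← Cfsg.Agent.PermutationGroups.AutQuaternion.card_mulAut]
      exact Subgroup.card_subgroup_dvd_card _
    have h4d : 4 ∣ Nat.card (GenQuat.kap N e).range :=
      (GenQuat.four_dvd (e := e) (le_refl N)).trans (Subgroup.card_dvd_of_le (Subgroup.map_le_range _ _))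
    generalize hRd : Nat.card (GenQuat.kap N e).range = R at h4 h24 h4d
    generalize hCd : Nat.card (GenQuat.kap N e).ker = C at h4 hdv
    rw [← h4] at h3
    have hR : R ∈ Nat.divisors 24 := Nat.mem_divisors.2 ⟨h24, by norm_num⟩
    have hR' : Nat.divisors 24 = {1, 2, 3, 4, 6, 8, 12, 24} := by decide
    rw [hR'] at hR
    have h8 : R = 24 ∨ R = 12 ∨ (R = 8 ∧ ¬ 4 ∣ C) := by
      have hle := Nat.le_of_dvd (by rcases hp with rfl | rfl | rfl | rfl <;> norm_num) hdv
      have hC : C ∈ Finset.range 23 := by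
        rw [Finset.mem_range]
        rcases hp with rfl | rfl | rfl | rfl <;> omega
      rcases hp with rfl | rfl | rfl | rfl
      · exact (num5 C hC R hR h3 hdv).resolve_right (by rintro rfl; omega)
      · exact num7 C hC R hR h3 hdv
      · exact num11 C hC R hR h3 hdv
      · exact num23 C hC R hR h3 hdv
    rcases h8 with h8 | h8 | ⟨h8, h9⟩
    · exact GenQuat.twoGen_24 hcy hZ (hRd.trans h8)
    · exact GenQuat.twoGen_12 hcy hZ (hRd.trans h8)
    · exact GenQuat.twoGen_8 hcy hZ (hRd.trans h8) (by rw [hCd]; exact h9)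
  · rw [hcardN]
    intro h
    have := Nat.le_of_dvd (by norm_num) h
    rcases hp with rfl | rfl | rfl | rfl
    · norm_num at h
    · norm_num at h
    · omega
    · omega

end Cfsg.Agent.H479.GenAff
end

-- part: H479/GenSL
section
set_option autoImplicit false

namespace Cfsg.Agent.H479.GenSL

open Cfsg.Agent.H440.TwoGen Cfsg.Agent.H891.Gen Subgroup Cfsg.Agent.H479.GenAff

universe u

abbrev S5 := Matrix.SpecialLinearGroup (Fin 2) (ZMod 5)

/-- upper transvection -/
def uu : S5 := ⟨!![1, 1; 0, 1], by decide⟩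
/-- the Weyl element -/
def ww : S5 := ⟨!![0, 1; -1, 0], by decide⟩
/-- lower transvection -/
def ll : S5 := ⟨!![1, 0; 1, 1], by decide⟩
/-- diagonal -/
def dd : S5 := ⟨!![2, 0; 0, 3], by decide⟩

theorem ll_eq : ll = ww⁻¹ * uu⁻¹ * ww := by decide +kernel
theorem uu5 : uu ^ 5 = 1 := by decide +kernel
theorem uu_ne : uu ≠ 1 := by decide +kernel
theorem dd_conj : dd * uu * dd⁻¹ = uu⁻¹ := by decide +kernel
theorem comm_uu : dd * uu * dd⁻¹ * uu⁻¹ = uu ^ 3 := by decide +kernel
theorem ww2 : ww * ww = -1 := by decide +kernel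
theorem uw3 : (uu * ww) ^ 3 = 1 ∨ (uu * ww) ^ 3 = -1 := by decide +kernel
theorem noncomm : uu * ww ≠ ww * uu := by decide +kernel

private theorem eq2 {a b c d e f g h : ZMod 5} : (!![a, b; c, d] : Matrix (Fin 2) (Fin 2) (ZMod 5)) = !![e, f; g, h] ↔
    a = e ∧ b = f ∧ c = g ∧ d = h :=
  ⟨fun w => ⟨congrFun (congrFun w 0) 0, congrFun (congrFun w 0) 1, congrFun (congrFun w 1) 0, congrFun (congrFun w 1) 1⟩,
    fun ⟨h1, h2, h3, h4⟩ => h1 ▸ h2 ▸ h3 ▸ h4 ▸ rfl⟩

theorem word_fact : ∀ a b c d : ZMod 5, a * d - b * c = 1 →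
    (∃ i j k : Fin 5, (!![a, b; c, d] : Matrix (Fin 2) (Fin 2) (ZMod 5)) =
      !![1, (i.val : ZMod 5); 0, 1] * !![1, 0; (j.val : ZMod 5), 1] * !![1, (k.val : ZMod 5); 0, 1]) ∨
    (∃ i j k : Fin 5, (!![a, b; c, d] : Matrix (Fin 2) (Fin 2) (ZMod 5)) =
      !![1, 0; 1, 1] * (!![1, (i.val : ZMod 5); 0, 1] * !![1, 0; (j.val : ZMod 5), 1] *
        !![1, (k.val : ZMod 5); 0, 1])) := by
  simp only [Matrix.mul_fin_two, eq2, one_mul, mul_one, zero_mul, mul_zero, add_zero, zero_add]
  set_option synthInstance.maxSize 9000 in decide +kernel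

theorem rel_fact : ∀ a b c d : ZMod 5, a * d - b * c = 1 →
    (!![a, b; c, d] : Matrix (Fin 2) (Fin 2) (ZMod 5)) * !![a, b; c, d] = !![-1, 0; 0, -1] →
    (!![1, 1; 0, 1] * !![a, b; c, d]) * (!![1, 1; 0, 1] * !![a, b; c, d]) * (!![1, 1; 0, 1] * !![a, b; c, d]) =
      (!![1, 1; 0, 1] * !![0, 1; -1, 0]) * (!![1, 1; 0, 1] * !![0, 1; -1, 0]) *
        ((!![1, 1; 0, 1] : Matrix (Fin 2) (Fin 2) (ZMod 5)) * !![0, 1; -1, 0]) →
    ∃ k : Fin 5, (!![a, b; c, d] : Matrix (Fin 2) (Fin 2) (ZMod 5)) =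
      !![1, (k.val : ZMod 5); 0, 1] * !![0, 1; -1, 0] * !![1, -(k.val : ZMod 5); 0, 1] := by
  simp only [Matrix.mul_fin_two, eq2, one_mul, mul_one, zero_mul, mul_zero, add_zero, zero_add]
  set_option synthInstance.maxSize 9000 in decide +kernel

theorem uu_pow (k : ℕ) : ((uu ^ k : S5) : Matrix (Fin 2) (Fin 2) (ZMod 5)) = !![1, (k : ZMod 5); 0, 1] := by
  induction k with
  | zero => ext i j; (revert i j; simp only [_root_.Fin.forall_fin_succ, _root_.pow_zero, _root_.Matrix.SpecialLinearGroup.coe_one, _root_.Nat.cast_zero, _root_.Matrix.of_apply, _root_.Matrix.cons_val', _root_.Matrix.cons_val_fin_one, Fin.isValue, _root_.Matrix.cons_val_zero, _root_.Matrix.cons_val_succ, _root_.IsEmpty.forall_iff, _root_.and_true, _root_.Matrix.one_apply_eq, Nat.reduceAdd, _root_.Fin.succ_zero_eq_one, _root_.ne_eq, _root_.zero_ne_one, _root_.not_false_eq_true, _root_.Matrix.one_apply_ne, _root_.and_self, _root_.Fin.succ_ne_zero, _root_.true_and])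
  | succ k ih =>
    rw [pow_succ, Matrix.SpecialLinearGroup.coe_mul, ih]
    ext i j
    (revert i j; simp only [uu, Matrix.mul_apply, Fin.sum_univ_two, add_comm, _root_.Fin.forall_fin_succ, _root_.Matrix.of_apply, _root_.Matrix.cons_val', _root_.Matrix.cons_val_fin_one, Fin.isValue, _root_.Matrix.cons_val_zero, _root_.Matrix.cons_val_one, _root_.Nat.cast_add, _root_.Nat.cast_one, _root_.mul_one, _root_.MulZeroClass.mul_zero, _root_.zero_add, _root_.Matrix.cons_val_succ, _root_.forall_const, _root_.true_and, _root_.implies_true, _root_.and_self])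

theorem ll_pow (k : ℕ) : ((ll ^ k : S5) : Matrix (Fin 2) (Fin 2) (ZMod 5)) = !![1, 0; (k : ZMod 5), 1] := by
  induction k with
  | zero => ext i j; (revert i j; simp only [_root_.Fin.forall_fin_succ, _root_.pow_zero, _root_.Matrix.SpecialLinearGroup.coe_one, _root_.Nat.cast_zero, _root_.Matrix.of_apply, _root_.Matrix.cons_val', _root_.Matrix.cons_val_fin_one, Fin.isValue, _root_.Matrix.cons_val_zero, _root_.Matrix.cons_val_succ, _root_.IsEmpty.forall_iff, _root_.and_true, _root_.Matrix.one_apply_eq, Nat.reduceAdd, _root_.Fin.succ_zero_eq_one, _root_.ne_eq, _root_.zero_ne_one, _root_.not_false_eq_true, _root_.Matrix.one_apply_ne, _root_.and_self, _root_.Fin.succ_ne_zero, _root_.true_and])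
  | succ k ih =>
    rw [pow_succ, Matrix.SpecialLinearGroup.coe_mul, ih]
    ext i j
    (revert i j; simp only [ll, Matrix.mul_apply, Fin.sum_univ_two, _root_.Fin.forall_fin_succ, _root_.Matrix.of_apply, _root_.Matrix.cons_val', _root_.Matrix.cons_val_fin_one, Fin.isValue, _root_.Matrix.cons_val_zero, _root_.Matrix.cons_val_one, _root_.Nat.cast_add, _root_.Nat.cast_one, _root_.mul_one, _root_.Matrix.cons_val_succ, _root_.MulZeroClass.mul_zero, _root_.zero_add, _root_.implies_true, _root_.and_true, _root_.add_zero, _root_.and_self])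

theorem eta (x : S5) : (x : Matrix (Fin 2) (Fin 2) (ZMod 5)) = !![x 0 0, x 0 1; x 1 0, x 1 1] := by
  ext i j
  fin_cases i <;> fin_cases j <;> rfl

theorem det_eta (x : S5) : x 0 0 * x 1 1 - x 0 1 * x 1 0 = 1 := by
  have := x.2
  rwa [Matrix.det_fin_two] at this

theorem top_of {K : Subgroup S5} (hu : uu ∈ K) (hw : ww ∈ K) : K = ⊤ := by
  rw [eq_top_iff]
  intro x _
  have hl : ll ∈ K := by
    rw [ll_eq]
    exact K.mul_mem (K.mul_mem (K.inv_mem hw) (K.inv_mem hu)) hw
  rcases word_fact _ _ _ _ (det_eta x) with ⟨i, j, k, h⟩ | ⟨i, j, k, h⟩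
  · have h1 : x = uu ^ i.val * ll ^ j.val * uu ^ k.val := by
      apply Subtype.ext
      rw [Matrix.SpecialLinearGroup.coe_mul, Matrix.SpecialLinearGroup.coe_mul, uu_pow, ll_pow, uu_pow, ← h,
        ← eta]
    rw [h1]
    exact K.mul_mem (K.mul_mem (K.pow_mem hu _) (K.pow_mem hl _)) (K.pow_mem hu _)
  · have h1 : x = ll * (uu ^ i.val * ll ^ j.val * uu ^ k.val) := by
      apply Subtype.ext
      rw [Matrix.SpecialLinearGroup.coe_mul, Matrix.SpecialLinearGroup.coe_mul,
        Matrix.SpecialLinearGroup.coe_mul, uu_pow, ll_pow, uu_pow]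
      exact (eta x).trans h
    rw [h1]
    exact K.mul_mem hl (K.mul_mem (K.mul_mem (K.pow_mem hu _) (K.pow_mem hl _)) (K.pow_mem hu _))

theorem rel {x : S5} (h1 : x * x = -1) (h2 : (uu * x) ^ 3 = (uu * ww) ^ 3) :
    ∃ k : ℕ, x = uu ^ k * ww * (uu ^ k)⁻¹ := by
  obtain ⟨k, hk⟩ := rel_fact _ _ _ _ (det_eta x) (by
      have := congrArg Subtype.val h1
      rw [← eta]
      rw [Matrix.SpecialLinearGroup.coe_mul] at this
      rw [this]
      ext i j
      (revert i j; simp only [_root_.Fin.forall_fin_succ, _root_.Matrix.SpecialLinearGroup.coe_neg, _root_.Matrix.SpecialLinearGroup.coe_one, _root_.Matrix.neg_apply, _root_.Matrix.of_apply, _root_.Matrix.cons_val', _root_.Matrix.cons_val_fin_one, Fin.isValue, _root_.Matrix.cons_val_zero, _root_.Matrix.cons_val_succ, _root_.IsEmpty.forall_iff, _root_.and_true, _root_.Matrix.one_apply_eq, Nat.reduceAdd, _root_.Fin.succ_zero_eq_one, _root_.ne_eq, _root_.zero_ne_one, _root_.not_false_eq_true, _root_.Matrix.one_apply_ne, _root_.neg_zero,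 _root_.and_self, _root_.Fin.succ_ne_zero, _root_.neg_inj, _root_.true_and])) (by
      have := congrArg Subtype.val h2
      rw [← eta]
      rw [pow_succ, pow_two, pow_succ, pow_two] at this
      simp only [Matrix.SpecialLinearGroup.coe_mul] at this
      exact this)
  refine ⟨k.val, ?_⟩
  rw [eq_mul_inv_iff_mul_eq]
  apply Subtype.ext
  rw [Matrix.SpecialLinearGroup.coe_mul, Matrix.SpecialLinearGroup.coe_mul, uu_pow]
  have h3 := (eta x).trans hk
  rw [h3, Matrix.mul_assoc]
  have h4 : (!![1, -(k.val : ZMod 5); 0, 1] : Matrix (Fin 2) (Fin 2) (ZMod 5)) * !![1, (k.val : ZMod 5); 0, 1] = 1 := by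
    ext i j
    (revert i j; simp only [Matrix.mul_apply, Fin.sum_univ_two, _root_.Fin.forall_fin_succ, _root_.Matrix.of_apply, _root_.Matrix.cons_val', _root_.Matrix.cons_val_fin_one, Fin.isValue, _root_.Matrix.cons_val_zero, _root_.Matrix.cons_val_one, _root_.mul_one, _root_.MulZeroClass.mul_zero, _root_.add_zero, _root_.Matrix.cons_val_succ, _root_.IsEmpty.forall_iff, _root_.and_true, _root_.Matrix.one_apply_eq, _root_.one_mul, _root_.add_neg_cancel, Nat.reduceAdd, _root_.Fin.succ_zero_eq_one, _root_.ne_eq, _root_.zero_ne_one, _root_.not_false_eq_true, _root_.Matrix.one_apply_ne, _root_.and_self, _root_.Fin.succ_ne_zero, _root_.MulZeroClass.zero_mul, _root_.zero_add, _root_.true_and])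
  rw [h4, Matrix.mul_one]
  rfl

/-! ### the trace argument -/

section trace

variable {F : Type*} [Field F]

theorem ch2 (M : Matrix (Fin 2) (Fin 2) F) : M * M = M.trace • M - M.det • 1 := by
  ext i j
  (revert i j; simp only [Matrix.mul_apply, Fin.sum_univ_two, Matrix.trace_fin_two, Matrix.det_fin_two, _root_.Fin.forall_fin_succ, Fin.isValue, _root_.Matrix.sub_apply, _root_.Matrix.smul_apply, _root_.smul_eq_mul, _root_.Fin.succ_zero_eq_one, _root_.IsEmpty.forall_iff, _root_.and_true, _root_.Matrix.one_apply_eq, _root_.mul_one, Nat.reduceAdd, _root_.ne_eq, _root_.zero_ne_one, _root_.not_false_eq_true, _root_.Matrix.one_apply_ne, _root_.MulZeroClass.mul_zero, _root_.sub_zero, _root_.Fin.succ_ne_zero]) <;> (repeat' with_reducible apply And.intro) <;> ring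

theorem trace_sq {M : Matrix (Fin 2) (Fin 2) F} (hd : M.det = 1) (h5 : M ^ 5 = 1) (hF : (5 : F) ≠ 0)
    (ht : (M * M).trace = M.trace) : M = 1 := by
  have h1 := ch2 M
  rw [hd, one_smul] at h1
  have h2 : M.trace * M.trace - 2 = M.trace := by
    have h3 := congrArg Matrix.trace h1
    rw [ht, Matrix.trace_sub, Matrix.trace_smul, Matrix.trace_one, Fintype.card_fin, smul_eq_mul] at h3
    push_cast at h3
    linear_combination -h3
  have hp5 : M ^ 5 = M * M * M * (M * M) := by simp only [pow_succ, pow_zero, one_mul, mul_assoc]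
  have h3 : (M.trace - 2) * (M.trace + 1) = 0 := by linear_combination h2
  rcases mul_eq_zero.1 h3 with h4 | h4
  · have h5' : M.trace = 2 := by linear_combination h4
    rw [h5'] at h1
    have e3 : M * M * M = (3 : F) • M - (2 : F) • (1 : Matrix (Fin 2) (Fin 2) F) := by
      rw [h1, sub_mul, smul_mul_assoc, h1, one_mul]; module
    have e5 : M * M * M * (M * M) = (5 : F) • M - (4 : F) • (1 : Matrix (Fin 2) (Fin 2) F) := by
      rw [e3, h1]
      simp only [sub_mul, mul_sub, smul_mul_assoc, mul_smul_comm, one_mul, mul_one, h1]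
      module
    rw [← hp5, h5] at e5
    have h6 : (5 : F) • (M - 1) = 0 := by
      have : (5 : F) • (M - 1) = ((5 : F) • M - (4 : F) • (1 : Matrix (Fin 2) (Fin 2) F)) - 1 := by module
      rw [this, ← e5, sub_self]
    rcases smul_eq_zero.1 h6 with h7 | h7
    · exact absurd h7 hF
    · exact sub_eq_zero.1 h7
  · have h5' : M.trace = -1 := by linear_combination h4
    rw [h5'] at h1
    have e3 : M * M * M = 1 := by
      rw [h1, sub_mul, smul_mul_assoc, h1, one_mul]; module
    have e2 : M * M = 1 := by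
      rw [h5, e3, one_mul] at hp5
      exact hp5.symm
    rw [e2, one_mul] at e3
    exact e3

end trace

section main

variable {V : Type u} [AddCommGroup V] {p : ℕ} {H : Subgroup (Equiv.Perm V)}

/-- A derived fact: the determinant is trivial on `uu`. -/
theorem det_one {F : Type*} [Field F] {X : Type*} [Group X] (r : X →* Matrix (Fin 2) (Fin 2) F)
    {N : Subgroup X} (e : N ≃* S5) : (r (e.symm uu : N)).det = 1 := by
  let δ : N →* F := ((Matrix.detMonoidHom).comp r).comp N.subtype
  have h1 : δ (e.symm uu) ^ 3 = 1 := by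
    rw [← map_pow, ← map_pow, ← comm_uu]
    simp only [map_mul]
    have h2 : δ (e.symm dd) * δ (e.symm dd⁻¹) = 1 := by
      rw [← map_mul, ← map_mul, mul_inv_cancel, map_one, map_one]
    have h3 : δ (e.symm uu) * δ (e.symm uu⁻¹) = 1 := by
      rw [← map_mul, ← map_mul, mul_inv_cancel, map_one, map_one]
    linear_combination (δ (e.symm uu) * δ (e.symm uu⁻¹)) * h2 + h3
  have h2 : δ (e.symm uu) ^ 5 = 1 := by
    rw [← map_pow, ← map_pow, uu5, map_one, map_one]
  have h3 : δ (e.symm uu) = 1 := by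
    have h4 : δ (e.symm uu) ^ 2 = 1 := by
      have : δ (e.symm uu) ^ 5 = δ (e.symm uu) ^ 3 * δ (e.symm uu) ^ 2 := by ring
      rw [h1, h2, one_mul] at this
      exact this.symm
    have : δ (e.symm uu) ^ 3 = δ (e.symm uu) ^ 2 * δ (e.symm uu) := by ring
    rw [h1, h4, one_mul] at this
    exact this.symm
  exact h3

/-- Every element of `X` is an element of `N` times an element of the centralizer of `N`, if `X` acts on a plane. -/
theorem split {F : Type*} [Field F] (hF : (5 : F) ≠ 0) {X : Type*} [Group X] [Finite X]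
    (r : X →* Matrix (Fin 2) (Fin 2) F) (hr : Function.Injective r)
    (N : Subgroup X) [hN : N.Normal] (e : N ≃* S5) (x : X) :
    ∃ n ∈ N, ∀ m ∈ N, (n * x) * m = m * (n * x) := by
  obtain ⟨U, hU⟩ : ∃ U : N, U = e.symm uu := ⟨_, rfl⟩
  obtain ⟨W, hW⟩ : ∃ W : N, W = e.symm ww := ⟨_, rfl⟩
  have hU5 : (U : X) ^ 5 = 1 := by
    have h1 : U ^ 5 = 1 := by rw [hU, ← map_pow, uu5, map_one]
    have := congrArg Subtype.val h1
    simpa only [_root_.SubmonoidClass.coe_pow, _root_.OneMemClass.coe_one] using this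
  have hU1 : (U : X) ≠ 1 := by
    intro h
    have h1 : U = 1 := Subtype.ext h
    rw [hU] at h1
    exact uu_ne ((MulEquiv.map_eq_one_iff e.symm).1 h1)
  -- no element conjugates `U` into `U ^ 2`
  have hno : ∀ y : X, y * U * y⁻¹ ≠ (U : X) ^ 2 := by
    intro y hy
    have h1 : (r (U : X)).det = 1 := hU ▸ det_one r e
    have h2 : r (U : X) ^ 5 = 1 := by rw [← map_pow, hU5, map_one]
    have h3 : (r (U : X) * r (U : X)).trace = (r (U : X)).trace := by
      rw [← map_mul, ← pow_two, ← hy, map_mul, map_mul, Matrix.trace_mul_comm, ← mul_assoc, ← map_mul,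
        inv_mul_cancel, map_one, one_mul]
    have h4 := trace_sq h1 h2 hF h3
    exact hU1 (hr (by rw [h4, map_one]))
  have : Fact (Nat.Prime 5) := ⟨by norm_num⟩
  -- conjugate `x U x⁻¹` into `⟨U⟩` by Sylow
  obtain ⟨n1, k, hk⟩ : ∃ (n1 : N) (k : ℕ), (n1 : X) * (x * U * x⁻¹) * (n1 : X)⁻¹ = (U : X) ^ k := by
    have hcard : Nat.card N = 120 := by
      rw [Nat.card_congr e.toEquiv, Nat.card_eq_fintype_card]
      decide +kernel
    obtain ⟨U', hU'⟩ : ∃ U' : N, (U' : X) = x * U * x⁻¹ := ⟨⟨_, hN.conj_mem U U.2 x⟩, rfl⟩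
    have ho : ∀ Z : N, (Z : X) ^ 5 = 1 → (Z : X) ≠ 1 → Nat.card (Subgroup.zpowers Z) = 5 ^ (Nat.card N).factorization 5 := by
      intro Z hZ hZ1
      have h1 : orderOf Z = 5 := orderOf_eq_prime (Subtype.ext (by simpa only [_root_.SubmonoidClass.coe_pow, _root_.OneMemClass.coe_one] using hZ))
        (fun h => hZ1 (congrArg Subtype.val h))
      have h2 : (120 : ℕ).factorization 5 = 1 := by
        rw [Nat.factorization_def _ (by norm_num)]
        decide +kernel
      rw [Nat.card_zpowers, h1, hcard, h2, pow_one]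
    have hU'5 : (U' : X) ^ 5 = 1 := by
      rw [hU', conj_pow, hU5, mul_one, mul_inv_cancel]
    have hU'1 : (U' : X) ≠ 1 := by
      rw [hU']
      intro h
      rw [mul_inv_eq_one] at h
      exact hU1 (by simpa using h)
    let P : Sylow 5 N := Sylow.ofCard (Subgroup.zpowers U) (ho U hU5 hU1)
    let P' : Sylow 5 N := Sylow.ofCard (Subgroup.zpowers U') (ho U' hU'5 hU'1)
    obtain ⟨g, hg⟩ := MulAction.exists_smul_eq N P' P
    have h1 : g * U' * g⁻¹ ∈ (P : Subgroup N) := by
      rw [← hg, Sylow.coe_subgroup_smul]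
      exact Subgroup.smul_mem_pointwise_smul U' (MulAut.conj g) _ (Subgroup.mem_zpowers U')
    have h2 : g * U' * g⁻¹ ∈ Subgroup.zpowers U := h1
    rw [← mem_powers_iff_mem_zpowers] at h2
    obtain ⟨k, hk⟩ := h2
    refine ⟨g, k, ?_⟩
    have := congrArg Subtype.val hk
    rw [← hU']
    simpa only [_root_.Subgroup.coe_mul, _root_.InvMemClass.coe_inv, _root_.SubmonoidClass.coe_pow] using this.symm
  -- `k` is `±1`
  obtain ⟨n2, h2⟩ : ∃ n2 : N, (n2 : X) * (x * U * x⁻¹) * (n2 : X)⁻¹ = (U : X) := by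
    have hmod : (U : X) ^ k = (U : X) ^ (k % 5) := by
      conv_lhs => rw [← Nat.div_add_mod k 5, pow_add, pow_mul, hU5, one_pow, one_mul]
    rw [hmod] at hk
    have hk5 : k % 5 < 5 := Nat.mod_lt _ (by norm_num)
    obtain ⟨y, hy⟩ : ∃ y : X, y = n1 * x := ⟨_, rfl⟩
    have hyU : y * U * y⁻¹ = (U : X) ^ (k % 5) := by
      rw [← hk, hy]; group
    have hpw : ∀ j : ℕ, y * (U : X) ^ j * y⁻¹ = (U : X) ^ (k % 5 * j) := by
      intro j
      rw [← conj_pow, hyU, ← pow_mul]
    interval_cases hkk : k % 5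
    · exfalso
      rw [pow_zero, mul_inv_eq_one] at hyU
      exact hU1 (by simpa using hyU)
    · exact ⟨n1, by rw [hk, pow_one]⟩
    · exact absurd hyU (hno y)
    · exfalso
      apply hno (y ^ 3)
      have e1 : y ^ 3 * U * (y ^ 3)⁻¹ = y * (y * (y * (U : X) ^ 1 * y⁻¹) * y⁻¹) * y⁻¹ := by
        simp only [pow_succ, pow_zero, one_mul, mul_inv_rev, mul_assoc]
      rw [e1, hpw, hpw, hpw]
      have : (U : X) ^ (3 * (3 * (3 * 1))) = ((U : X) ^ 5) ^ 5 * (U : X) ^ 2 := by
        rw [← pow_mul, ← pow_add]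
      rw [this, hU5, one_pow, one_mul]
    · -- use `dd`
      have hd : ((e.symm dd : N) : X) * U * ((e.symm dd : N) : X)⁻¹ = (U : X)⁻¹ := by
        have h1 : e.symm dd * U * (e.symm dd)⁻¹ = U⁻¹ := by
          rw [hU, ← map_inv, ← map_mul, ← map_mul, dd_conj, map_inv]
        have := congrArg Subtype.val h1
        simpa only [_root_.Subgroup.coe_mul, _root_.InvMemClass.coe_inv] using this
      refine ⟨e.symm dd * n1, ?_⟩
      have e1 : ((e.symm dd * n1 : N) : X) * (x * U * x⁻¹) * ((e.symm dd * n1 : N) : X)⁻¹ =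
          ((e.symm dd : N) : X) * (n1 * (x * U * x⁻¹) * (n1 : X)⁻¹) * ((e.symm dd : N) : X)⁻¹ := by
        rw [Subgroup.coe_mul]; group
      rw [e1, hk, ← conj_pow, hd]
      have : (U : X)⁻¹ ^ 4 = (U : X) * ((U : X) ^ 5)⁻¹ := by group
      rw [this, hU5, inv_one, mul_one]
  -- now `y = n2 x` centralizes `U`
  obtain ⟨y, hy⟩ : ∃ y : X, y = n2 * x := ⟨_, rfl⟩
  have hyU : y * U * y⁻¹ = U := by
    conv_rhs => rw [← h2]
    rw [hy]; group
  obtain ⟨W', hW'⟩ : ∃ W' : N, (W' : X) = y * W * y⁻¹ := ⟨⟨_, hN.conj_mem W W.2 y⟩, rfl⟩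
  -- conjugation by `y` as an automorphism of `N`
  obtain ⟨f, hf⟩ : ∃ f : N →* N, ∀ m : N, ((f m : N) : X) = y * m * y⁻¹ :=
    ⟨(MulAut.conjNormal y : MulAut N).toMonoidHom, fun m => MulAut.conjNormal_apply y m⟩
  have hfinj : Function.Injective f := by
    intro a b hab
    apply Subtype.ext
    have := congrArg Subtype.val hab
    rw [hf, hf] at this
    simpa only [_root_.SetLike.coe_eq_coe, _root_.mul_left_inj, _root_.mul_right_inj] using this
  have hfU : f U = U := Subtype.ext (by rw [hf, hyU])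
  have hfz : f (e.symm (-1)) = e.symm (-1) := by
    -- the unique involution
    have h1 : (e (f (e.symm (-1)))) * (e (f (e.symm (-1)))) = 1 := by
      rw [← map_mul, ← map_mul, ← map_mul]
      simp only [_root_.mul_neg, _root_.mul_one, _root_.neg_neg, _root_.map_one]
    have h3 : e (f (e.symm (-1))) ≠ 1 := by
      intro h
      rw [MulEquiv.map_eq_one_iff] at h
      have h4 : e.symm (-1 : S5) = 1 := hfinj (by rw [h, map_one])
      rw [MulEquiv.map_eq_one_iff] at h4
      exact absurd h4 (by decide +kernel)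
    have h4 : ∀ z : S5, z * z = 1 → z ≠ 1 → z = -1 := by decide +kernel
    apply e.injective
    rw [h4 _ h1 h3, e.apply_symm_apply]
  have hsub := rel (x := e (f W)) (by
      rw [← map_mul, ← map_mul, hW, ← map_mul, ww2, hfz, e.apply_symm_apply]) (by
      have h1 : uu * e (f W) = e (f (e.symm (uu * ww))) := by
        rw [map_mul e.symm, map_mul f, map_mul e, ← hU, hfU, hW, hU, e.apply_symm_apply]
      rw [h1, ← map_pow, ← map_pow, ← map_pow]
      rcases uw3 with h2 | h2
      · rw [h2]; simp only [_root_.map_one]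
      · rw [h2, hfz, e.apply_symm_apply])
  obtain ⟨k, hk⟩ := hsub
  -- correct by `U ^ (-k)`
  refine ⟨(U ^ k : N)⁻¹ * n2, (((U ^ k : N)⁻¹ * n2 : N)).2, ?_⟩
  obtain ⟨t, ht⟩ : ∃ t : X, t = ((U ^ k : N) : X)⁻¹ * n2 * x := ⟨_, rfl⟩
  have hty : t = ((U : X) ^ k)⁻¹ * y := by rw [ht, hy]; simp only [mul_assoc, _root_.SubmonoidClass.coe_pow]
  have htU : t * U = U * t := by
    rw [hty]
    have h3 : y * U = U * y := by rw [mul_inv_eq_iff_eq_mul] at hyU; exact hyU
    have h4 : ((U : X) ^ k)⁻¹ * U = U * ((U : X) ^ k)⁻¹ := by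
      have : Commute ((U : X) ^ k)⁻¹ (U : X) := (Commute.pow_left (Commute.refl _) k).inv_left
      exact this
    rw [mul_assoc, h3, ← mul_assoc, h4, mul_assoc]
  have htW : t * W = W * t := by
    have h3 : f W = U ^ k * W * (U ^ k)⁻¹ := by
      apply e.injective
      rw [hk, map_mul, map_mul, map_inv, map_pow, hU, hW, e.apply_symm_apply, e.apply_symm_apply]
    have h4 := congrArg Subtype.val h3
    rw [hf] at h4
    simp only [Subgroup.coe_mul, Subgroup.coe_inv, SubmonoidClass.coe_pow] at h4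
    -- `y W y⁻¹ = U^k W U^-k`
    rw [hty]
    have h5 : y * W = (U : X) ^ k * W * ((U : X) ^ k)⁻¹ * y := by
      rw [← h4]; group
    rw [mul_assoc, h5]
    group
  have hcent : ∀ m ∈ N, t * m = m * t := by
    intro m hm
    let K : Subgroup S5 := ((Subgroup.centralizer ({t} : Set X)).subgroupOf N).map e.toMonoidHom
    have hKu : uu ∈ K := ⟨U, by
      change U ∈ (Subgroup.centralizer ({t} : Set X)).subgroupOf N
      rw [Subgroup.mem_subgroupOf, Subgroup.mem_centralizer_singleton_iff]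
      exact htU.symm, by rw [hU]; exact e.apply_symm_apply _⟩
    have hKw : ww ∈ K := ⟨W, by
      change W ∈ (Subgroup.centralizer ({t} : Set X)).subgroupOf N
      rw [Subgroup.mem_subgroupOf, Subgroup.mem_centralizer_singleton_iff]
      exact htW.symm, by rw [hW]; exact e.apply_symm_apply _⟩
    have h6 : e ⟨m, hm⟩ ∈ K := (top_of hKu hKw) ▸ Subgroup.mem_top _
    obtain ⟨m', hm', h7⟩ := h6
    have h8 : m' = ⟨m, hm⟩ := e.injective h7
    rw [h8] at hm'
    have h9 : (⟨m, hm⟩ : N) ∈ (Subgroup.centralizer ({t} : Set X)).subgroupOf N := hm'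
    rw [Subgroup.mem_subgroupOf, Subgroup.mem_centralizer_singleton_iff] at h9
    exact h9.symm
  intro m hm
  have h10 := hcent m hm
  rw [ht] at h10
  exact h10

/-- `X = N C` with `N ≅ SL₂(5)` and `C` central cyclic: two generators. -/
theorem twoGen_of_split {X : Type*} [Group X] (N : Subgroup X) (e : N ≃* S5) (C : Subgroup X)
    (hC : ∀ c ∈ C, ∀ x : X, c * x = x * c) (hcy : IsCyclic C) (hs : ∀ x : X, ∃ n ∈ N, n * x ∈ C) :
    TwoGen X := by
  obtain ⟨⟨c, hc⟩, hg⟩ := hcy.exists_generator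
  have hCle : ∀ K : Subgroup X, c ∈ K → C ≤ K := by
    intro K hcK x hx
    obtain ⟨i, hi⟩ := Subgroup.mem_zpowers_iff.1 (hg ⟨x, hx⟩)
    have h5 := congrArg Subtype.val hi
    simp only [SubgroupClass.coe_zpow] at h5
    rw [← h5]
    exact K.zpow_mem hcK _
  have hNle : ∀ K : Subgroup X, ((e.symm uu : N) : X) ∈ K → ((e.symm ww : N) : X) ∈ K → N ≤ K := by
    intro K h1 h2 n hn
    have h3 : (K.subgroupOf N).map e.toMonoidHom = ⊤ := by
      apply top_of
      · exact ⟨e.symm uu, Subgroup.mem_subgroupOf.2 h1, e.apply_symm_apply _⟩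
      · exact ⟨e.symm ww, Subgroup.mem_subgroupOf.2 h2, e.apply_symm_apply _⟩
    have h4 : e ⟨n, hn⟩ ∈ (K.subgroupOf N).map e.toMonoidHom := h3 ▸ Subgroup.mem_top _
    obtain ⟨m, hm, h5⟩ := h4
    have h6 : m = ⟨n, hn⟩ := e.injective h5
    rw [h6] at hm
    exact Subgroup.mem_subgroupOf.1 hm
  have htop : ∀ K : Subgroup X, N ≤ K → C ≤ K → K = ⊤ := by
    intro K h1 h2
    rw [eq_top_iff]
    intro x _
    obtain ⟨n, hn, h3⟩ := hs x
    have := K.mul_mem (K.inv_mem (h1 hn)) (h2 h3)
    rwa [inv_mul_cancel_left] at this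
  obtain ⟨U, hU⟩ : ∃ U : X, U = (e.symm uu : N) := ⟨_, rfl⟩
  obtain ⟨W, hW⟩ : ∃ W : X, W = (e.symm ww : N) := ⟨_, rfl⟩
  refine ⟨U * c, W, ?_⟩
  obtain ⟨K, hKd⟩ : ∃ K, K = _root_.Subgroup.closure ({U * c, W} : Set X) := ⟨_, rfl⟩
  rw [← hKd]
  have h1 : U * c ∈ K := hKd ▸ _root_.Subgroup.subset_closure (by simp)
  have hWK : W ∈ K := hKd ▸ _root_.Subgroup.subset_closure (by simp)
  -- every element is in `K C`
  have hKC : ∀ x : X, ∃ k ∈ K, ∃ c' ∈ C, x = k * c' := by
    let K' : Subgroup X :=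
      { carrier := {x | ∃ k ∈ K, ∃ c' ∈ C, x = k * c'}
        mul_mem' := by
          rintro _ _ ⟨k, hk, d, hd, rfl⟩ ⟨k', hk', d', hd', rfl⟩
          refine ⟨k * k', K.mul_mem hk hk', d * d', C.mul_mem hd hd', ?_⟩
          rw [mul_assoc, ← mul_assoc d, hC d hd k']; group
        one_mem' := ⟨1, K.one_mem, 1, C.one_mem, by simp⟩
        inv_mem' := by
          rintro _ ⟨k, hk, d, hd, rfl⟩
          refine ⟨k⁻¹, K.inv_mem hk, d⁻¹, C.inv_mem hd, ?_⟩
          rw [mul_inv_rev, hC d⁻¹ (C.inv_mem hd)] }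
    have hK' : K' = ⊤ := by
      apply htop
      · apply hNle
        · exact ⟨U * c, h1, c⁻¹, C.inv_mem hc, by rw [mul_inv_cancel_right]; exact hU.symm⟩
        · exact ⟨W, hWK, 1, C.one_mem, by rw [mul_one]; exact hW.symm⟩
      · intro d hd
        exact ⟨1, K.one_mem, d, hd, by rw [one_mul]⟩
    intro x
    have : x ∈ K' := hK' ▸ Subgroup.mem_top x
    exact this
  -- commutators are in `K`
  have hcomm : ∀ x y : X, x * y * x⁻¹ * y⁻¹ ∈ K := by
    intro x y
    obtain ⟨k, hk, d, hd, rfl⟩ := hKC x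
    obtain ⟨k', hk', d', hd', rfl⟩ := hKC y
    have h2 : k * d * (k' * d') * (k * d)⁻¹ * (k' * d')⁻¹ = k * k' * k⁻¹ * k'⁻¹ := by
      have e1 : k * d * (k' * d') = k * k' * (d * d') := by
        rw [mul_assoc, ← mul_assoc d, hC d hd k']; group
      have e2 : k' * d' * (k * d) = k' * k * (d * d') := by
        rw [mul_assoc, ← mul_assoc d', hC d' hd' k, hC d hd d']; group
      have e3 : k * d * (k' * d') * (k * d)⁻¹ * (k' * d')⁻¹ =
          (k * d * (k' * d')) * (k' * d' * (k * d))⁻¹ := by group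
      rw [e3, e1, e2]; group
    rw [h2]
    exact K.mul_mem (K.mul_mem (K.mul_mem hk hk') (K.inv_mem hk)) (K.inv_mem hk')
  have hUK : U ∈ K := by
    have h2 := hcomm ((e.symm dd : N) : X) U
    have h3 : ((e.symm dd : N) : X) * U * ((e.symm dd : N) : X)⁻¹ * U⁻¹ = U ^ 3 := by
      have h4 : e.symm dd * e.symm uu * (e.symm dd)⁻¹ * (e.symm uu)⁻¹ = (e.symm uu) ^ 3 := by
        rw [← map_inv, ← map_inv, ← map_mul, ← map_mul, ← map_mul, ← map_pow, comm_uu]
      have := congrArg Subtype.val h4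
      rw [hU]
      simpa only [_root_.Subgroup.coe_mul, _root_.InvMemClass.coe_inv, _root_.SubmonoidClass.coe_pow] using this
    rw [h3] at h2
    have h5 : U ^ 5 = 1 := by
      have h4 : (e.symm uu) ^ 5 = 1 := by rw [← map_pow, uu5, map_one]
      have := congrArg Subtype.val h4
      rw [hU]
      simpa only [_root_.SubmonoidClass.coe_pow, _root_.OneMemClass.coe_one] using this
    exact GenQuat.mem_of_pow_mem h5 (by norm_num) h2
  have hcK : c ∈ K := by
    have := K.mul_mem (K.inv_mem hUK) h1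
    rwa [inv_mul_cancel_left] at this
  exact htop K (hNle K (hU ▸ hUK) (hW ▸ hWK)) (hCle K hcK)

end main

end Cfsg.Agent.H479.GenSL
end

-- part: H479/GenLin
section
set_option autoImplicit false

namespace Cfsg.Agent.H479.GenLin

open Cfsg.Agent.H440.TwoGen Cfsg.Agent.H891.Gen Subgroup Module Cfsg.Agent.H50.Her

universe u

/-! ### general facts in dimension two -/

section rep

variable {F : Type*} [Field F] {X : Type*} [Group X] [Finite X]

theorem central (r : X →* Matrix (Fin 2) (Fin 2) F) (hr : Function.Injective r) (N : Subgroup X)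
    (hN : ∃ n ∈ N, ∃ n' ∈ N, n * n' ≠ n' * n) (C : Subgroup X)
    (hC : ∀ c ∈ C, ∀ n ∈ N, c * n = n * c) :
    (∀ c ∈ C, ∀ x : X, c * x = x * c) ∧ IsCyclic C ∧ Nat.card C ∣ Nat.card F - 1 := by
  obtain ⟨n, hn, n', hn', hnn⟩ := hN
  have hsc : ∀ c ∈ C, ∃ t : F, r c = t • (1 : Matrix (Fin 2) (Fin 2) F) := by
    intro c hc
    by_contra hcon
    apply hnn
    apply hr
    rw [map_mul, map_mul]
    exact GenAff.comm_of_comm hcon (by rw [← map_mul, hC c hc n hn, map_mul])
      (by rw [← map_mul, hC c hc n' hn', map_mul])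
  refine ⟨fun c hc x => ?_, ?_⟩
  · apply hr
    obtain ⟨t, ht⟩ := hsc c hc
    rw [map_mul, map_mul, ht, Matrix.smul_mul, Matrix.mul_smul, Matrix.one_mul, Matrix.mul_one]
  · have hent : ∀ c ∈ C, r c = (r c 0 0) • (1 : Matrix (Fin 2) (Fin 2) F) := by
      intro c hc
      obtain ⟨t, ht⟩ := hsc c hc
      rw [ht]
      simp
    let f : C →* F :=
      { toFun := fun c => r c 0 0
        map_one' := by simp
        map_mul' := fun c d => by
          rw [Subgroup.coe_mul, map_mul, hent c c.2, hent d d.2]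
          simp [mul_comm] }
    have hf : Function.Injective f := by
      intro c d hcd
      apply Subtype.ext
      apply hr
      rw [hent c c.2, hent d d.2]
      congr 1
    refine ⟨isCyclic_of_injective_ringHom f hf, ?_⟩
    have h3 : Function.Injective f.toHomUnits := by
      intro c d hcd
      apply hf
      exact congrArg Units.val hcd
    have h4 := Subgroup.card_dvd_of_injective f.toHomUnits h3
    rwa [Nat.card_units] at h4

end rep

section lin

variable {p : ℕ} [hp : Fact p.Prime] {V : Type u} [AddCommGroup V] [Module (ZMod p) V] [Finite V]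
  {G : Subgroup (V ≃ₗ[ZMod p] V)}

omit [Finite V] in
theorem tors (v : V) : p • v = 0 := by
  have h : ((p : ℕ) : ZMod p) • v = 0 := by rw [ZMod.natCast_self, zero_smul]
  rwa [Nat.cast_smul_eq_nsmul] at h

omit [Finite V] in
theorem exists_mat (h2 : finrank (ZMod p) V = 2) :
    ∃ r : ↥G →* Matrix (Fin 2) (Fin 2) (ZMod p), Function.Injective r ∧
      ∀ g : G, (r g).det = LinearMap.det ((g : V ≃ₗ[ZMod p] V) : V →ₗ[ZMod p] V) := by
  have : FiniteDimensional (ZMod p) V := FiniteDimensional.of_finrank_pos (by omega)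
  let b : Basis (Fin 2) (ZMod p) V := Module.finBasisOfFinrankEq (ZMod p) V h2
  let g : ↥G →* Module.End (ZMod p) V :=
    { toFun := fun h => ((h : V ≃ₗ[ZMod p] V) : V →ₗ[ZMod p] V)
      map_one' := by ext v; rfl
      map_mul' := fun x y => by ext v; rfl }
  refine ⟨((LinearMap.toMatrixAlgEquiv b : _ ≃ₐ[ZMod p] _) : _ →* _).comp g, ?_, fun h => ?_⟩
  · intro x y hxy
    have h3 : g x = g y := (LinearMap.toMatrixAlgEquiv b).injective hxy
    apply Subtype.ext
    ext v
    exact DFunLike.congr_fun h3 v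
  · rw [← LinearMap.det_toMatrix b]
    rfl

theorem card_V (h2 : finrank (ZMod p) V = 2) : Nat.card V = p ^ 2 := by
  rw [Module.natCard_eq_pow_finrank (K := ZMod p) (V := V), h2, Nat.card_zmod]

/-- `p² - 1` divides the order. -/
theorem card_dvd (htr : ∀ v w : V, v ≠ 0 → w ≠ 0 → ∃ g ∈ G, g v = w)
    (h2 : finrank (ZMod p) V = 2) : p ^ 2 - 1 ∣ Nat.card G := by
  have hnt : Nontrivial V := by
    have : 1 < Nat.card V := by
      rw [card_V h2]
      exact Nat.one_lt_pow two_ne_zero hp.out.one_lt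
    exact Finite.one_lt_card_iff_nontrivial.1 this
  obtain ⟨v, hv⟩ := exists_ne (0 : V)
  have h1 : MulAction.orbit G v = {w : V | w ≠ 0} := by
    ext w
    constructor
    · rintro ⟨h, rfl⟩ h0
      have h3 : (h : V ≃ₗ[ZMod p] V) v = 0 := h0
      exact hv ((LinearEquiv.map_eq_zero_iff _).1 h3)
    · intro hw
      obtain ⟨h, hh, h3⟩ := htr v w hv hw
      exact ⟨⟨h, hh⟩, h3⟩
  have h3 : Nat.card (MulAction.orbit G v) = p ^ 2 - 1 := by
    rw [h1, ← card_V h2, Nat.card_coe_set_eq]
    have h4 : {w : V | w ≠ 0} = ({0} : Set V)ᶜ := rfl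
    rw [h4, Set.ncard_compl, Set.ncard_singleton]
  rw [← h3, Nat.card_coe_set_eq, ← MulAction.index_stabilizer]
  exact Subgroup.index_dvd_card _

omit [Finite V] in
/-- A normal subgroup `≠ 1` has no fixed vectors. -/
theorem fix_zero (htr : ∀ v w : V, v ≠ 0 → w ≠ 0 → ∃ g ∈ G, g v = w) (N : Subgroup ↥G)
    [hNn : N.Normal] (hN : N ≠ ⊥) : ∀ v : V, (∀ n ∈ N, n • v = v) → v = 0 := by
  intro v hv
  by_contra hv0
  have h3 : ∀ w : V, ∀ n ∈ N, n • w = w := by
    intro w n hn
    by_cases hw : w = 0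
    · rw [hw, smul_zero]
    obtain ⟨h, hh, rfl⟩ := htr v w hv0 hw
    obtain ⟨g, hg⟩ : ∃ g : G, g = ⟨h, hh⟩ := ⟨_, rfl⟩
    have h4 := hv (g⁻¹ * n * g) (by simpa only [_root_.inv_inv] using hNn.conj_mem n hn g⁻¹)
    have h5 : n * g = g * (g⁻¹ * n * g) := by group
    have h6 : n • (g • v) = g • v := by
      rw [← mul_smul, h5, mul_smul, h4]
    rw [hg] at h6
    exact h6
  apply hN
  rw [Subgroup.eq_bot_iff_forall]
  intro n hn
  apply Subtype.ext
  ext w
  exact h3 w n hn

/-- few derivations from a normal `p'`-subgroup -/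
theorem small_of_norm (htr : ∀ v w : V, v ≠ 0 → w ≠ 0 → ∃ g ∈ G, g v = w) [Nontrivial V]
    (N : Subgroup ↥G) [hNn : N.Normal] (hN : N ≠ ⊥) (hpN : ¬ p ∣ Nat.card N) : Small ↥G V := by
  have hfin : Finite (V ≃ₗ[ZMod p] V) := Finite.of_injective (fun f => (f : V → V)) DFunLike.coe_injective
  exact Cfsg.Agent.H490.Der.small_of_normal N (fix_zero htr N hN)
    (Cfsg.Agent.H490.Der.small_of_coprime hp.out (fun v => tors v) hpN)

theorem nontriv (h2 : finrank (ZMod p) V = 2) : Nontrivial V := by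
  have : 1 < Nat.card V := by
    rw [card_V h2]
    exact Nat.one_lt_pow two_ne_zero hp.out.one_lt
  exact Finite.one_lt_card_iff_nontrivial.1 this

theorem finG (G : Subgroup (V ≃ₗ[ZMod p] V)) : Finite G := by
  have hfin : Finite (V ≃ₗ[ZMod p] V) := Finite.of_injective (fun f => (f : V → V)) DFunLike.coe_injective
  infer_instance

/-- a normal quaternion group -/
theorem quat (htr : ∀ v w : V, v ≠ 0 → w ≠ 0 → ∃ g ∈ G, g v = w) (h2 : finrank (ZMod p) V = 2)
    (hp' : p = 5 ∨ p = 7 ∨ p = 11 ∨ p = 23)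
    (hN : ∃ N ≤ ⁅G, G⁆, Nor G N ∧ Nonempty (N ≃* QuaternionGroup 2)) : LGood G := by
  obtain ⟨N0, hN0, hnor, ⟨e0⟩⟩ := hN
  have hfG := finG G
  have hnt := nontriv (V := V) h2
  have hle : N0 ≤ G := hN0.trans (Subgroup.commutator_le_self G)
  obtain ⟨N, hNd⟩ : ∃ N : Subgroup ↥G, N = N0.subgroupOf G := ⟨_, rfl⟩
  have hNn : N.Normal := by
    rw [hNd]
    refine ⟨fun n hn g => ?_⟩
    exact Subgroup.mem_subgroupOf.2 (hnor g g.2 n (Subgroup.mem_subgroupOf.1 hn))
  have e : N ≃* QuaternionGroup 2 := by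
    rw [hNd]
    exact (Subgroup.subgroupOfEquivOfLe hle).trans e0
  have hcardN : Nat.card N = 8 := by
    rw [Nat.card_congr e.toEquiv, Nat.card_eq_fintype_card, QuaternionGroup.card]
  refine ⟨?_, small_of_norm htr N (by intro h; rw [h] at hcardN; simp at hcardN) ?_⟩
  · obtain ⟨r, hr, -⟩ := exists_mat (G := G) h2
    have hker : ∀ c ∈ (GenQuat.kap N e).ker, ∀ n ∈ N, c * n = n * c := by
      intro c hc n hn
      have h3 := GenQuat.kap_apply N e c (e ⟨n, hn⟩)
      rw [MonoidHom.mem_ker.1 hc, MulAut.one_apply, e.symm_apply_apply] at h3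
      simp only at h3
      exact (eq_mul_inv_iff_mul_eq.1 h3).symm
    obtain ⟨hZ, hcy, hdv⟩ := central r hr N ⟨e.symm (QuaternionGroup.a 1), (e.symm _).2,
      e.symm (QuaternionGroup.xa 0), (e.symm _).2, by
        intro h
        have h3 : e.symm (QuaternionGroup.a 1) * e.symm (QuaternionGroup.xa 0) =
            e.symm (QuaternionGroup.xa 0) * e.symm (QuaternionGroup.a 1) := Subtype.ext h
        rw [← map_mul, ← map_mul] at h3
        exact absurd (e.symm.injective h3) (by decide)⟩ _ hker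
    rw [Nat.card_zmod] at hdv
    have h3 := card_dvd htr h2
    have h4 := Subgroup.card_mul_index (GenQuat.kap N e).ker
    rw [Subgroup.index_ker] at h4
    have h24 : Nat.card (GenQuat.kap N e).range ∣ 24 := by
      rw [← Cfsg.Agent.PermutationGroups.AutQuaternion.card_mulAut]
      exact Subgroup.card_subgroup_dvd_card _
    have h4d : 4 ∣ Nat.card (GenQuat.kap N e).range :=
      (GenQuat.four_dvd (e := e) (le_refl N)).trans (Subgroup.card_dvd_of_le (Subgroup.map_le_range _ _))
    generalize hRd : Nat.card (GenQuat.kap N e).range = R at h4 h24 h4d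
    generalize hCd : Nat.card (GenQuat.kap N e).ker = C at h4 hdv
    rw [← h4] at h3
    have hR : R ∈ Nat.divisors 24 := Nat.mem_divisors.2 ⟨h24, by norm_num⟩
    have hR' : Nat.divisors 24 = {1, 2, 3, 4, 6, 8, 12, 24} := by decide
    rw [hR'] at hR
    have h8 : R = 24 ∨ R = 12 ∨ (R = 8 ∧ ¬ 4 ∣ C) := by
      have hle := Nat.le_of_dvd (by rcases hp' with rfl | rfl | rfl | rfl <;> norm_num) hdv
      have hC : C ∈ Finset.range 23 := by
        rw [Finset.mem_range]
        rcases hp' with rfl | rfl | rfl | rfl <;> omega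
      rcases hp' with rfl | rfl | rfl | rfl
      · exact (GenAff.num5 C hC R hR h3 hdv).resolve_right (by rintro rfl; omega)
      · exact GenAff.num7 C hC R hR h3 hdv
      · exact GenAff.num11 C hC R hR h3 hdv
      · exact GenAff.num23 C hC R hR h3 hdv
    rcases h8 with h8 | h8 | ⟨h8, h9⟩
    · exact GenQuat.twoGen_24 hcy hZ (hRd.trans h8)
    · exact GenQuat.twoGen_12 hcy hZ (hRd.trans h8)
    · exact GenQuat.twoGen_8 hcy hZ (hRd.trans h8) (by rw [hCd]; exact h9)
  · rw [hcardN]
    intro h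
    have := Nat.le_of_dvd (by norm_num) h
    rcases hp' with rfl | rfl | rfl | rfl
    · norm_num at h
    · norm_num at h
    · omega
    · omega

/-- a normal `SL₂(5)` -/
theorem sl25 (htr : ∀ v w : V, v ≠ 0 → w ≠ 0 → ∃ g ∈ G, g v = w) (h2 : finrank (ZMod p) V = 2)
    (hp' : p = 11 ∨ p = 19 ∨ p = 29 ∨ p = 59) {N0 : Subgroup (V ≃ₗ[ZMod p] V)} (hle : N0 ≤ G)
    (hnor : Nor G N0) (e0 : N0 ≃* Matrix.SpecialLinearGroup (Fin 2) (ZMod 5)) : LGood G := by
  have hfG := finG G
  have hnt := nontriv (V := V) h2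
  obtain ⟨N, hNd⟩ : ∃ N : Subgroup ↥G, N = N0.subgroupOf G := ⟨_, rfl⟩
  have hNn : N.Normal := by
    rw [hNd]
    refine ⟨fun n hn g => ?_⟩
    exact Subgroup.mem_subgroupOf.2 (hnor g g.2 n (Subgroup.mem_subgroupOf.1 hn))
  have e : N ≃* GenSL.S5 := by
    rw [hNd]
    exact (Subgroup.subgroupOfEquivOfLe hle).trans e0
  have hcardN : Nat.card N = 120 := by
    rw [Nat.card_congr e.toEquiv, Nat.card_eq_fintype_card]
    decide +kernel
  refine ⟨?_, small_of_norm htr N (by intro h; rw [h] at hcardN; simp at hcardN) ?_⟩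
  · obtain ⟨r, hr, -⟩ := exists_mat (G := G) h2
    have h5 : (5 : ZMod p) ≠ 0 := by
      have h6 : ((5 : ℕ) : ZMod p) ≠ 0 := by
        rw [Ne, ZMod.natCast_eq_zero_iff]
        intro h
        have := Nat.le_of_dvd (by norm_num) h
        rcases hp' with rfl | rfl | rfl | rfl <;> omega
      exact_mod_cast h6
    obtain ⟨hZ, hcy, -⟩ := central r hr N ⟨e.symm GenSL.uu, (e.symm _).2, e.symm GenSL.ww,
      (e.symm _).2, by
        intro h
        have h3 : e.symm GenSL.uu * e.symm GenSL.ww = e.symm GenSL.ww * e.symm GenSL.uu := Subtype.ext h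
        rw [← map_mul, ← map_mul] at h3
        exact GenSL.noncomm (e.symm.injective h3)⟩ (Subgroup.centralizer (N : Set G)) (by
        intro c hc n hn
        exact (Subgroup.mem_centralizer_iff.1 hc n hn).symm)
    refine GenSL.twoGen_of_split N e _ hZ hcy fun x => ?_
    obtain ⟨n, hn, h⟩ := GenSL.split h5 r hr N e x
    exact ⟨n, hn, Subgroup.mem_centralizer_iff.2 fun m hm => (h m hm).symm⟩
  · rw [hcardN]
    rcases hp' with rfl | rfl | rfl | rfl <;> norm_num

end lin

/-! ### dimension two over the field with three elements -/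

theorem word3 : ∀ a b c d : ZMod 3, a * d - b * c = 1 →
    (∃ i j k : Fin 3, (!![a, b; c, d] : Matrix (Fin 2) (Fin 2) (ZMod 3)) =
      !![1, (i.val : ZMod 3); 0, 1] * !![1, 0; (j.val : ZMod 3), 1] * !![1, (k.val : ZMod 3); 0, 1]) ∨
    (∃ i j k : Fin 3, (!![a, b; c, d] : Matrix (Fin 2) (Fin 2) (ZMod 3)) =
      !![1, 0; 1, 1] * (!![1, (i.val : ZMod 3); 0, 1] * !![1, 0; (j.val : ZMod 3), 1] *
        !![1, (k.val : ZMod 3); 0, 1])) := by
  decide +kernel

theorem upow (k : ℕ) : (!![1, 1; 0, 1] : Matrix (Fin 2) (Fin 2) (ZMod 3)) ^ k = !![1, (k : ZMod 3); 0, 1] := by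
  induction k with
  | zero => ext i j; (revert i j; simp only [_root_.Fin.forall_fin_succ, _root_.pow_zero, _root_.Nat.cast_zero, _root_.Matrix.of_apply, _root_.Matrix.cons_val', _root_.Matrix.cons_val_fin_one, Fin.isValue, _root_.Matrix.cons_val_zero, _root_.Matrix.cons_val_succ, _root_.IsEmpty.forall_iff, _root_.and_true, _root_.Matrix.one_apply_eq, Nat.reduceAdd, _root_.Fin.succ_zero_eq_one, _root_.ne_eq, _root_.zero_ne_one, _root_.not_false_eq_true, _root_.Matrix.one_apply_ne, _root_.and_self, _root_.Fin.succ_ne_zero, _root_.true_and])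
  | succ k ih =>
    rw [pow_succ, ih]
    ext i j
    (revert i j; simp only [Matrix.mul_apply, Fin.sum_univ_two, add_comm, _root_.Fin.forall_fin_succ, _root_.Matrix.of_apply, _root_.Matrix.cons_val', _root_.Matrix.cons_val_fin_one, Fin.isValue, _root_.Matrix.cons_val_zero, _root_.Matrix.cons_val_one, _root_.Nat.cast_add, _root_.Nat.cast_one, _root_.mul_one, _root_.MulZeroClass.mul_zero, _root_.zero_add, _root_.Matrix.cons_val_succ, _root_.forall_const, _root_.true_and, _root_.implies_true, _root_.and_self])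

theorem lpow (k : ℕ) : (!![1, 0; 1, 1] : Matrix (Fin 2) (Fin 2) (ZMod 3)) ^ k = !![1, 0; (k : ZMod 3), 1] := by
  induction k with
  | zero => ext i j; (revert i j; simp only [_root_.Fin.forall_fin_succ, _root_.pow_zero, _root_.Nat.cast_zero, _root_.Matrix.of_apply, _root_.Matrix.cons_val', _root_.Matrix.cons_val_fin_one, Fin.isValue, _root_.Matrix.cons_val_zero, _root_.Matrix.cons_val_succ, _root_.IsEmpty.forall_iff, _root_.and_true, _root_.Matrix.one_apply_eq, Nat.reduceAdd, _root_.Fin.succ_zero_eq_one, _root_.ne_eq, _root_.zero_ne_one, _root_.not_false_eq_true, _root_.Matrix.one_apply_ne, _root_.and_self, _root_.Fin.succ_ne_zero, _root_.true_and])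
  | succ k ih =>
    rw [pow_succ, ih]
    ext i j
    (revert i j; simp only [Matrix.mul_apply, Fin.sum_univ_two, _root_.Fin.forall_fin_succ, _root_.Matrix.of_apply, _root_.Matrix.cons_val', _root_.Matrix.cons_val_fin_one, Fin.isValue, _root_.Matrix.cons_val_zero, _root_.Matrix.cons_val_one, _root_.Nat.cast_add, _root_.Nat.cast_one, _root_.mul_one, _root_.Matrix.cons_val_succ, _root_.MulZeroClass.mul_zero, _root_.zero_add, _root_.implies_true, _root_.and_true, _root_.add_zero, _root_.and_self])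

/-- A group with a faithful representation onto a set of matrices over `ZMod 3` containing all of determinant one. -/
theorem twoGen_three {X : Type*} [Group X] (r : X →* Matrix (Fin 2) (Fin 2) (ZMod 3))
    (hr : Function.Injective r) (hsl : ∀ M : Matrix (Fin 2) (Fin 2) (ZMod 3), M.det = 1 → ∃ x, r x = M) :
    TwoGen X := by
  obtain ⟨u, hu⟩ := hsl !![1, 1; 0, 1] (by decide)
  obtain ⟨l, hl⟩ := hsl !![1, 0; 1, 1] (by decide)
  -- a subgroup containing `u`, `l` contains everything of determinant one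
  have key : ∀ K : Subgroup X, u ∈ K → l ∈ K → ∀ x : X, (r x).det = 1 → x ∈ K := by
    intro K huK hlK x hx
    have heta : r x = !![r x 0 0, r x 0 1; r x 1 0, r x 1 1] := by
      ext i j; fin_cases i <;> fin_cases j <;> rfl
    rw [Matrix.det_fin_two] at hx
    rcases word3 _ _ _ _ hx with ⟨i, j, k, h⟩ | ⟨i, j, k, h⟩
    · have h1 : x = u ^ i.val * l ^ j.val * u ^ k.val := by
        apply hr
        rw [map_mul, map_mul, map_pow, map_pow, map_pow, hu, hl, upow, lpow, upow, ← h]
        exact heta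
      rw [h1]
      exact K.mul_mem (K.mul_mem (K.pow_mem huK _) (K.pow_mem hlK _)) (K.pow_mem huK _)
    · have h1 : x = l * (u ^ i.val * l ^ j.val * u ^ k.val) := by
        apply hr
        rw [map_mul, map_mul, map_mul, map_pow, map_pow, map_pow, hu, hl, upow, lpow, upow]
        exact heta.trans h
      rw [h1]
      exact K.mul_mem hlK (K.mul_mem (K.mul_mem (K.pow_mem huK _) (K.pow_mem hlK _)) (K.pow_mem huK _))
  by_cases hall : ∀ x : X, (r x).det = 1
  · refine ⟨u, l, ?_⟩
    rw [eq_top_iff]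
    intro x _
    exact key _ (Subgroup.subset_closure (by simp)) (Subgroup.subset_closure (by simp)) x (hall x)
  · push Not at hall
    obtain ⟨y, hy⟩ := hall
    -- determinants are `1` or `2`
    have hd : ∀ x : X, (r x).det = 1 ∨ (r x).det = 2 := by
      intro x
      have h1 : (r x).det * (r x⁻¹).det = 1 := by
        rw [← Matrix.det_mul, ← map_mul, mul_inv_cancel, map_one, Matrix.det_one]
      have h2 : ∀ a b : ZMod 3, a * b = 1 → a = 1 ∨ a = 2 := by decide
      exact h2 _ _ h1
    have hy2 := (hd y).resolve_left hy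
    -- an element with matrix `s`
    obtain ⟨s, hs⟩ : ∃ s, r s = !![0, 1; 1, 1] := by
      obtain ⟨t, ht⟩ := hsl (!![0, 1; 1, 1] * r y⁻¹) (by
        rw [Matrix.det_mul]
        have h1 : (r y⁻¹).det = 2 := by
          have h2 : (r y).det * (r y⁻¹).det = 1 := by
            rw [← Matrix.det_mul, ← map_mul, mul_inv_cancel, map_one, Matrix.det_one]
          rw [hy2] at h2
          have h3 : ∀ b : ZMod 3, 2 * b = 1 → b = 2 := by decide
          exact h3 _ h2
        rw [h1]
        decide)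
      refine ⟨t * y, ?_⟩
      rw [map_mul, ht, mul_assoc, ← map_mul, inv_mul_cancel, map_one, mul_one]
    have hsl' : l = s * u * s⁻¹ := by
      rw [eq_mul_inv_iff_mul_eq]
      apply hr
      rw [map_mul, map_mul, hs, hu, hl]
      decide
    refine ⟨u, s, ?_⟩
    rw [eq_top_iff]
    intro x _
    have huK : u ∈ _root_.Subgroup.closure ({u, s} : Set X) := Subgroup.subset_closure (by simp)
    have hsK : s ∈ closure ({u, s} : Set X) := Subgroup.subset_closure (by simp)
    have hlK : l ∈ closure ({u, s} : Set X) := by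
      rw [hsl']
      exact mul_mem (mul_mem hsK huK) (inv_mem hsK)
    rcases hd x with h1 | h1
    · exact key _ huK hlK x h1
    · have h2 : (r (x * s)).det = 1 := by
        rw [map_mul, Matrix.det_mul, h1, hs]
        decide
      have h3 := key _ huK hlK _ h2
      have h4 := mul_mem h3 (inv_mem hsK)
      rwa [mul_inv_cancel_right] at h4

theorem sl23 {V : Type u} [AddCommGroup V] [Module (ZMod 3) V] [Finite V] (G : Subgroup (V ≃ₗ[ZMod 3] V))
    (h2 : finrank (ZMod 3) V = 2) (hG : ∀ g : V ≃ₗ[ZMod 3] V, LinearEquiv.det g = 1 → g ∈ G) : LGood G := by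
  have : Fact (Nat.Prime 3) := ⟨Nat.prime_three⟩
  have hfG := finG G
  have hnt := nontriv (V := V) h2
  have h20 : (2 : ZMod 3) ≠ 0 := by
    intro h
    have h' : ((2 : ℕ) : ZMod 3) = 0 := by exact_mod_cast h
    rw [ZMod.natCast_eq_zero_iff] at h'
    omega
  refine ⟨?_, ?_⟩
  · -- the matrices of determinant one
    have : FiniteDimensional (ZMod 3) V := FiniteDimensional.of_finrank_pos (by omega)
    let b : Basis (Fin 2) (ZMod 3) V := Module.finBasisOfFinrankEq (ZMod 3) V h2
    let g : ↥G →* Module.End (ZMod 3) V :=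
      { toFun := fun h => ((h : V ≃ₗ[ZMod 3] V) : V →ₗ[ZMod 3] V)
        map_one' := by ext v; rfl
        map_mul' := fun x y => by ext v; rfl }
    refine twoGen_three (((LinearMap.toMatrixAlgEquiv b : _ ≃ₐ[ZMod 3] _) : _ →* _).comp g) ?_ ?_
    · intro x y hxy
      have h3 : g x = g y := (LinearMap.toMatrixAlgEquiv b).injective hxy
      apply Subtype.ext
      ext v
      exact DFunLike.congr_fun h3 v
    · intro M hM
      have h3 : LinearMap.det (Matrix.toLin b b M) = 1 := by rw [LinearMap.det_toLin, hM]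
      let f : V ≃ₗ[ZMod 3] V := LinearEquiv.ofIsUnitDet (v := b) (v' := b) (f := Matrix.toLin b b M) (by
        rw [LinearMap.toMatrix_toLin, hM]; exact isUnit_one)
      have hf : (f : V →ₗ[ZMod 3] V) = Matrix.toLin b b M := by ext v; rfl
      have hfd : LinearEquiv.det f = 1 := by
        apply Units.ext
        rw [LinearEquiv.coe_det, hf, h3, Units.val_one]
      refine ⟨⟨f, hG f hfd⟩, ?_⟩
      change LinearMap.toMatrixAlgEquiv b (f : V →ₗ[ZMod 3] V) = M
      rw [hf]
      exact LinearMap.toMatrix_toLin b b M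
  · -- `-1`
    have hneg : LinearEquiv.neg (ZMod 3) ∈ G := by
      apply hG
      apply Units.ext
      rw [LinearEquiv.coe_det]
      have h3 : ((LinearEquiv.neg (ZMod 3) : V ≃ₗ[ZMod 3] V) : V →ₗ[ZMod 3] V) = (-1 : ZMod 3) • LinearMap.id := by
        ext v; simp
      rw [h3, LinearMap.det_smul, h2, LinearMap.det_id, Units.val_one]
      norm_num
    obtain ⟨m, hm⟩ : ∃ m : G, ∀ v : V, m • v = -v := ⟨⟨_, hneg⟩, fun v => rfl⟩
    have hm2 : m ^ 2 = 1 := by
      apply Subtype.ext
      ext v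
      rw [pow_two]
      change m • m • v = v
      rw [hm, hm, neg_neg]
    have hmc : ∀ g : G, g * m = m * g := by
      intro g
      apply Subtype.ext
      ext v
      change g • m • v = m • g • v
      rw [hm, hm, smul_neg]
    have hm1 : m ≠ 1 := by
      intro h
      obtain ⟨v, hv⟩ := exists_ne (0 : V)
      have h3 := hm v
      rw [h, one_smul] at h3
      have h4 : (2 : ZMod 3) • v = 0 := by
        rw [two_smul]
        nth_rewrite 1 [h3]
        rw [neg_add_cancel]
      rcases smul_eq_zero.1 h4 with h5 | h5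
      · exact absurd h5 h20
      · exact hv h5
    have hN : (Subgroup.zpowers m).Normal := by
      refine ⟨fun n hn g => ?_⟩
      obtain ⟨k, rfl⟩ := Subgroup.mem_zpowers_iff.1 hn
      have h3 : g * m ^ k * g⁻¹ = m ^ k := by
        rw [← conj_zpow, hmc, mul_inv_cancel_right]
      rw [h3]
      exact Subgroup.zpow_mem_zpowers m k
    have hcard : Nat.card (Subgroup.zpowers m) = 2 := by
      rw [Nat.card_zpowers]
      exact orderOf_eq_prime hm2 hm1
    refine Cfsg.Agent.H490.Der.small_of_normal (Subgroup.zpowers m) (fun v hv => ?_)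
      (Cfsg.Agent.H490.Der.small_of_coprime Nat.prime_three (fun v => tors v) (by rw [hcard]; norm_num))
    have h3 := hv m (Subgroup.mem_zpowers m)
    rw [hm] at h3
    have h4 : (2 : ZMod 3) • v = 0 := by
      rw [two_smul]
      nth_rewrite 1 [← h3]
      rw [neg_add_cancel]
    rcases smul_eq_zero.1 h4 with h5 | h5
    · exact absurd h5 h20
    · exact h5

/-! ### the fields of `LinRows` -/

theorem row_sl23 : ∀ (V : Type u) [AddCommGroup V] [Module (ZMod 3) V] [Finite V] (G : Subgroup (V ≃ₗ[ZMod 3] V)),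
    finrank (ZMod 3) V = 2 → (∀ g : V ≃ₗ[ZMod 3] V, LinearEquiv.det g = 1 → g ∈ G) → LGood G :=
  fun _ _ _ _ G h2 hG => sl23 G h2 hG

theorem row_quat : ∀ (p : ℕ) [Fact p.Prime] (V : Type u) [AddCommGroup V] [Module (ZMod p) V] [Finite V]
    (G : Subgroup (V ≃ₗ[ZMod p] V)), (∀ v w : V, v ≠ 0 → w ≠ 0 → ∃ g ∈ G, g v = w) → finrank (ZMod p) V = 2 →
    (p = 5 ∨ p = 7 ∨ p = 11 ∨ p = 23) → (∃ N ≤ ⁅G, G⁆, Nor G N ∧ Nonempty (N ≃* QuaternionGroup 2)) → LGood G :=
  fun _ _ _ _ _ _ _ htr h2 hp' hN => quat htr h2 hp' hN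

theorem row_sl25 : ∀ (p : ℕ) [Fact p.Prime] (V : Type u) [AddCommGroup V] [Module (ZMod p) V] [Finite V]
    (G A L : Subgroup (V ≃ₗ[ZMod p] V)), (∀ v w : V, v ≠ 0 → w ≠ 0 → ∃ g ∈ G, g v = w) → MaxAb G A → Perf G A L →
    Quasi A L → finrank (ZMod p) V = 2 → (p = 11 ∨ p = 19 ∨ p = 29 ∨ p = 59) →
    Nonempty (L ≃* Matrix.SpecialLinearGroup (Fin 2) (ZMod 5)) → LGood G :=
  fun _ _ _ _ _ _ _ _ _ htr _ hL _ h2 hp' ⟨e⟩ => sl25 htr h2 hp' hL.le hL.nor e

end Cfsg.Agent.H479.GenLin
end

-- part: H495/Gen/Lin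
section
/-!
# TEAM GEN: `SL₂(13)` and `SL₂(5)` over the field with three elements (helper495)

* `twoGen_of_quot` : `G` is 2-generated if `G / C` is, for `C = C_G(N)` cyclic, `N` perfect, `|G : NC| ≤ 2`
* `twoGen_sl2` : `N ≅ SL₂(F)`, `F` of odd prime order at least `5`, `C_G(N)` cyclic
-/

set_option autoImplicit false
set_option linter.unusedSectionVars false

namespace Cfsg.Agent.H495.Gen

open Cfsg Cfsg.Agent.H440.TwoGen Cfsg.Agent.H891.Gen Subgroup
open scoped commutatorElement

universe u v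

section abstract

variable {Γ : Type u} [Group Γ]

theorem twoGen_of_quot [Finite Γ] (N C : Subgroup Γ) [hN : N.Normal] [hC : C.Normal] (hCc : IsCyclic C)
    (hNC : ∀ n ∈ N, ∀ c ∈ C, n * c = c * n) (hp : ⁅N, N⁆ = N) (hi : (N ⊔ C).index ≤ 2) (h : TwoGen (Γ ⧸ C)) :
    TwoGen Γ := by
  classical
  set K := N ⊔ C with hK
  have hCK : C ≤ K := le_sup_right
  have hKn : K.Normal := inferInstance
  -- elements of `K`
  have hmemK : ∀ k ∈ K, ∃ n ∈ N, ∃ c ∈ C, n * c = k := fun k hk => mem_sup_of_normal_right.1 hk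
  have hCcom : ∀ a ∈ C, ∀ b ∈ C, a * b = b * a := by
    intro a ha b hb
    exact congrArg Subtype.val ((IsCyclic.isMulCommutative (α := C)).is_comm.comm (⟨a, ha⟩ : C) ⟨b, hb⟩)
  have hKC : ∀ k ∈ K, ∀ c ∈ C, k * c = c * k := by
    intro k hk c hc
    obtain ⟨n, hn, d, hd, rfl⟩ := hmemK k hk
    rw [mul_assoc, hCcom d hd c hc, ← mul_assoc, hNC n hn c hc, mul_assoc]
  -- a pair with the first element in `K`
  obtain ⟨x, y, hx, hxy⟩ : ∃ x y : Γ, x ∈ K ∧ _root_.Subgroup.closure ({x, y} : Set Γ) ⊔ C = ⊤ := by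
    obtain ⟨x, y, hxy⟩ := h
    obtain ⟨x, rfl⟩ := QuotientGroup.mk'_surjective C x
    obtain ⟨y, rfl⟩ := QuotientGroup.mk'_surjective C y
    have h1 : closure ({x, y} : Set Γ) ⊔ C = ⊤ := by
      have h2 : (closure ({x, y} : Set Γ)).map (QuotientGroup.mk' C) = ⊤ := by
        rw [MonoidHom.map_closure, Set.image_pair]
        exact hxy
      have h3 := congrArg (comap (QuotientGroup.mk' C)) h2
      rw [comap_map_eq, QuotientGroup.ker_mk', comap_top] at h3
      exact h3
    by_cases hx : x ∈ K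
    · exact ⟨x, y, hx, h1⟩
    by_cases hy : y ∈ K
    · exact ⟨y, x, hy, by rwa [Set.pair_comm]⟩
    · -- both outside
      have hidx : K.index = 2 := by
        have h2 : K.index ≠ 0 := K.index_ne_zero_of_finite
        have h3 : K.index ≠ 1 := fun h3 => hx (by rw [index_eq_one.1 h3]; exact mem_top x)
        omega
      refine ⟨x * y, y, (mul_mem_iff_of_index_two hidx).2 (by (clear * - hx hy; tauto)), ?_⟩
      rw [← h1]
      congr 1
      apply le_antisymm
      · rw [closure_le]
        rintro z (rfl | hz)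
        · exact mul_mem (_root_.Subgroup.subset_closure (by simp)) (_root_.Subgroup.subset_closure (by simp))
        · rw [Set.mem_singleton_iff] at hz
          subst hz
          exact _root_.Subgroup.subset_closure (by simp)
      · rw [closure_le]
        rintro z (rfl | hz)
        · have h4 : z = z * y * y⁻¹ := by group
          rw [h4]
          exact mul_mem (_root_.Subgroup.subset_closure (by simp)) (inv_mem (_root_.Subgroup.subset_closure (by simp)))
        · rw [Set.mem_singleton_iff] at hz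
          subst hz
          exact _root_.Subgroup.subset_closure (by simp)
  obtain ⟨n, hn, c, hc, rfl⟩ := hmemK x hx
  obtain ⟨⟨c0, hc0⟩, hgen⟩ := IsCyclic.exists_generator (α := C)
  refine ⟨n * c0, y, ?_⟩
  set H := _root_.Subgroup.closure ({n * c0, y} : Set Γ) with hH
  have h1 : n * c0 ∈ H := _root_.Subgroup.subset_closure (by simp)
  have h2 : y ∈ H := _root_.Subgroup.subset_closure (by simp)
  have hHC : H ⊔ C = ⊤ := by
    rw [← top_le_iff, ← hxy]
    refine sup_le ?_ le_sup_right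
    rw [closure_le]
    rintro z (rfl | hz)
    · have h4 : n * c = n * c0 * (c0⁻¹ * c) := by group
      rw [h4]
      exact mul_mem (mem_sup_left h1) (mem_sup_right (mul_mem (inv_mem hc0) hc))
    · rw [Set.mem_singleton_iff] at hz
      subst hz
      exact mem_sup_left h2
  have hmem : ∀ g : Γ, ∃ h ∈ H, ∃ c ∈ C, h * c = g := fun g =>
    mem_sup_of_normal_right.1 (by rw [hHC]; exact mem_top g)
  have hNH : N ≤ H := by
    rw [← hp, commutator_le]
    intro a ha b hb
    obtain ⟨a', ha', c1, hc1, rfl⟩ := hmem a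
    obtain ⟨b', hb', c2, hc2, rfl⟩ := hmem b
    have hNK : N ≤ K := le_sup_left
    have ha'K : a' ∈ K := by
      have h4 : a' = a' * c1 * c1⁻¹ := by group
      rw [h4]
      exact mul_mem (hNK ha) (inv_mem (hCK hc1))
    have hb'K : b' ∈ K := by
      have h4 : b' = b' * c2 * c2⁻¹ := by group
      rw [h4]
      exact mul_mem (hNK hb) (inv_mem (hCK hc2))
    have h5 : ⁅a' * c1, b' * c2⁆ = ⁅a', b'⁆ := by
      rw [commutatorElement_def, commutatorElement_def]
      have e1 := hKC b' hb'K c1 hc1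
      have e2 := hCcom c1 hc1 c2 hc2
      have e3 := hKC a'⁻¹ (inv_mem ha'K) c2 hc2
      calc a' * c1 * (b' * c2) * (a' * c1)⁻¹ * (b' * c2)⁻¹
          = a' * (c1 * b') * (c2 * c1⁻¹) * a'⁻¹ * c2⁻¹ * b'⁻¹ := by group
        _ = a' * (b' * c1) * (c1⁻¹ * c2) * a'⁻¹ * c2⁻¹ * b'⁻¹ := by
          rw [← e1]
          have e4 : c2 * c1⁻¹ = c1⁻¹ * c2 := by
            rw [eq_inv_mul_iff_mul_eq, ← mul_assoc, e2, mul_assoc, mul_inv_cancel, mul_one]
          rw [e4]
        _ = a' * b' * (c2 * a'⁻¹) * c2⁻¹ * b'⁻¹ := by group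
        _ = a' * b' * (a'⁻¹ * c2) * c2⁻¹ * b'⁻¹ := by rw [e3]
        _ = a' * b' * a'⁻¹ * b'⁻¹ := by group
    rw [h5]
    rw [commutatorElement_def]
    exact mul_mem (mul_mem (mul_mem ha' hb') (inv_mem ha')) (inv_mem hb')
  have hc0H : c0 ∈ H := by
    have h4 : c0 = n⁻¹ * (n * c0) := by group
    rw [h4]
    exact mul_mem (inv_mem (hNH hn)) h1
  have hCH : C ≤ H := by
    intro d hd
    obtain ⟨k, hk⟩ := mem_zpowers_iff.1 (hgen ⟨d, hd⟩)
    have h4 : d = c0 ^ k := (congrArg Subtype.val hk).symm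
    rw [h4]
    exact zpow_mem hc0H k
  rw [← top_le_iff, ← hHC]
  exact sup_le le_rfl hCH

/-- the centralizer of the image of `N` -/
theorem centralizer_map (N : Subgroup Γ) [hN : N.Normal] (hp : ⁅N, N⁆ = N) :
    centralizer ((N.map (QuotientGroup.mk' (centralizer (N : Set Γ))) : Subgroup _) : Set (Γ ⧸ centralizer (N : Set Γ))) =
      ⊥ := by
  rw [eq_bot_iff]
  intro g hg
  obtain ⟨g, rfl⟩ := QuotientGroup.mk'_surjective _ g
  rw [mem_bot, QuotientGroup.mk'_apply, QuotientGroup.eq_one_iff]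
  have h1 : ∀ n ∈ N, g * n * g⁻¹ * n⁻¹ ∈ centralizer (N : Set Γ) := by
    intro n hn
    have h2 := mem_centralizer_iff.1 hg _ (mem_map_of_mem _ hn)
    rw [← map_mul, ← map_mul] at h2
    have h3 := QuotientGroup.eq.1 h2
    have h4 : g * n * g⁻¹ * n⁻¹ = (n * g) * ((n * g)⁻¹ * (g * n)) * (n * g)⁻¹ := by group
    rw [h4]
    exact (inferInstance : (centralizer (N : Set Γ)).Normal).conj_mem _ h3 _
  rw [mem_centralizer_iff]
  have h5 : N ≤ centralizer ({g} : Set Γ) := by
    rw [← hp, commutator_le]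
    intro a ha b hb
    have e1 := h1 a ha
    have e2 := h1 b hb
    have hNc : ∀ n ∈ N, g * n * g⁻¹ * n⁻¹ ∈ N := fun n hn => mul_mem (hN.conj_mem n hn g) (inv_mem hn)
    obtain ⟨c, hc⟩ : ∃ c, c = g * a * g⁻¹ * a⁻¹ := ⟨_, rfl⟩
    obtain ⟨d, hd⟩ : ∃ d, d = g * b * g⁻¹ * b⁻¹ := ⟨_, rfl⟩
    rw [← hc] at e1
    rw [← hd] at e2
    have hcN : c ∈ N := by rw [hc]; exact hNc a ha
    have hdN : d ∈ N := by rw [hd]; exact hNc b hb
    have ga : g * a * g⁻¹ = c * a := by rw [hc]; group
    have gb : g * b * g⁻¹ = d * b := by rw [hd]; group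
    have ca := mem_centralizer_iff.1 e1
    have cb := mem_centralizer_iff.1 e2
    rw [mem_centralizer_iff]
    intro x hx
    rw [Set.mem_singleton_iff] at hx
    subst hx
    rw [← mul_inv_eq_iff_eq_mul]
    have h6 : x * ⁅a, b⁆ * x⁻¹ = ⁅x * a * x⁻¹, x * b * x⁻¹⁆ := by
      rw [commutatorElement_def, commutatorElement_def]; group
    rw [h6, ga, gb, commutatorElement_def, commutatorElement_def]
    have f1 : c⁻¹ * d⁻¹ = d⁻¹ * c⁻¹ := by rw [← mul_inv_rev, ← mul_inv_rev, ca d hdN]
    calc c * a * (d * b) * (c * a)⁻¹ * (d * b)⁻¹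
        = c * (a * d) * (b * a⁻¹) * c⁻¹ * b⁻¹ * d⁻¹ := by group
      _ = c * (d * a) * (b * a⁻¹) * c⁻¹ * b⁻¹ * d⁻¹ := by rw [cb a ha]
      _ = (c * d) * (a * b * a⁻¹) * (c⁻¹ * b⁻¹) * d⁻¹ := by group
      _ = (c * d) * (a * b * a⁻¹) * (b⁻¹ * c⁻¹) * d⁻¹ := by
        have f2 : c⁻¹ * b⁻¹ = b⁻¹ * c⁻¹ := by rw [← mul_inv_rev, ← mul_inv_rev, ca b hb]
        rw [f2]
      _ = (c * d) * ((a * b * a⁻¹ * b⁻¹) * (c⁻¹ * d⁻¹)) := by group
      _ = (c * d) * ((c⁻¹ * d⁻¹) * (a * b * a⁻¹ * b⁻¹)) := by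
        have hab : a * b * a⁻¹ * b⁻¹ ∈ N := mul_mem (mul_mem (mul_mem ha hb) (inv_mem ha)) (inv_mem hb)
        have hcd : c⁻¹ * d⁻¹ ∈ centralizer (N : Set Γ) := mul_mem (inv_mem e1) (inv_mem e2)
        rw [mem_centralizer_iff.1 hcd _ hab]
      _ = (c * d) * (d⁻¹ * c⁻¹) * (a * b * a⁻¹ * b⁻¹) := by rw [f1]; group
      _ = a * b * a⁻¹ * b⁻¹ := by group
  intro n hn
  exact (mem_centralizer_iff.1 (h5 hn) g (Set.mem_singleton g)).symm

/-- the image of `N` is `PSL₂` -/
theorem exists_equiv {F : Type} [Field F] (N : Subgroup Γ) [hN : N.Normal]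
    (e : ↥N ≃* Matrix.SpecialLinearGroup (Fin 2) F) :
    Nonempty (↥(N.map (QuotientGroup.mk' (centralizer (N : Set Γ)))) ≃* Matrix.ProjectiveSpecialLinearGroup (Fin 2) F) := by
  let f : ↥N →* ↥(N.map (QuotientGroup.mk' (centralizer (N : Set Γ)))) :=
    (QuotientGroup.mk' (centralizer (N : Set Γ))).subgroupMap N
  have hf : Function.Surjective f := MonoidHom.subgroupMap_surjective _ _
  let g : ↥N →* Matrix.ProjectiveSpecialLinearGroup (Fin 2) F :=
    (QuotientGroup.mk' (center (Matrix.SpecialLinearGroup (Fin 2) F))).comp e.toMonoidHom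
  have hg : Function.Surjective g := (QuotientGroup.mk'_surjective _).comp e.surjective
  have hk : f.ker = g.ker := by
    ext n
    have h1 : n ∈ f.ker ↔ n ∈ center ↥N := by
      rw [MonoidHom.mem_ker]
      have h2 : f n = 1 ↔ (QuotientGroup.mk' (centralizer (N : Set Γ))) (n : Γ) = 1 := by
        constructor
        · intro h; exact congrArg Subtype.val h
        · intro h; exact Subtype.ext h
      rw [h2, QuotientGroup.mk'_apply, QuotientGroup.eq_one_iff, mem_centralizer_iff, mem_center_iff]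
      constructor
      · intro h m
        exact Subtype.ext (h m m.2)
      · intro h m hm
        exact congrArg Subtype.val (h ⟨m, hm⟩)
    have h2 : n ∈ g.ker ↔ n ∈ center ↥N := by
      rw [MonoidHom.mem_ker]
      have h3 : g n = QuotientGroup.mk' (center (Matrix.SpecialLinearGroup (Fin 2) F)) (e n) := rfl
      rw [h3, QuotientGroup.mk'_apply, QuotientGroup.eq_one_iff, mem_center_iff, mem_center_iff]
      constructor
      · intro h m
        apply e.injective
        rw [map_mul, map_mul]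
        exact h (e m)
      · intro h m
        obtain ⟨m, rfl⟩ := e.surjective m
        rw [← map_mul, ← map_mul, h m]
    rw [h1, h2]
  exact ⟨(QuotientGroup.quotientKerEquivOfSurjective f hf).symm.trans
    ((QuotientGroup.quotientMulEquivOfEq hk).trans (QuotientGroup.quotientKerEquivOfSurjective g hg))⟩

theorem card_out {q : ℕ} [hq : Fact q.Prime] (h5 : 5 ≤ q) :
    Nat.card (Out (Matrix.ProjectiveSpecialLinearGroup (Fin 2) (ZMod q))) = 2 := by
  obtain ⟨φ, hφ, -, hk⟩ := S2602.result (F := ZMod q) (p := q) (f := 1) le_rfl (by rw [ZMod.card, pow_one])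
    (by rw [pow_one]; omega)
  rw [← Subgroup.card_mul_index φ.ker, hk, Subgroup.index_ker, MonoidHom.range_eq_top.2 hφ, Subgroup.card_top, pow_one]
  have h1 : Nat.card (Multiplicative (ZMod 1)) = 1 := by
    rw [Nat.card_congr Multiplicative.toAdd, Nat.card_zmod]
  rw [h1, mul_one]
  have h2 : Odd q := hq.out.odd_of_ne_two (by omega)
  obtain ⟨k, hk⟩ := h2
  have h3 : q - 1 = 2 * k := by omega
  rw [h3, Nat.gcd_mul_right_right]

theorem twoGen_sl2 [Finite Γ] (N : Subgroup Γ) [hN : N.Normal] {q : ℕ} [hq : Fact q.Prime] (h5 : 5 ≤ q)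
    (e : ↥N ≃* Matrix.SpecialLinearGroup (Fin 2) (ZMod q)) (hcyc : IsCyclic ↥(centralizer (N : Set Γ)))
    (hp : ⁅N, N⁆ = N) : TwoGen Γ := by
  classical
  obtain ⟨e'⟩ := exists_equiv N e
  have hT : (N.map (QuotientGroup.mk' (centralizer (N : Set Γ)))).Normal := hN.map _ (QuotientGroup.mk'_surjective _)
  have hc := centralizer_map N hp
  have hcard : 4 ≤ Fintype.card (ZMod q) := by rw [ZMod.card]; omega
  refine twoGen_of_quot N (centralizer (N : Set Γ)) hcyc ?_ hp ?_
    (H791.Gen.twoGen_of_aut _ hc e' fun S hS => H791.Gen.twoGen_sub hcard S hS)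
  · intro n hn c hc
    exact mem_centralizer_iff.1 hc n hn
  · obtain ⟨S, hS, ⟨f⟩⟩ := H791.Gen.exists_aut _ hc e'
    have hfin : Finite (Matrix.ProjectiveSpecialLinearGroup (Fin 2) (ZMod q)) := inferInstance
    have hfinA : Finite (MulAut (Matrix.ProjectiveSpecialLinearGroup (Fin 2) (ZMod q))) :=
      Finite.of_injective (fun f => (f : Matrix.ProjectiveSpecialLinearGroup (Fin 2) (ZMod q) → _)) DFunLike.coe_injective
    have h1 : (N ⊔ centralizer (N : Set Γ)).index = (N.map (QuotientGroup.mk' (centralizer (N : Set Γ)))).index := by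
      rw [← Subgroup.index_comap_of_surjective _ (QuotientGroup.mk'_surjective (centralizer (N : Set Γ))), comap_map_eq,
        QuotientGroup.ker_mk']
    rw [h1]
    have h2 := Subgroup.card_mul_index (N.map (QuotientGroup.mk' (centralizer (N : Set Γ))))
    rw [Nat.card_congr f.toEquiv, Nat.card_congr e'.toEquiv] at h2
    have h3 : Nat.card S ≤ Nat.card (MulAut (Matrix.ProjectiveSpecialLinearGroup (Fin 2) (ZMod q))) :=
      Nat.card_le_card_of_injective _ S.subtype_injective
    have h4 : Nat.card (MulAut (Matrix.ProjectiveSpecialLinearGroup (Fin 2) (ZMod q))) =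
        2 * Nat.card (Inn (Matrix.ProjectiveSpecialLinearGroup (Fin 2) (ZMod q))) := by
      have h9 := Subgroup.card_mul_index (Inn (Matrix.ProjectiveSpecialLinearGroup (Fin 2) (ZMod q)))
      rw [Subgroup.index_eq_card, card_out h5] at h9
      rw [← h9, mul_comm]
    have h6 : Nat.card (Inn (Matrix.ProjectiveSpecialLinearGroup (Fin 2) (ZMod q))) ≤
        Nat.card (Matrix.ProjectiveSpecialLinearGroup (Fin 2) (ZMod q)) :=
      Nat.card_le_card_of_surjective _ (MonoidHom.rangeRestrict_surjective _)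
    have h7 : 0 < Nat.card (Matrix.ProjectiveSpecialLinearGroup (Fin 2) (ZMod q)) := Nat.card_pos
    have h8 : Nat.card (Matrix.ProjectiveSpecialLinearGroup (Fin 2) (ZMod q)) *
        (N.map (QuotientGroup.mk' (centralizer (N : Set Γ)))).index ≤
        Nat.card (Matrix.ProjectiveSpecialLinearGroup (Fin 2) (ZMod q)) * 2 := by
      rw [h2]
      omega
    exact Nat.le_of_mul_le_mul_left h8 h7

end abstract

section rows

open Cfsg.Agent.H50.Her Cfsg.Agent.PermutationGroups Module

variable {V : Type u} [AddCommGroup V] [Module (ZMod 3) V] [Finite V]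

theorem lgood {G A L : Subgroup (V ≃ₗ[ZMod 3] V)} (htr : ∀ v w : V, v ≠ 0 → w ≠ 0 → ∃ g ∈ G, g v = w)
    (hL : Perf G A L) [Nontrivial V] {q : ℕ} [hq : Fact q.Prime] (h5 : 5 ≤ q)
    (he : Nonempty (L ≃* Matrix.SpecialLinearGroup (Fin 2) (ZMod q))) : LGood G := by
  obtain ⟨e⟩ := he
  have h3 : Fact (Nat.Prime 3) := ⟨Nat.prime_three⟩
  have hfG := H479.GenLin.finG G
  obtain ⟨N, hNd⟩ : ∃ N : Subgroup ↥G, N = L.subgroupOf G := ⟨_, rfl⟩
  have hNn : N.Normal := by
    rw [hNd]
    refine ⟨fun n hn g => ?_⟩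
    exact Subgroup.mem_subgroupOf.2 (hL.nor g g.2 n (Subgroup.mem_subgroupOf.1 hn))
  have eN : N ≃* Matrix.SpecialLinearGroup (Fin 2) (ZMod q) := by
    rw [hNd]
    exact (Subgroup.subgroupOfEquivOfLe hL.le).trans e
  refine ⟨twoGen_sl2 N h5 eN ?_ ?_, ?_⟩
  · refine (PermutationGroups.RegularLinear.isCyclic_and_card_dvd (endAlg L) (hL.endAlg_inj htr) (G.subtype.comp (centralizer (N : Set ↥G)).subtype)
      (G.subtype_injective.comp (centralizer (N : Set ↥G)).subtype_injective) ?_).1
    intro c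
    rw [mem_endAlg]
    intro g hg v
    have h1 := mem_centralizer_iff.1 c.2 ⟨g, hL.le hg⟩ (by rw [hNd]; exact mem_subgroupOf.2 hg)
    have h2 : g * ((c : ↥G) : V ≃ₗ[ZMod 3] V) = ((c : ↥G) : V ≃ₗ[ZMod 3] V) * g := congrArg Subtype.val h1
    exact (DFunLike.congr_fun h2 v).symm
  · apply Subgroup.map_injective G.subtype_injective
    rw [Subgroup.map_commutator, hNd, Subgroup.subgroupOf_map_subtype, inf_eq_left.2 hL.le, hL.perf]
  · -- the centre of `N`
    have hsq : ∀ c ∈ center ↥N, c * c = 1 := by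
      intro c hc
      have h1 : eN c ∈ center (Matrix.SpecialLinearGroup (Fin 2) (ZMod q)) := by
        rw [mem_center_iff] at hc ⊢
        intro m
        obtain ⟨m, rfl⟩ := eN.surjective m
        rw [← map_mul, ← map_mul, hc m]
      obtain ⟨r, hr, hs⟩ := Matrix.SpecialLinearGroup.mem_center_iff.1 h1
      apply eN.injective
      rw [map_mul, map_one]
      apply Subtype.ext
      rw [Matrix.SpecialLinearGroup.coe_mul, ← hs, ← map_mul, Matrix.SpecialLinearGroup.coe_one, ← pow_two]
      rw [Fintype.card_fin] at hr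
      rw [hr, map_one]
    have hneg : eN.symm (-1) ∈ center ↥N := by
      rw [mem_center_iff]
      intro m
      apply eN.injective
      rw [map_mul, map_mul, eN.apply_symm_apply]
      simp
    have hne : eN.symm (-1) ≠ 1 := by
      intro h
      have h1 : (-1 : Matrix.SpecialLinearGroup (Fin 2) (ZMod q)) = 1 := by
        apply eN.symm.injective
        rw [h, map_one]
      have h2 := congrArg (fun A : Matrix.SpecialLinearGroup (Fin 2) (ZMod q) => A 0 0) h1
      have h4 : (-1 : ZMod q) = 1 := by simpa using h2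
      have h6 : ((2 : ℕ) : ZMod q) = 0 := by
        push_cast
        linear_combination -h4
      rw [ZMod.natCast_eq_zero_iff] at h6
      have := Nat.le_of_dvd (by norm_num) h6
      omega
    refine H479.GenLin.small_of_norm htr ((center ↥N).map N.subtype) ?_ ?_
    · intro h
      have h1 : ((eN.symm (-1) : ↥N) : ↥G) ∈ (center ↥N).map N.subtype := ⟨_, hneg, rfl⟩
      rw [h, mem_bot] at h1
      exact hne (Subtype.ext h1)
    · have h2 : IsPGroup 2 ↥((center ↥N).map N.subtype) := by
        rintro ⟨x, c, hc, rfl⟩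
        refine ⟨1, ?_⟩
        apply Subtype.ext
        rw [pow_one, pow_two]
        show (c : ↥G) * (c : ↥G) = 1
        exact congrArg Subtype.val (hsq c hc)
      obtain ⟨k, hk⟩ := IsPGroup.iff_card.1 h2
      rw [hk]
      intro h6
      have := Nat.prime_three.dvd_of_dvd_pow h6
      omega

theorem sl213_row : ∀ (V : Type u) [AddCommGroup V] [Module (ZMod 3) V] [Finite V]
    (G A L : Subgroup (V ≃ₗ[ZMod 3] V)), (∀ v w : V, v ≠ 0 → w ≠ 0 → ∃ g ∈ G, g v = w) → MaxAb G A → Perf G A L →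
    Quasi A L → finrank (ZMod 3) V = 6 → Nat.card (endAlg L) = 3 →
    Nonempty (L ≃* Matrix.SpecialLinearGroup (Fin 2) (ZMod 13)) → LGood G := by
  intro V _ _ _ G A L htr _ hL _ hV _ he
  have : Fact (Nat.Prime 13) := ⟨by norm_num⟩
  have : Nontrivial V := by
    have h3 : Fact (Nat.Prime 3) := ⟨Nat.prime_three⟩
    exact Module.nontrivial_of_finrank_pos (R := ZMod 3) (by omega)
  exact lgood htr hL (by norm_num) he

theorem sl25'_row : ∀ (V : Type u) [AddCommGroup V] [Module (ZMod 3) V] [Finite V]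
    (G A L : Subgroup (V ≃ₗ[ZMod 3] V)), (∀ v w : V, v ≠ 0 → w ≠ 0 → ∃ g ∈ G, g v = w) → MaxAb G A → Perf G A L →
    Quasi A L → finrank (ZMod 3) V = 4 → Nonempty (L ≃* Matrix.SpecialLinearGroup (Fin 2) (ZMod 5)) → LGood G := by
  intro V _ _ _ G A L htr _ hL _ hV he
  have : Fact (Nat.Prime 5) := ⟨by norm_num⟩
  have : Nontrivial V := by
    have h3 : Fact (Nat.Prime 3) := ⟨Nat.prime_three⟩
    exact Module.nontrivial_of_finrank_pos (R := ZMod 3) (by omega)
  exact lgood htr hL (by norm_num) he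

end rows

end Cfsg.Agent.H495.Gen
end

private theorem dce_9e7e160031a5 : _root_.True := by
  try have : _root_.True := by simp only [_root_.Cfsg.Agent.H479.GenSL.uu.eq_1]
  try have : _root_.True := by simp only [_root_.Cfsg.Agent.H479.GenAff.ad.congr_simp]
  try have : _root_.True := by simp only [_root_.Cfsg.Agent.H479.GenSL.ll.eq_1]
  try have : _root_.True := by simp only [_root_.Cfsg.Agent.H479.GenQuat.kap.congr_simp]
  exact _root_.True.intro
end

-- part: H500/Gen/One
section
set_option linter.all false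
open scoped Cfsg.Agent.FastGrp

-- part: H500/Gen/Struct
section
/-!
# Groups of semilinear maps of a finite field (helper500, TEAM GEN piece B)

`struct`: a group `H` of semilinear permutations `v ↦ c σ(v)` of a finite field is generated by two elements `a`, `b`, where
`a` is a homothety generating the group of all homotheties contained in `H`.
-/

set_option autoImplicit false

namespace Cfsg.Agent.H500.Gen

open Subgroup

variable {V F : Type*} [AddCommGroup V] [Field F]

/-- `h` is semilinear with respect to `e` and the field automorphism `σ` -/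
def Semi (e : V ≃+ F) (h : Equiv.Perm V) (σ : F ≃+* F) : Prop := ∃ c : F, ∀ v : V, e (h v) = c * σ (e v)

theorem Semi.ne_zero {e : V ≃+ F} {h : Equiv.Perm V} {σ : F ≃+* F} {c : F} (hc : ∀ v : V, e (h v) = c * σ (e v)) :
    c ≠ 0 := by
  rintro rfl
  have h1 : ∀ v, h v = 0 := fun v => e.injective (by rw [hc, zero_mul, map_zero])
  have h2 : e.symm 1 = 0 := h.injective (by rw [h1, h1])
  have h3 : (1 : F) = 0 := by rw [← e.apply_symm_apply 1, h2, map_zero]
  exact one_ne_zero h3

theorem Semi.unique {e : V ≃+ F} {h : Equiv.Perm V} {σ τ : F ≃+* F} (h1 : Semi e h σ) (h2 : Semi e h τ) : σ = τ := by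
  obtain ⟨c, hc⟩ := h1
  obtain ⟨d, hd⟩ := h2
  have hcd : c = d := by
    have h3 := hc (e.symm 1)
    rw [hd (e.symm 1), e.apply_symm_apply, map_one, map_one, mul_one, mul_one] at h3
    exact h3.symm
  subst hcd
  ext x
  have h3 := hc (e.symm x)
  rw [hd (e.symm x), e.apply_symm_apply] at h3
  exact (mul_left_cancel₀ (Semi.ne_zero hc) h3).symm

theorem Semi.mul {e : V ≃+ F} {h k : Equiv.Perm V} {σ τ : F ≃+* F} (h1 : Semi e h σ) (h2 : Semi e k τ) :
    Semi e (h * k) (σ * τ) := by
  obtain ⟨c, hc⟩ := h1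
  obtain ⟨d, hd⟩ := h2
  refine ⟨c * σ d, fun v => ?_⟩
  rw [Equiv.Perm.mul_apply, hc, hd, map_mul, mul_assoc]
  rfl

theorem Semi.one (e : V ≃+ F) : Semi e (1 : Equiv.Perm V) (1 : F ≃+* F) := ⟨1, fun v => by simp⟩

/-- the field automorphism of a semilinear map, as a homomorphism -/
noncomputable def tau (e : V ≃+ F) (H : Subgroup (Equiv.Perm V))
    (hH : ∀ h ∈ H, ∃ σ : F ≃+* F, Semi e h σ) : ↥H →* (F ≃+* F) where
  toFun h := (hH h h.2).choose
  map_one' := Semi.unique (hH 1 (one_mem H)).choose_spec (Semi.one e)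
  map_mul' h k := Semi.unique (hH _ (h * k).2).choose_spec
    (Semi.mul (hH h h.2).choose_spec (hH k k.2).choose_spec)

theorem tau_spec (e : V ≃+ F) (H : Subgroup (Equiv.Perm V)) (hH : ∀ h ∈ H, ∃ σ : F ≃+* F, Semi e h σ) (h : ↥H) :
    Semi e (h : Equiv.Perm V) (tau e H hH h) := (hH h h.2).choose_spec

/-- a homothety multiplies by its value at `1` -/
theorem ker_apply {e : V ≃+ F} {H : Subgroup (Equiv.Perm V)} {hH : ∀ h ∈ H, ∃ σ : F ≃+* F, Semi e h σ}
    (g : ↥(tau e H hH).ker) (v : V) :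
    e (((g : ↥H) : Equiv.Perm V) v) = e (((g : ↥H) : Equiv.Perm V) (e.symm 1)) * e v := by
  obtain ⟨c, hc⟩ := tau_spec e H hH g
  have h2 : tau e H hH (g : ↥H) = 1 := g.2
  rw [h2] at hc
  rw [hc, hc (e.symm 1), e.apply_symm_apply]
  simp

/-- the multiplier of a homothety -/
noncomputable def mulr (e : V ≃+ F) (H : Subgroup (Equiv.Perm V)) (hH : ∀ h ∈ H, ∃ σ : F ≃+* F, Semi e h σ) :
    ↥(tau e H hH).ker →* F where
  toFun h := e (((h : ↥H) : Equiv.Perm V) (e.symm 1))
  map_one' := by simp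
  map_mul' h k := by
    change e (((h : ↥H) : Equiv.Perm V) (((k : ↥H) : Equiv.Perm V) (e.symm 1))) = _
    rw [ker_apply h]

theorem mulr_injective (e : V ≃+ F) (H : Subgroup (Equiv.Perm V)) (hH : ∀ h ∈ H, ∃ σ : F ≃+* F, Semi e h σ) :
    Function.Injective (mulr e H hH) := by
  intro h k hhk
  apply Subtype.ext
  apply Subtype.ext
  ext v
  apply e.injective
  rw [ker_apply h, ker_apply k]
  change mulr e H hH h * e v = mulr e H hH k * e v
  rw [hhk]

/-- **Structure**: a group of semilinear permutations is generated by a homothety `a` generating the homotheties and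
one more element. -/
theorem struct [Finite F] (e : V ≃+ F) (H : Subgroup (Equiv.Perm V))
    (hH : ∀ h ∈ H, ∃ (c : F) (σ : F ≃+* F), ∀ v : V, e (h v) = c * σ (e v)) :
    ∃ a ∈ H, ∃ b ∈ H, closure ({a, b} : Set (Equiv.Perm V)) = H ∧ (∃ c : F, ∀ v, e (a v) = c * e v) ∧
      ∀ h ∈ H, (∃ c : F, ∀ v, e (h v) = c * e v) → h ∈ zpowers a := by
  have hH' : ∀ h ∈ H, ∃ σ : F ≃+* F, Semi e h σ := by
    intro h hh
    obtain ⟨c, σ, h1⟩ := hH h hh
    exact ⟨σ, c, h1⟩
  have hV : Finite V := Finite.of_equiv F e.toEquiv.symm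
  have hfin : Finite ↥H := inferInstance
  have hk : IsCyclic ↥(tau e H hH').ker := isCyclic_of_injective_ringHom (mulr e H hH') (mulr_injective e H hH')
  have hcyc : IsCyclic (F ≃+* F) := by
    have : Fintype F := Fintype.ofFinite F
    obtain ⟨n, hn, hn'⟩ := FiniteField.card F (ringChar F)
    have : Fact (ringChar F).Prime := ⟨hn⟩
    exact (H382.FieldAction.card_ringAut_dvd F (p := ringChar F) (d := n) (by rw [Nat.card_eq_fintype_card, hn'])).2
  obtain ⟨a, ha⟩ := hk.exists_generator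
  have hr : IsCyclic ↥(tau e H hH').range := inferInstance
  obtain ⟨⟨b', b, hb'⟩, hb⟩ := hr.exists_generator
  refine ⟨(a : ↥H), (a : ↥H).2, b, b.2, ?_, ⟨mulr e H hH' a, fun v => ker_apply a v⟩, ?_⟩
  · apply le_antisymm
    · rw [closure_le]
      rintro x (rfl | hx)
      · exact (a : ↥H).2
      · rw [Set.mem_singleton_iff] at hx
        subst hx
        exact b.2
    · intro h hh
      obtain ⟨n, hn⟩ := hb ⟨tau e H hH' ⟨h, hh⟩, ⟨h, hh⟩, rfl⟩
      have hn' : (tau e H hH' b) ^ n = tau e H hH' ⟨h, hh⟩ := by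
        have := congrArg Subtype.val hn
        rw [hb']
        simpa using this
      have h1 : (⟨h, hh⟩ : ↥H) * b ^ (-n) ∈ (tau e H hH').ker := by
        rw [MonoidHom.mem_ker, map_mul, map_zpow, zpow_neg, hn', mul_inv_cancel]
      obtain ⟨m, hm⟩ := ha ⟨_, h1⟩
      have h2 : (a : ↥H) ^ m = (⟨h, hh⟩ : ↥H) * b ^ (-n) := by
        have := congrArg Subtype.val hm
        simpa using this
      have h3 : h = ((a : ↥H) : Equiv.Perm V) ^ m * (b : Equiv.Perm V) ^ n := by
        have h4 : (⟨h, hh⟩ : ↥H) = (a : ↥H) ^ m * b ^ n := by rw [h2, zpow_neg]; group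
        have := congrArg Subtype.val h4
        simpa using this
      rw [h3]
      exact mul_mem (zpow_mem (subset_closure (by simp)) _) (zpow_mem (subset_closure (by simp)) _)
  · rintro h hh ⟨c, hc⟩
    have h1 : (⟨h, hh⟩ : ↥H) ∈ (tau e H hH').ker := by
      rw [MonoidHom.mem_ker]
      exact Semi.unique (tau_spec e H hH' ⟨h, hh⟩) ⟨c, fun v => by rw [hc]; rfl⟩
    obtain ⟨m, hm⟩ := ha ⟨_, h1⟩
    refine ⟨m, ?_⟩
    have h2 := congrArg Subtype.val (congrArg Subtype.val hm)
    simpa using h2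

end Cfsg.Agent.H500.Gen
end

-- part: H500/Gen/One
section
/-!
# `AffRows.one` and the 2-homogeneous groups which are not 2-transitive (helper500, TEAM GEN piece B)

* `one` : the field `one` of `H891.Gen.AffRows`;
* `twoGen_affine` : a group of semiaffine permutations of a finite field containing all translations, such that the
  stabiliser of `0` is transitive on the non-zero elements up to sign, is generated by two elements;
-/

set_option autoImplicit false

namespace Cfsg.Agent.H500.Gen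

open Subgroup Cfsg.Agent.H891.Gen Cfsg.Agent.H440.TwoGen

section Aux

variable {V F : Type*} [AddCommGroup V] [Field F]

/-- homotheties are closed under conjugation by semilinear maps -/
theorem conj_homothety {e : V ≃+ F} {a b : Equiv.Perm V} {c d : F} {σ : F ≃+* F} (ha : ∀ v, e (a v) = c * e v)
    (hb : ∀ v, e (b v) = d * σ (e v)) : ∀ v, e ((b * a * b⁻¹) v) = σ c * e v := by
  intro v
  have hd : d ≠ 0 := Semi.ne_zero hb
  have h1 : e (b (b⁻¹ v)) = d * σ (e (b⁻¹ v)) := hb _
  have h2 : b (b⁻¹ v) = v := by simp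
  rw [h2] at h1
  rw [Equiv.Perm.mul_apply, Equiv.Perm.mul_apply, hb, ha, map_mul, h1]
  ring

end Aux

/-- **`AffRows.one`** -/
theorem one : ∀ (V : Type*) [AddCommGroup V] (p : ℕ) (H : Subgroup (Equiv.Perm V)), Lin p H →
    ∀ (F : Type) [Field F] (e : V ≃+ F), (∀ h ∈ H, ∃ (c : F) (σ : F ≃+* F), ∀ v : V, e (h v) = c * σ (e v)) →
      AffGood H := by
  intro V _ p H hL F _ e hH
  have : Finite V := hL.fin
  have : Finite F := Finite.of_equiv V e.toEquiv
  obtain ⟨a, ha, b, hb, hcl, ⟨c, hc⟩, hz⟩ := struct e H hH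
  obtain ⟨w, hw⟩ := hL.ne
  by_cases h1 : a = 1
  · refine ⟨a, b, hcl, w, 0, ?_⟩
    rintro ⟨z, hz, hza, hzb⟩
    have h2 := hz 1 (one_mem H) 1 (one_mem H)
    rw [mul_one, Equiv.Perm.one_apply] at h2
    rw [h1] at hza
    rw [hza] at h2
    exact hw (by simpa using h2)
  · refine ⟨a, b, hcl, 0, w, ?_⟩
    rintro ⟨z, hzd, hza, hzb⟩
    obtain ⟨d, σ, hd⟩ := hH b hb
    have h2 := conj_homothety hc hd
    have h3 : b * a * b⁻¹ ∈ H := mul_mem (mul_mem hb ha) (inv_mem hb)
    have h4 := hz _ h3 ⟨_, h2⟩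
    have h0 : ∀ h ∈ H, h 0 = 0 := by
      intro h hh
      have := hL.add h hh 0 0
      rw [add_zero] at this
      simpa using this
    have hz1 : z 1 = 0 := by
      have h5 := hzd 1 (one_mem H) 1 (one_mem H)
      rw [mul_one, Equiv.Perm.one_apply] at h5
      simpa using h5
    have h5 : ∀ x ∈ closure ({a} : Set (Equiv.Perm V)), x ∈ H ∧ z x = 0 := by
      intro x hx
      induction hx using closure_induction with
      | mem y hy =>
        rw [Set.mem_singleton_iff] at hy
        subst hy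
        exact ⟨ha, hza⟩
      | one => exact ⟨one_mem H, hz1⟩
      | mul x y _ _ ihx ihy =>
        refine ⟨mul_mem ihx.1 ihy.1, ?_⟩
        rw [hzd x ihx.1 y ihy.1, ihx.2, ihy.2, h0 x ihx.1, add_zero]
      | inv x _ ihx =>
        refine ⟨inv_mem ihx.1, ?_⟩
        have h6 := hzd x⁻¹ (inv_mem ihx.1) x ihx.1
        rw [inv_mul_cancel, hz1, ihx.2, h0 _ (inv_mem ihx.1), add_zero] at h6
        exact h6.symm
    have h6 : z (b * a * b⁻¹) = 0 := (h5 _ (by rwa [← zpowers_eq_closure])).2
    have h7 := hzd _ h3 b hb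
    rw [inv_mul_cancel_right, hzd b hb a ha, hza, h0 b hb, add_zero, h6, zero_add] at h7
    -- `z b` is fixed by the homothety `b a b⁻¹ ≠ 1`
    have h8 : e (z b) = σ c * e (z b) := by
      have := congrArg e h7
      rwa [h2] at this
    have h9 : σ c = 1 := by
      have h10 : e (z b) ≠ 0 := by
        rw [hzb]
        intro h
        exact hw (e.injective (by rw [h, map_zero]))
      have h11 : (σ c - 1) * e (z b) = 0 := by rw [sub_mul, one_mul, ← h8, sub_self]
      rcases mul_eq_zero.1 h11 with h12 | h12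
      · exact sub_eq_zero.1 h12
      · exact absurd h12 h10
    have h10 : c = 1 := σ.injective (by rw [h9, map_one])
    apply h1
    ext v
    apply e.injective
    rw [hc, h10, one_mul, Equiv.Perm.one_apply]

end Cfsg.Agent.H500.Gen
end

private theorem dce_d749bfc05e09 : _root_.True := by
  try have : _root_.True := by simp only [_root_.Cfsg.Agent.H500.Gen.tau.congr_simp]
  exact _root_.True.intro
end

-- part: H487/Gen/Final
section
prune_inst 0xc5400040014000000000001080001e02820000000008000008a0084004800c0004008860808001040222800400300008000000200000000000000400011800800080020010400000000006000000000000000000000000000000000000000000000000000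
set_option linter.all false
open scoped Cfsg.Agent.FastGrp

-- part: H487/Gen/Asm
section
/-!
# TEAM GEN, piece C: the assembly of S3565 (helper487)

* `NotTwo` : the row of the 2-homogeneous, not 2-transitive groups;
* `main` : S3565 from HUB H1, `ASRows`, `AffineStep`, the linear rows and `NotTwo`.
-/

set_option autoImplicit false

namespace Cfsg.Agent.H487.Gen

open Cfsg.Agent.H440.TwoGen Cfsg.Agent.H384.TwoTrans Cfsg.Agent.H891.Gen MulAction

universe u v

/-- The 2-homogeneous groups which are not 2-transitive. -/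
def NotTwo : Prop :=
  ∀ (α : Type v) [Fintype α] [DecidableEq α] (G : Subgroup (Equiv.Perm α)), G ≠ ⊥ →
    IsPretransitive G (Set.powersetCard α 2) → ¬ IsMultiplyPretransitive G α 2 → TwoGen ↥G

section

variable {G : Type u} {Ω : Type v} [Group G] [MulAction G Ω]

/-- a group acting faithfully on at most two points is cyclic -/
theorem twoGen_of_card_le_two [Finite G] [Finite Ω] [FaithfulSMul G Ω] (h : Nat.card Ω ≤ 2) : TwoGen G := by
  classical
  have hinj : Function.Injective (toPermHom G Ω) := MulAction.toPerm_injective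
  have h1 : Nat.card G ≤ Nat.card (Equiv.Perm Ω) := Nat.card_le_card_of_injective _ hinj
  have h2 : Nat.card (Equiv.Perm Ω) ≤ 2 := by
    rw [Nat.card_perm]
    interval_cases hc : Nat.card Ω <;> simp
  have h3 : Nat.card G ≤ 2 := h1.trans h2
  have h4 : 0 < Nat.card G := Nat.card_pos
  have h5 : IsCyclic G := by
    rcases (by omega : Nat.card G = 1 ∨ Nat.card G = 2) with h | h
    · have : Subsingleton G := (Nat.card_eq_one_iff_unique.1 h).1
      infer_instance
    · have := Fact.mk Nat.prime_two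
      exact isCyclic_of_prime_card h
  exact TwoGen.of_isCyclic

/-- the image in the symmetric group -/
noncomputable def toRange [FaithfulSMul G Ω] : G ≃* (toPermHom G Ω).range :=
  MonoidHom.ofInjective MulAction.toPerm_injective

theorem twoGen_of_not_two (O : NotTwo.{v}) [Finite G] [FaithfulSMul G Ω] [Fintype Ω] [DecidableEq Ω]
    (h2 : ∀ I J : Finset Ω, I.card = 2 → J.card = 2 → ∃ g : G, ∀ x ∈ I, g • x ∈ J)
    (hn2 : ¬ IsMultiplyPretransitive G Ω 2) : TwoGen G := by
  by_cases hG : Subsingleton G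
  · exact TwoGen.of_isCyclic
  rw [not_subsingleton_iff_nontrivial] at hG
  refine TwoGen.of_equiv' ⟨toRange (G := G) (Ω := Ω)⟩ (O Ω _ ?_ ?_ ?_)
  · intro h
    have h1 : Nontrivial (toPermHom G Ω).range := (toRange (G := G) (Ω := Ω)).toEquiv.symm.nontrivial
    rw [h] at h1
    exact absurd h1 (not_nontrivial_iff_subsingleton.2 inferInstance)
  · constructor
    intro s t
    obtain ⟨g, hg⟩ := h2 s.1 t.1 s.2 t.2
    refine ⟨⟨toPermHom G Ω g, g, rfl⟩, ?_⟩
    apply Subtype.ext
    refine Finset.eq_of_subset_of_card_le ?_ ?_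
    · intro x hx
      obtain ⟨y, hy, rfl⟩ := Finset.mem_smul_finset.1 hx
      exact hg y hy
    · have h3 := ((⟨toPermHom G Ω g, g, rfl⟩ : (toPermHom G Ω).range) • s).2
      have h4 := t.2
      exact (h4.trans h3.symm).le
  · intro h
    apply hn2
    rw [is_two_pretransitive_iff] at h ⊢
    intro a b c d hab hcd
    obtain ⟨⟨_, g, rfl⟩, hg1, hg2⟩ := h hab hcd
    exact ⟨g, hg1, hg2⟩

/-- **S3565** from the pieces of TEAM GEN. -/
theorem main
    (hK : ∀ (G : Type u) (Ω : Type v) [Group G] [MulAction G Ω] (T : Subgroup G), AS G Ω T →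
      Known2 ↥T (Nat.card Ω))
    (R : ASRows.{u, v}) (S : AffineStep.{u, v})
    (L : ∀ (V : Type u) [AddCommGroup V] (p : ℕ) (H : Subgroup (Equiv.Perm V)), Lin p H → AffGood H)
    (O : NotTwo.{v}) [Finite G] [FaithfulSMul G Ω] [Fintype Ω] [DecidableEq Ω]
    (h2 : ∀ I J : Finset Ω, I.card = 2 → J.card = 2 → ∃ g : G, ∀ x ∈ I, g • x ∈ J) : TwoGen G := by
  rcases Nat.lt_or_ge (Nat.card Ω) 3 with h3 | h3
  · exact twoGen_of_card_le_two (G := G) (Ω := Ω) (by omega)
  by_cases h : IsMultiplyPretransitive G Ω 2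
  · rcases reduction h h3 with ⟨N, hN, hN1, hc, -⟩ | ⟨T, A⟩
    · exact S G Ω N inferInstance inferInstance inferInstance h hN hN1
        (fun x hx y hy => congrArg Subtype.val (hc.is_comm.comm (⟨x, hx⟩ : N) ⟨y, hy⟩)) L
    · exact R.main A (hK G Ω T A)
  · exact twoGen_of_not_two O h2 h

end

end Cfsg.Agent.H487.Gen
end

-- part: H487/Gen/S5
section
/-!
# TEAM GEN: transitive subgroups of the symmetric group of degree 5 (helper487)

Every subgroup `Q` of `S_5` with a 5-cycle `c` is generated by `c` and an element `τ` such that `τ` is an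
involution or normalises `⟨c⟩`.
-/

set_option autoImplicit false

namespace Cfsg.Agent.H487.Gen.SFive

open Subgroup Equiv Cfsg.Agent.H994.TwoGen.Chain

/-- a permutation of `Fin 5` from its table and the table of the inverse -/
def mk (t s : Fin 5 → Fin 5) (h1 : ∀ i, s (t i) = i) (h2 : ∀ i, t (s i) = i) : Perm (Fin 5) :=
  ⟨t, s, h1, h2⟩

/-- `(0 1 2 3 4)` -/
def c : Perm (Fin 5) := mk ![1, 2, 3, 4, 0] ![4, 0, 1, 2, 3] (by decide) (by decide)
/-- `(0 1 2)` -/
def t : Perm (Fin 5) := mk ![1, 2, 0, 3, 4] ![2, 0, 1, 3, 4] (by decide) (by decide)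
/-- `(0 1)` -/
def sw : Perm (Fin 5) := mk ![1, 0, 2, 3, 4] ![1, 0, 2, 3, 4] (by decide) (by decide)
/-- `(0 1)(2 3)` -/
def dd : Perm (Fin 5) := mk ![1, 0, 3, 2, 4] ![1, 0, 3, 2, 4] (by decide) (by decide)
/-- representatives of the double cosets outside the normaliser -/
def rep : Fin 4 → Perm (Fin 5) := ![mk ![0, 1, 2, 4, 3] ![0, 1, 2, 4, 3] (by decide) (by decide),
  mk ![0, 1, 3, 4, 2] ![0, 1, 4, 2, 3] (by decide) (by decide),
  mk ![0, 1, 4, 3, 2] ![0, 1, 4, 3, 2] (by decide) (by decide),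
  mk ![0, 2, 1, 4, 3] ![0, 2, 1, 4, 3] (by decide) (by decide)]
/-- words for `(0 1 2)` -/
def wd : Fin 4 → List ℕ := ![[0, 1, 2, 1, 0], [0, 3], [1, 2, 1, 2], [0, 0, 1, 2, 2, 1]]

theorem word_rep : ∀ k : Fin 4, ew c (rep k) (wd k) = t := by decide +kernel

theorem word_dd : ew c dd [2, 1, 0, 0, 1] = t := by decide +kernel

theorem gen_alt : _root_.Subgroup.closure ({c, t} : Set (Perm (Fin 5))) = alternatingGroup (Fin 5) :=
  closure_eq (by rw [Perm.mem_alternatingGroup]; decide +kernel) (by rw [Perm.mem_alternatingGroup]; decide +kernel)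
    [(0, [[], [0], [3], [0, 3], [2]]), (1, [[], [0, 1, 2], [0, 3, 2], [3, 2, 3]]), (2, [[], [3, 0], [2, 1]])]
    (by decide +kernel) (by rw [nat_card_alternatingGroup]; simp [Nat.factorial, size])

theorem gen_top : _root_.Subgroup.closure ({c, sw} : Set (Perm (Fin 5))) = ⊤ :=
  _root_.Cfsg.Agent.H994.TwoGen.Chain.closure_eq (mem_top _) (mem_top _)
    [(0, [[], [0], [0, 0], [2, 2], [2]]), (1, [[], [1, 0], [1, 0, 1, 0], [2, 1]]), (2, [[], [0, 0, 1, 2, 2], [2, 1, 0, 1, 2]]), (3, [[], [2, 2, 1, 0, 0]])]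
    (by decide +kernel) (by rw [Subgroup.card_top, Nat.card_eq_fintype_card, Fintype.card_perm]; simp [Nat.factorial, size])

/-- the elements normalising `⟨c⟩` -/
def nrm (π : Perm (Fin 5)) : Prop := ∃ k : Fin 5, π * c * π⁻¹ = c ^ (k : ℕ)

instance (π : Perm (Fin 5)) : Decidable (nrm π) := by unfold nrm; infer_instance

theorem out : ∀ π : Perm (Fin 5), nrm π ∨ ∃ (i j : Fin 5) (k : Fin 4), c ^ (i : ℕ) * π * c ^ (j : ℕ) = rep k := by
  delta nrm
  simp only [↓Cfsg.Agent.PermCode.M, Cfsg.Agent.PermCode.P5.R, Cfsg.Agent.PermCode.B]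
  decide +kernel

theorem chain : ∀ σ : Perm (Fin 5), nrm σ → ∀ τ : Perm (Fin 5), nrm τ →
    (∃ i j : Fin 5, σ = c ^ (i : ℕ) * τ ^ (j : ℕ)) ∨ (∃ i j : Fin 5, τ = c ^ (i : ℕ) * σ ^ (j : ℕ)) := by
  delta nrm
  simp only [↓Cfsg.Agent.PermCode.M, Cfsg.Agent.PermCode.P5.R, Cfsg.Agent.PermCode.B]
  decide +kernel

/-- a subgroup with `c` and an element outside the normaliser of `⟨c⟩` contains `A_5` -/
theorem alt_le {Q : Subgroup (Perm (Fin 5))} (hc : c ∈ Q) {π : Perm (Fin 5)} (hπ : π ∈ Q) (hn : ¬ nrm π) :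
    alternatingGroup (Fin 5) ≤ Q := by
  rcases out π with h | ⟨i, j, k, h⟩
  · exact absurd h hn
  have h1 : rep k ∈ Q := by
    rw [← h]
    exact Q.mul_mem (Q.mul_mem (Q.pow_mem hc _) hπ) (Q.pow_mem hc _)
  have h2 : t ∈ Q := by
    rw [← word_rep k]
    refine ((closure_le (k := {c, rep k}) Q).2 ?_) (ew_mem _ _ _)
    rintro x (rfl | hx)
    · exact hc
    · rw [Set.mem_singleton_iff.1 hx]; exact h1
  rw [← gen_alt, closure_le]
  rintro x (rfl | hx)
  · exact hc
  · rw [Set.mem_singleton_iff.1 hx]; exact h2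

/-- **The generation of the transitive subgroups of `S_5`.** -/
theorem exists_gen (Q : Subgroup (Perm (Fin 5))) (hc : c ∈ Q) :
    ∃ τ ∈ Q, _root_.Subgroup.closure ({c, τ} : Set (Perm (Fin 5))) = Q ∧ (τ * τ = 1 ∨ ∃ k : ℕ, τ * c * τ⁻¹ = c ^ k) := by
  classical
  have hle : ∀ τ ∈ Q, _root_.Subgroup.closure ({c, τ} : Set (Perm (Fin 5))) ≤ Q := by
    intro τ hτ
    rw [closure_le]
    rintro x (rfl | hx)
    · exact hc
    · rw [Set.mem_singleton_iff.1 hx]; exact hτ
  by_cases hQ : ∀ π ∈ Q, nrm π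
  · obtain ⟨τ, hτ, hmax⟩ := (Set.toFinite {τ : Perm (Fin 5) | τ ∈ Q}).exists_maximalFor
      (fun τ => Nat.card (closure ({c, τ} : Set (Perm (Fin 5))))) _ ⟨1, Q.one_mem⟩
    refine ⟨τ, hτ, le_antisymm (hle τ hτ) ?_, Or.inr ?_⟩
    · intro σ hσ
      rcases chain σ (hQ σ hσ) τ (hQ τ hτ) with ⟨i, j, h⟩ | ⟨i, j, h⟩
      · rw [h]
        exact mul_mem (pow_mem (_root_.Subgroup.subset_closure (by simp)) _) (pow_mem (_root_.Subgroup.subset_closure (by simp)) _)
      · have h1 : _root_.Subgroup.closure ({c, τ} : Set (Perm (Fin 5))) ≤ closure ({c, σ} : Set (Perm (Fin 5))) := by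
          rw [closure_le]
          rintro x (rfl | hx)
          · exact _root_.Subgroup.subset_closure (by simp)
          · rw [Set.mem_singleton_iff.1 hx, h]
            exact mul_mem (pow_mem (_root_.Subgroup.subset_closure (by simp)) _) (pow_mem (_root_.Subgroup.subset_closure (by simp)) _)
        have h2 : Nat.card (closure ({c, σ} : Set (Perm (Fin 5)))) ≤
            Nat.card (closure ({c, τ} : Set (Perm (Fin 5)))) := by
          have h3 := Subgroup.card_le_of_le h1
          exact hmax hσ h3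
        have h3 := Subgroup.eq_of_le_of_card_ge h1 h2
        rw [h3]
        exact _root_.Subgroup.subset_closure (by simp)
    · obtain ⟨k, hk⟩ := hQ τ hτ
      exact ⟨k, hk⟩
  · push Not at hQ
    obtain ⟨π, hπ, hn⟩ := hQ
    have hA := alt_le hc hπ hn
    by_cases hQA : Q ≤ alternatingGroup (Fin 5)
    · have hQ : Q = alternatingGroup (Fin 5) := le_antisymm hQA hA
      have hd : dd ∈ Q := hA (by rw [Perm.mem_alternatingGroup]; decide +kernel)
      refine ⟨dd, hd, le_antisymm (hle _ hd) ?_, Or.inl (by decide +kernel)⟩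
      rw [hQ, ← gen_alt, closure_le]
      rintro x (rfl | hx)
      · exact _root_.Subgroup.subset_closure (by simp)
      · rw [Set.mem_singleton_iff.1 hx, ← word_dd]
        exact ew_mem _ _ _
    · obtain ⟨ρ, hρ, hρA⟩ := SetLike.not_le_iff_exists.1 hQA
      have hs : sw ∈ Q := by
        have h1 : sw * ρ⁻¹ ∈ alternatingGroup (Fin 5) := by
          have h2 : Perm.sign sw = -1 := by decide +kernel
          have h3 : Perm.sign ρ = -1 := by
            rcases Int.units_eq_one_or (Perm.sign ρ) with h | h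
            · exact absurd (Perm.mem_alternatingGroup.2 h) hρA
            · exact h
          rw [Perm.mem_alternatingGroup, map_mul, map_inv, h2, h3]
          decide
        have h2 := Q.mul_mem (hA h1) hρ
        rwa [inv_mul_cancel_right] at h2
      have hQ : Q = ⊤ := by
        rw [eq_top_iff, ← gen_top]
        exact hle _ hs
      exact ⟨sw, hs, by rw [gen_top, hQ], Or.inl (by decide +kernel)⟩

end Cfsg.Agent.H487.Gen.SFive
end

-- part: H487/Gen/Ext32
section
/-!
# TEAM GEN: `LinRows.ext32` (helper487)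

A normal extraspecial group of order 32 in dimension 4 over the field with three elements.
-/

set_option autoImplicit false

namespace Cfsg.Agent.H487.Gen.Ext

open Cfsg.Agent.H440.TwoGen Cfsg.Agent.H891.Gen Cfsg.Agent.H50.Her Module Subgroup Equiv
open Cfsg.Agent.PermutationGroups.RegularLinear

universe u

section Five

variable {Γ : Type*} [Group Γ] [Finite Γ] {s : Γ}

/-- an element of order 5 acting without fixed points -/
theorem dvd5 (hs : s ^ 5 = 1) (D : Set Γ) (inv : ∀ x ∈ D, s * x * s⁻¹ ∈ D) (nf : ∀ x ∈ D, s * x * s⁻¹ ≠ x) :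
    5 ∣ D.ncard := by
  classical
  have _ := Fintype.ofFinite Γ
  let f : Function.End D := fun x => ⟨s * x * s⁻¹, inv x x.2⟩
  have hf : ∀ (n : ℕ) (x : D), ((f ^ n) x : Γ) = s ^ n * x * (s ^ n)⁻¹ := by
    intro n
    induction n with
    | zero =>
      intro x
      rw [pow_zero, pow_zero, one_mul, inv_one, mul_one]
      rfl
    | succ n ih =>
      intro x
      have h1 : (f ^ (n + 1)) x = (f ^ n) (f x) := by rw [pow_succ]; rfl
      rw [h1, ih]
      change s ^ n * (s * x * s⁻¹) * (s ^ n)⁻¹ = _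
      rw [pow_succ]
      group
  have h5 : f ^ 5 ^ 1 = 1 := by
    funext x
    apply Subtype.ext
    rw [hf, pow_one, hs, one_mul, inv_one, mul_one]
    rfl
  have : Fact (Nat.Prime 5) := ⟨by norm_num⟩
  have h := Equiv.Perm.card_fixedPoints_modEq h5
  have h0 : Fintype.card (Function.fixedPoints f) = 0 := by
    rw [Fintype.card_eq_zero_iff]
    constructor
    rintro ⟨x, hx⟩
    exact nf x x.2 (congrArg Subtype.val hx)
  rw [h0, Nat.modEq_zero_iff_dvd] at h
  rwa [← Nat.card_coe_set_eq, Nat.card_eq_fintype_card]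

/-- a subgroup of a group of order 16 is trivial or everything, if `5` divides the number of other elements -/
theorem card16 {W : Subgroup Γ} {M : Subgroup Γ} (hM : Nat.card M = 16) (hW : W ≤ M)
    (h : 5 ∣ Nat.card M - Nat.card W) : W = M ∨ Nat.card W = 1 := by
  have h1 : Nat.card W ∣ 16 := by rw [← hM]; exact Subgroup.card_dvd_of_le hW
  have h2 : Nat.card W = 1 ∨ Nat.card W = 16 := by
    have h3 : Nat.card W ≤ 16 := Nat.le_of_dvd (by norm_num) h1
    rw [hM] at h
    interval_cases Nat.card W <;> omega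
  rcases h2 with h2 | h2
  · exact Or.inr h2
  · exact Or.inl (Subgroup.eq_of_le_of_card_ge hW (by rw [hM, h2]))

theorem irr (hs : s ^ 5 = 1) {M : Subgroup Γ} (hM : Nat.card M = 16) (hfix : ∀ x ∈ M, s * x * s⁻¹ = x → x = 1)
    {W : Subgroup Γ} (hW : W ≤ M) (hinv : ∀ x ∈ W, s * x * s⁻¹ ∈ W) : W = ⊥ ∨ W = M := by
  have h1 : 5 ∣ ((W : Set Γ) \ {1}).ncard := by
    refine dvd5 hs _ ?_ ?_
    · rintro x ⟨hx, hx1⟩
      refine ⟨hinv x hx, fun h => hx1 ?_⟩
      rw [Set.mem_singleton_iff] at h ⊢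
      have h2 : x = s⁻¹ * (s * x * s⁻¹) * s := by group
      rw [h2, h]
      group
    · rintro x ⟨hx, hx1⟩ h
      exact hx1 (hfix x (hW hx) h)
  rw [Set.ncard_sdiff_singleton_of_mem W.one_mem] at h1
  have h2 : (W : Set Γ).ncard = Nat.card W := rfl
  rw [h2] at h1
  have h3 : 0 < Nat.card W := Nat.card_pos
  have h4 : Nat.card W ≤ 16 := hM ▸ Subgroup.card_le_of_le hW
  rcases card16 hM hW (by rw [hM]; omega) with h | h
  · exact Or.inr h
  · exact Or.inl (Subgroup.eq_bot_of_card_eq W h)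

/-- **The quotient modulo the centre of the extraspecial group.** -/
theorem core2 (M : Subgroup Γ) (hMn : M.Normal) (hM : Nat.card M = 16) (hM2 : ∀ x ∈ M, x * x = 1)
    (hCM : ∀ g : Γ, (∀ x ∈ M, g * x = x * g) → g ∈ M) (hs : s ^ 5 = 1)
    (hfix : ∀ x ∈ M, s * x * s⁻¹ = x → x = 1) (D : Set Γ) (hD : D.ncard = 5) (hDM : ∀ x ∈ D, x ∈ M ∧ x ≠ 1)
    (hinv : ∀ g, ∀ x ∈ D, g * x * g⁻¹ ∈ D) : TwoGen Γ := by
  classical
  -- `M` is abelian
  have hMc : ∀ x ∈ M, ∀ y ∈ M, x * y = y * x := by
    intro x hx y hy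
    have h1 := hM2 (x * y) (M.mul_mem hx hy)
    have h2 := hM2 x hx
    have h3 := hM2 y hy
    calc x * y = x * (x * y * (x * y)) * y := by rw [h1, mul_one]
      _ = (x * x) * y * x * (y * y) := by group
      _ = y * x := by rw [h2, h3]; group
  obtain ⟨d, hd⟩ : D.Nonempty := by
    rw [← Set.ncard_pos (Set.toFinite D), hD]
    norm_num
  have hds : ∀ k : ℕ, s ^ k * d * (s ^ k)⁻¹ = d → 5 ∣ k := by
    intro k hk
    by_contra h5
    have h1 : s ∈ zpowers (s ^ k) := by
      rw [mem_zpowers_pow_iff]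
      have h2 : orderOf s ∣ 5 := orderOf_dvd_of_pow_eq_one hs
      have h3 : Nat.Coprime k 5 := ((Nat.Prime.coprime_iff_not_dvd (by norm_num)).2 h5).symm
      exact h3.coprime_dvd_right h2
    have h2 : s ∈ centralizer ({d} : Set Γ) := by
      refine (zpowers_le.2 ?_) h1
      rw [mem_centralizer_singleton_iff]
      exact mul_inv_eq_iff_eq_mul.1 hk
    rw [mem_centralizer_singleton_iff] at h2
    exact (hDM d hd).2 (hfix d (hDM d hd).1 (mul_inv_eq_iff_eq_mul.2 h2))
  -- the numbering
  let f : Fin 5 → D := fun i => ⟨s ^ (i : ℕ) * d * (s ^ (i : ℕ))⁻¹, hinv _ _ hd⟩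
  have hfval : ∀ i, (f i : Γ) = s ^ (i : ℕ) * d * (s ^ (i : ℕ))⁻¹ := fun _ => rfl
  have hf0 : ∀ i j : Fin 5, (i : ℕ) ≤ j → f i = f j → i = j := by
    intro i j hij h
    have h1 : s ^ (i : ℕ) * d * (s ^ (i : ℕ))⁻¹ = s ^ (j : ℕ) * d * (s ^ (j : ℕ))⁻¹ := congrArg Subtype.val h
    have h2 : s ^ ((j : ℕ) - i) * d * (s ^ ((j : ℕ) - i))⁻¹ = d := by
      have h3 : s ^ (j : ℕ) = s ^ (i : ℕ) * s ^ ((j : ℕ) - i) := by rw [← pow_add]; congr 1; omega
      rw [h3] at h1
      have h4 : s ^ (i : ℕ) * (s ^ ((j : ℕ) - i) * d * (s ^ ((j : ℕ) - i))⁻¹) * (s ^ (i : ℕ))⁻¹ =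
          s ^ (i : ℕ) * d * (s ^ (i : ℕ))⁻¹ := by rw [h1]; group
      exact mul_left_cancel (mul_right_cancel h4)
    have h3 := hds _ h2
    have h4 := j.2
    have h5 := i.2
    apply Fin.ext
    omega
  have hf : Function.Injective f := by
    intro i j h
    rcases le_total (i : ℕ) j with h1 | h1
    · exact hf0 i j h1 h
    · exact (hf0 j i h1 h.symm).symm
  have hcD : Nat.card D = 5 := hD
  let E : Fin 5 ≃ D := Equiv.ofBijective f ((Nat.bijective_iff_injective_and_card f).2 ⟨hf, by rw [hcD]; simp⟩)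
  have hE : ∀ i, (E i : Γ) = s ^ (i : ℕ) * d * (s ^ (i : ℕ))⁻¹ := fun _ => rfl
  let act : MulAction Γ D :=
    { smul := fun g x => ⟨g * x * g⁻¹, hinv g x x.2⟩
      one_smul := fun x => Subtype.ext (by change 1 * (x : Γ) * 1⁻¹ = x; group)
      mul_smul := fun g h x => Subtype.ext (by
        change g * h * (x : Γ) * (g * h)⁻¹ = g * (h * x * h⁻¹) * g⁻¹
        group) }
  let ψ : Γ →* Perm (Fin 5) := (Equiv.permCongrHom E.symm).toMonoidHom.comp (MulAction.toPermHom Γ D)
  have hψ : ∀ (g : Γ) (i : Fin 5), (E (ψ g i) : Γ) = g * (E i : Γ) * g⁻¹ := by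
    intro g i
    have h1 : ψ g i = E.symm (g • E i) := rfl
    rw [h1, Equiv.apply_symm_apply]
    rfl
  have hψs : ψ s = SFive.c := by
    apply Equiv.ext
    intro i
    apply E.injective
    apply Subtype.ext
    rw [hψ, hE, hE]
    have h1 : ∀ (i : Fin 5), ((SFive.c i : Fin 5) : ℕ) = ((i : ℕ) + 1) % 5 := by decide
    rw [h1]
    have h2 : s ^ (((i : ℕ) + 1) % 5) = s * s ^ (i : ℕ) := by
      rw [← pow_succ', pow_eq_pow_mod (m := (i : ℕ) + 1) hs]
    rw [h2]
    group
  have hker : ∀ g, ψ g = 1 ↔ g ∈ M := by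
    intro g
    constructor
    · intro hg
      apply hCM
      -- `D` generates `M`
      have h1 : closure D ≤ M := by
        rw [closure_le]
        exact fun x hx => (hDM x hx).1
      have h2 : closure D = M := by
        rcases irr hs hM hfix h1 (by
          have h3 : closure D ≤ (closure D).comap (MulAut.conj s).toMonoidHom := by
            rw [closure_le]
            intro x hx
            exact _root_.Subgroup.subset_closure (hinv s x hx)
          exact fun x hx => h3 hx) with h3 | h3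
        · exfalso
          have h4 : d ∈ closure D := _root_.Subgroup.subset_closure hd
          rw [h3, mem_bot] at h4
          exact (hDM d hd).2 h4
        · exact h3
      have h3 : closure D ≤ centralizer ({g} : Set Γ) := by
        rw [closure_le]
        intro x hx
        rw [SetLike.mem_coe, mem_centralizer_singleton_iff]
        have h4 := hψ g (E.symm ⟨x, hx⟩)
        rw [hg, Perm.one_apply, Equiv.apply_symm_apply] at h4
        change x = g * x * g⁻¹ at h4
        exact (eq_mul_inv_iff_mul_eq.1 h4)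
      intro x hx
      rw [← h2] at hx
      exact (mem_centralizer_singleton_iff.1 (h3 hx)).symm
    · intro hg
      apply Equiv.ext
      intro i
      apply E.injective
      apply Subtype.ext
      rw [hψ, Perm.one_apply]
      rw [hMc g hg _ (hDM _ (E i).2).1]
      group
  -- the choice of the second generator
  obtain ⟨τ, ⟨y, rfl⟩, hgen, hcase⟩ := SFive.exists_gen ψ.range ⟨s, hψs⟩
  have hlift : ∀ n ∈ M, ∀ g : Γ, ∃ h ∈ closure ({s, y * n} : Set Γ), h⁻¹ * g ∈ M := by
    intro n hn g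
    have h1 : ψ g ∈ _root_.Subgroup.closure ({SFive.c, ψ y} : Set (Perm (Fin 5))) := by rw [hgen]; exact ⟨g, rfl⟩
    have h2 : (closure ({s, y * n} : Set Γ)).map ψ = closure ({SFive.c, ψ y} : Set (Perm (Fin 5))) := by
      rw [MonoidHom.map_closure, Set.image_pair, hψs, map_mul, (hker n).2 hn, mul_one]
    rw [← h2] at h1
    obtain ⟨h, hh, hhg⟩ := h1
    refine ⟨h, hh, (hker _).1 ?_⟩
    rw [map_mul, map_inv, hhg, inv_mul_cancel]
  by_contra hcon
  have hbot : ∀ n ∈ M, ∀ x ∈ closure ({s, y * n} : Set Γ), x ∈ M → x = 1 := by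
    intro n hn x hx hxM
    have hsm : s ∈ closure ({s, y * n} : Set Γ) := _root_.Subgroup.subset_closure (by simp)
    rcases irr hs hM hfix (W := _root_.Subgroup.closure ({s, y * n} : Set Γ) ⊓ M) inf_le_right (by
      intro x hx
      obtain ⟨h1, h2⟩ := mem_inf.1 hx
      exact mem_inf.2 ⟨mul_mem (mul_mem hsm h1) (inv_mem hsm), hMn.conj_mem _ h2 _⟩) with h | h
    · have h1 : x ∈ closure ({s, y * n} : Set Γ) ⊓ M := mem_inf.2 ⟨hx, hxM⟩
      rw [h, mem_bot] at h1
      exact h1
    · exfalso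
      apply hcon
      refine ⟨s, y * n, ?_⟩
      rw [eq_top_iff]
      intro g _
      obtain ⟨h1, hh1, hh2⟩ := hlift n hn g
      have h5 : h1⁻¹ * g ∈ closure ({s, y * n} : Set Γ) ⊓ M := by rw [h]; exact hh2
      have h3 : h1⁻¹ * g ∈ closure ({s, y * n} : Set Γ) := (mem_inf.1 h5).1
      have h4 := mul_mem hh1 h3
      rwa [mul_inv_cancel_left] at h4
  rcases hcase with h | ⟨k, hk⟩
  · -- an involution
    have hyy : y * y ∈ M := by
      rw [← hker, map_mul, h]
    have h1 : ∀ n ∈ M, (y * n) * (y * n) = 1 := by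
      intro n hn
      have h2 : y * n ∈ closure ({s, y * n} : Set Γ) := _root_.Subgroup.subset_closure (by simp)
      refine hbot n hn _ (mul_mem h2 h2) ?_
      rw [← hker, map_mul, map_mul, (hker n).2 hn, mul_one, ← map_mul, hker]
      exact hyy
    have h2 : y * y = 1 := by
      have := h1 1 M.one_mem
      rwa [mul_one] at this
    have hyM : y ∈ M := by
      apply hCM
      intro n hn
      have h3 := h1 n hn
      have h4 := hM2 n hn
      calc y * n = (y * n) * ((y * n) * (y * n))⁻¹ * 1 := by rw [h3]; group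
        _ = (y * n)⁻¹ * 1 := by group
        _ = n⁻¹ * y⁻¹ := by group
        _ = n * y := by rw [inv_eq_of_mul_eq_one_left h4, inv_eq_of_mul_eq_one_left h2]
    have h3 := hbot (y⁻¹ * d) (M.mul_mem (M.inv_mem hyM) (hDM d hd).1) d
      (_root_.Subgroup.subset_closure (by rw [mul_inv_cancel_left]; simp)) (hDM d hd).1
    exact (hDM d hd).2 h3
  · -- an element normalising `⟨c⟩`
    have h1 : ∀ n ∈ M, (y * n) * s * (y * n)⁻¹ * (s ^ k)⁻¹ = 1 := by
      intro n hn
      have h2 : y * n ∈ closure ({s, y * n} : Set Γ) := _root_.Subgroup.subset_closure (by simp)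
      have h3 : s ∈ closure ({s, y * n} : Set Γ) := _root_.Subgroup.subset_closure (by simp)
      refine hbot n hn _ (mul_mem (mul_mem (mul_mem h2 h3) (inv_mem h2)) (inv_mem (pow_mem h3 k))) ?_
      rw [← hker, map_mul, map_mul, map_mul, map_inv, map_inv, map_pow, map_mul, (hker n).2 hn, mul_one, hψs, hk,
        mul_inv_cancel]
    have h2 := h1 1 M.one_mem
    have h3 := h1 d (hDM d hd).1
    rw [mul_one, mul_inv_eq_one] at h2
    rw [mul_inv_eq_one, ← h2] at h3
    have h4 : d * s * d⁻¹ = s := by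
      have h5 : y * (d * s * d⁻¹) * y⁻¹ = y * s * y⁻¹ := by rw [← h3]; group
      exact mul_left_cancel (mul_right_cancel h5)
    apply (hDM d hd).2
    refine hfix d (hDM d hd).1 ?_
    rw [mul_inv_eq_iff_eq_mul] at h4 ⊢
    exact h4.symm

end Five

section Core

variable {G : Type*} [Group G]

/-- the order of the image modulo a normal subgroup -/
theorem card_map_mk {N A : Subgroup G} [A.Normal] (hAN : A ≤ N) :
    Nat.card (N.map (QuotientGroup.mk' A)) * Nat.card A = Nat.card N := by
  have h1 := Subgroup.index_ker ((QuotientGroup.mk' A).comp N.subtype)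
  have h2 : ((QuotientGroup.mk' A).comp N.subtype).ker = A.subgroupOf N := by
    ext x
    rw [MonoidHom.mem_ker, mem_subgroupOf, MonoidHom.comp_apply]
    exact QuotientGroup.eq_one_iff (x : G)
  have h3 : ((QuotientGroup.mk' A).comp N.subtype).range = N.map (QuotientGroup.mk' A) := by
    rw [MonoidHom.range_comp, Subgroup.range_subtype]
  rw [h2, h3] at h1
  rw [← h1, mul_comm, ← Subgroup.card_mul_index (A.subgroupOf N),
    Nat.card_congr (Subgroup.subgroupOfEquivOfLe hAN).toEquiv]

/-- **The abstract form.** -/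
theorem core1 [Finite G] (N A : Subgroup G) (hNn : N.Normal) (hAn : A.Normal) (hN : Nat.card N = 32)
    (hA : Nat.card A = 2) (hAN : A ≤ N) (hC : ∀ g, (∀ x ∈ N, g * x = x * g) → g ∈ A) (s : G)
    (hs : orderOf s = 5) : TwoGen G := by
  classical
  -- the central involution
  obtain ⟨z, hz1, hzA⟩ : ∃ z, z ≠ 1 ∧ ∀ a, a ∈ A ↔ a = 1 ∨ a = z := by
    obtain ⟨z, hz, hz'⟩ := (Nat.card_eq_two_iff' (1 : A)).1 hA
    refine ⟨z, fun h => hz (Subtype.ext h), fun a => ⟨fun ha => ?_, ?_⟩⟩
    · by_cases h1 : a = 1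
      · exact Or.inl h1
      · right
        exact congrArg Subtype.val (hz' ⟨a, ha⟩ fun h => h1 (congrArg Subtype.val h))
    · rintro (rfl | rfl)
      · exact A.one_mem
      · exact z.2
  have hzm : z ∈ A := (hzA z).2 (Or.inr rfl)
  have hzz : z * z = 1 := by
    rcases (hzA (z * z)).1 (A.mul_mem hzm hzm) with h | h
    · exact h
    · exact absurd (mul_eq_left.1 h) hz1
  have hzc : ∀ g : G, g * z = z * g := by
    intro g
    rcases (hzA _).1 (hAn.conj_mem z hzm g) with h | h
    · exfalso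
      apply hz1
      have : z = g⁻¹ * (g * z * g⁻¹) * g := by group
      rw [this, h]
      group
    · exact mul_inv_eq_iff_eq_mul.1 h
  have hAc : ∀ a ∈ A, ∀ g : G, g * a = a * g := by
    intro a ha g
    rcases (hzA a).1 ha with rfl | rfl
    · rw [mul_one, one_mul]
    · exact hzc g
  -- the quotient
  set! π := QuotientGroup.mk' A with hπ
  have hπ1 : ∀ g, π g = 1 ↔ g ∈ A := fun g => QuotientGroup.eq_one_iff g
  have hπs : Function.Surjective π := QuotientGroup.mk'_surjective A
  set! M := N.map π with hM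
  have hMm : ∀ g, π g ∈ M ↔ g ∈ N := by
    intro g
    constructor
    · rintro ⟨x, hx, hxg⟩
      have h1 : x⁻¹ * g ∈ A := by rw [← hπ1, map_mul, map_inv, hxg, inv_mul_cancel]
      have h2 := N.mul_mem hx (hAN h1)
      rwa [mul_inv_cancel_left] at h2
    · exact fun h => ⟨g, h, rfl⟩
  have hMn : M.Normal := hNn.map π hπs
  have hMc : Nat.card M = 16 := by
    have h : Nat.card M * Nat.card A = Nat.card N := card_map_mk hAN
    rw [hA, hN] at h
    omega
  have hs5 : s ^ 5 = 1 := by rw [← hs]; exact pow_orderOf_eq_one s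
  have hs5' : π s ^ 5 = 1 := by rw [← map_pow, hs5, map_one]
  have hsA : s ∉ A := by
    intro h
    rcases (hzA s).1 h with rfl | rfl
    · rw [orderOf_one] at hs; omega
    · have := orderOf_dvd_of_pow_eq_one (x := s) (n := 2) (by rw [pow_two, hzz])
      rw [hs] at this
      revert this
      decide
  -- commutators in `A`
  have hcomA : ∀ g x : G, π g * π x = π x * π g → g * x = x * g ∨ g * x = z * (x * g) := by
    intro g x h
    have h1 : g * x * (x * g)⁻¹ ∈ A := by
      rw [← hπ1, map_mul, map_inv, map_mul, map_mul, h, mul_inv_cancel]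
    rcases (hzA _).1 h1 with h2 | h2
    · exact Or.inl (mul_inv_eq_one.1 h2)
    · exact Or.inr (mul_inv_eq_iff_eq_mul.1 h2)
  -- `s` acts without fixed points
  have hfix : ∀ x ∈ M, π s * x * (π s)⁻¹ = x → x = 1 := by
    intro m hm hm'
    by_contra hm1
    have hW : M ⊓ centralizer ({π s} : Set (G ⧸ A)) = M := by
      have h1 : 5 ∣ ((M : Set (G ⧸ A)) \ ((M ⊓ centralizer ({π s} : Set (G ⧸ A)) : Subgroup (G ⧸ A)) : Set (G ⧸ A))).ncard := by
        refine dvd5 hs5' _ ?_ ?_
        · rintro x ⟨hx, hx1⟩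
          refine ⟨hMn.conj_mem x hx _, fun h => hx1 ?_⟩
          obtain ⟨-, h2⟩ := mem_inf.1 h
          refine mem_inf.2 ⟨hx, ?_⟩
          rw [mem_centralizer_singleton_iff] at h2 ⊢
          have h3 : π s * (π s * x) = π s * (x * π s) := by
            calc π s * (π s * x) = π s * (π s * x * (π s)⁻¹) * π s := by group
              _ = π s * x * (π s)⁻¹ * π s * π s := by rw [← h2]
              _ = π s * (x * π s) := by group
          exact (mul_left_cancel h3).symm
        · rintro x ⟨hx, hx1⟩ h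
          exact hx1 (mem_inf.2 ⟨hx, by
            rw [mem_centralizer_singleton_iff]
            exact (mul_inv_eq_iff_eq_mul.1 h).symm⟩)
      rw [Set.ncard_sdiff (by exact fun x hx => (mem_inf.1 hx).1)] at h1
      rcases card16 hMc inf_le_left h1 with h | h
      · exact h
      · exfalso
        have h2 := Subgroup.eq_bot_of_card_eq _ h
        have h3 : m ∈ M ⊓ centralizer ({π s} : Set (G ⧸ A)) := mem_inf.2 ⟨hm, by
            rw [mem_centralizer_singleton_iff]
            exact (mul_inv_eq_iff_eq_mul.1 hm').symm⟩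
        rw [h2, mem_bot] at h3
        exact hm1 h3
    apply hsA
    apply hC
    intro x hx
    have h1 : π x ∈ M ⊓ centralizer ({π s} : Set (G ⧸ A)) := by rw [hW]; exact ⟨x, hx, rfl⟩
    have h2 := (mem_centralizer_singleton_iff.1 (mem_inf.1 h1).2).symm
    rcases hcomA s x h2 with h3 | h3
    · exact h3
    · have h4 : Commute (s * s) x := by
        show s * s * x = x * (s * s)
        calc s * s * x = s * (s * x) := by group
          _ = s * (z * (x * s)) := by rw [h3]
          _ = (s * z) * (x * s) := by group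
          _ = z * (s * x) * s := by rw [hzc]; group
          _ = z * (z * (x * s)) * s := by rw [h3]
          _ = (z * z) * x * (s * s) := by group
          _ = x * (s * s) := by rw [hzz, one_mul]
      have h5 : (s * s) ^ 3 = s := by
        rw [← pow_two, ← pow_mul, show 2 * 3 = 5 + 1 from rfl, pow_succ, hs5, one_mul]
      have h6 := h4.pow_left 3
      rw [h5] at h6
      exact h6
  -- `M` is elementary abelian
  have hMab : ∀ x ∈ M, ∀ y ∈ M, x * y = y * x := by
    have hP : IsPGroup 2 M := IsPGroup.of_card (n := 4) (by rw [hMc]; norm_num)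
    have : Nontrivial M := Finite.one_lt_card_iff_nontrivial.1 (by rw [hMc]; norm_num)
    have : Fact (Nat.Prime 2) := ⟨Nat.prime_two⟩
    have h1 := hP.center_nontrivial
    rcases irr hs5' hMc hfix (W := (center M).map M.subtype) (by
      rintro _ ⟨x, -, rfl⟩
      exact x.2) (by
      rintro _ ⟨x, hx, rfl⟩
      refine ⟨⟨π s * x * (π s)⁻¹, hMn.conj_mem x x.2 _⟩, ?_, rfl⟩
      rw [SetLike.mem_coe, mem_center_iff] at hx ⊢
      intro g
      have h2 := hx ⟨(π s)⁻¹ * g * π s, by simpa only [_root_.inv_inv] using hMn.conj_mem g g.2 (π s)⁻¹⟩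
      have h3 : (π s)⁻¹ * g * π s * x = x * ((π s)⁻¹ * g * π s) := congrArg Subtype.val h2
      apply Subtype.ext
      change (g : G ⧸ A) * (π s * x * (π s)⁻¹) = π s * x * (π s)⁻¹ * g
      calc (g : G ⧸ A) * (π s * x * (π s)⁻¹) = π s * ((π s)⁻¹ * g * π s * x) * (π s)⁻¹ := by group
        _ = π s * (x * ((π s)⁻¹ * g * π s)) * (π s)⁻¹ := by rw [h3]
        _ = π s * x * (π s)⁻¹ * g := by group) with h | h
    · exfalso
      rw [Subgroup.map_eq_bot_iff_of_injective _ M.subtype_injective] at h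
      rw [h] at h1
      exact not_nontrivial _ h1
    · intro x hx y hy
      rw [← h] at hx
      obtain ⟨x, hx, rfl⟩ := hx
      exact (congrArg Subtype.val ((mem_center_iff.1 hx) ⟨y, hy⟩)).symm
  have hM2 : ∀ x ∈ M, x * x = 1 := by
    let W : Subgroup (G ⧸ A) :=
      { carrier := {x | x ∈ M ∧ x * x = 1}
        mul_mem' := by
          rintro a b ⟨ha, ha'⟩ ⟨hb, hb'⟩
          refine ⟨M.mul_mem ha hb, ?_⟩
          calc a * b * (a * b) = a * (b * a) * b := by group
            _ = a * (a * b) * b := by rw [hMab b hb a ha]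
            _ = (a * a) * (b * b) := by group
            _ = 1 := by rw [ha', hb', one_mul]
        one_mem' := ⟨M.one_mem, one_mul 1⟩
        inv_mem' := by
          rintro a ⟨ha, ha'⟩
          refine ⟨M.inv_mem ha, ?_⟩
          rw [← mul_inv_rev, ha', inv_one] }
    rcases irr hs5' hMc hfix (W := W) (fun x hx => hx.1) (fun x hx => ⟨hMn.conj_mem _ hx.1 _, by
        calc π s * x * (π s)⁻¹ * (π s * x * (π s)⁻¹) = π s * (x * x) * (π s)⁻¹ := by group
          _ = 1 := by rw [hx.2]; group⟩) with h | h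
    · exfalso
      obtain ⟨w, hw⟩ := exists_prime_orderOf_dvd_card' (G := M) 2 (by rw [hMc]; norm_num)
      have h1 : (w : G ⧸ A) ∈ W := ⟨w.2, by
        have h2 : w * w = 1 := by rw [← pow_two, ← hw, pow_orderOf_eq_one]
        exact congrArg Subtype.val h2⟩
      rw [h, mem_bot] at h1
      have h2 : w = 1 := Subtype.ext h1
      rw [h2, orderOf_one] at hw
      omega
    · intro x hx
      rw [← h] at hx
      exact hx.2
  -- commutators and squares in `N`
  have hcomN : ∀ x ∈ N, ∀ y ∈ N, x * y = y * x ∨ x * y = z * (y * x) := fun x hx y hy =>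
    hcomA x y (hMab _ ⟨x, hx, rfl⟩ _ ⟨y, hy, rfl⟩)
  have hsq : ∀ x ∈ N, x * x = 1 ∨ x * x = z := by
    intro x hx
    have h1 := hM2 _ ⟨x, hx, rfl⟩
    exact (hzA _).1 ((hπ1 _).1 (by rw [map_mul]; exact h1))
  have hNA : ¬ N ≤ A := by
    intro h
    have := Subgroup.card_le_of_le h
    omega
  have hnab : ¬ ∀ x ∈ N, ∀ y ∈ N, x * y = y * x := fun h => hNA fun x hx => hC x fun y hy => h x hx y hy
  obtain ⟨x₀, hx₀, hx₀A⟩ := SetLike.not_le_iff_exists.1 hNA
  -- the invariant sets
  let D : G → Set (G ⧸ A) := fun a => {m | m ∈ M ∧ m ≠ 1 ∧ ∃ x, π x = m ∧ x * x = a}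
  have hDinv : ∀ a, (∀ g : G, g * a = a * g) → ∀ g : G ⧸ A, ∀ m ∈ D a, g * m * g⁻¹ ∈ D a := by
    rintro a ha g m ⟨h1, h2, x, rfl, h3⟩
    obtain ⟨g, rfl⟩ := hπs g
    refine ⟨hMn.conj_mem _ h1 _, fun h => h2 ?_, g * x * g⁻¹, by rw [map_mul, map_mul, map_inv], ?_⟩
    · have h4 : π x = (π g)⁻¹ * (π g * π x * (π g)⁻¹) * π g := by group
      rw [h4, h]
      group
    · calc g * x * g⁻¹ * (g * x * g⁻¹) = g * (x * x) * g⁻¹ := by group
        _ = a := by rw [h3, ha]; group
  have hD5 : ∀ a, (∀ g : G, g * a = a * g) → 5 ∣ (D a).ncard := fun a ha =>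
    dvd5 hs5' _ (hDinv a ha _) fun m hm h => hm.2.1 (hfix m hm.1 h)
  have hD1 := hD5 1 (fun g => by rw [mul_one, one_mul])
  have hDz := hD5 z hzc
  have hDsum : (D 1).ncard + (D z).ncard = 15 := by
    rw [← Set.ncard_union_eq]
    · have h1 : D 1 ∪ D z = (M : Set (G ⧸ A)) \ {1} := by
        ext m
        constructor
        · rintro (⟨h1, h2, -⟩ | ⟨h1, h2, -⟩) <;> exact ⟨h1, h2⟩
        · rintro ⟨⟨x, hx, rfl⟩, h2⟩
          rcases hsq x hx with h | h
          · exact Or.inl ⟨⟨x, hx, rfl⟩, h2, x, rfl, h⟩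
          · exact Or.inr ⟨⟨x, hx, rfl⟩, h2, x, rfl, h⟩
      rw [h1, Set.ncard_sdiff_singleton_of_mem M.one_mem]
      have h2 : (M : Set (G ⧸ A)).ncard = Nat.card M := rfl
      rw [h2, hMc]
    · rw [Set.disjoint_left]
      rintro _ ⟨-, -, x, rfl, h1⟩ ⟨-, -, y, hy, h2⟩
      have h3 : y * x⁻¹ ∈ A := by rw [← hπ1, map_mul, map_inv, hy, mul_inv_cancel]
      rcases (hzA _).1 h3 with h4 | h4
      · rw [mul_inv_eq_one] at h4
        rw [h4, h1] at h2
        exact hz1 h2.symm
      · rw [mul_inv_eq_iff_eq_mul] at h4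
        apply hz1
        rw [← h2, h4]
        calc z * x * (z * x) = z * (x * z) * x := by group
          _ = (z * z) * (x * x) := by rw [hzc]; group
          _ = 1 := by rw [hzz, h1, one_mul]
  have hDne : (D 1).ncard ≠ 0 := by
    intro h0
    rw [Set.ncard_eq_zero] at h0
    have hno : ∀ x ∈ N, x ∉ A → x * x = z := by
      intro x hx hxA
      rcases hsq x hx with h | h
      · exfalso
        have h1 : π x ∈ D 1 := ⟨⟨x, hx, rfl⟩, fun h => hxA ((hπ1 x).1 h), x, rfl, h⟩
        rw [h0] at h1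
        exact h1
      · exact h
    have hCc : 16 ≤ ((N ⊓ centralizer ({x₀} : Set G) : Subgroup G) : Set G).ncard := by
      by_cases hu : ∃ u ∈ N, u * x₀ ≠ x₀ * u
      · obtain ⟨u, hu, hu'⟩ := hu
        have hu'' := (hcomN u hu x₀ hx₀).resolve_left hu'
        have h1 : (N : Set G) ⊆ ((N ⊓ centralizer ({x₀} : Set G) : Subgroup G) : Set G) ∪
            (fun w => u * w) '' ((N ⊓ centralizer ({x₀} : Set G) : Subgroup G) : Set G) := by
          intro n hn
          by_cases h2 : n * x₀ = x₀ * n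
          · exact Or.inl (mem_inf.2 ⟨hn, by rw [mem_centralizer_singleton_iff]; exact h2⟩)
          · right
            have h3 := (hcomN n hn x₀ hx₀).resolve_left h2
            refine ⟨u⁻¹ * n, mem_inf.2 ⟨N.mul_mem (N.inv_mem hu) hn, ?_⟩, by simp⟩
            rw [mem_centralizer_singleton_iff]
            have h4 : u⁻¹ * (z * x₀) = x₀ * u⁻¹ := by
              have h5 : u⁻¹ * (u * x₀) * u⁻¹ = u⁻¹ * (z * (x₀ * u)) * u⁻¹ := by rw [hu'']
              calc u⁻¹ * (z * x₀) = u⁻¹ * (z * (x₀ * u)) * u⁻¹ := by group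
                _ = u⁻¹ * (u * x₀) * u⁻¹ := h5.symm
                _ = x₀ * u⁻¹ := by group
            calc u⁻¹ * n * x₀ = u⁻¹ * (n * x₀) := by group
              _ = u⁻¹ * (z * x₀) * n := by rw [h3]; group
              _ = x₀ * (u⁻¹ * n) := by rw [h4]; group
        have h2 := Set.ncard_le_ncard h1 (Set.toFinite _)
        have h3 := Set.ncard_union_le ((N ⊓ centralizer ({x₀} : Set G) : Subgroup G) : Set G)
          ((fun w => u * w) '' ((N ⊓ centralizer ({x₀} : Set G) : Subgroup G) : Set G))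
        have h4 := Set.ncard_image_le (f := fun w => u * w)
          (Set.toFinite ((N ⊓ centralizer ({x₀} : Set G) : Subgroup G) : Set G))
        have h5 : (N : Set G).ncard = 32 := hN
        omega
      · push Not at hu
        have h1 : N ⊓ centralizer ({x₀} : Set G) = N := inf_eq_left.2 fun n hn => by
          rw [mem_centralizer_singleton_iff]; exact hu n hn
        rw [h1]
        have h5 : (N : Set G).ncard = 32 := hN
        omega
    have h4 : ({1, z, x₀, z * x₀} : Set G).ncard ≤ 4 := by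
      have h1 := Set.ncard_insert_le 1 ({z, x₀, z * x₀} : Set G)
      have h2 := Set.ncard_insert_le z ({x₀, z * x₀} : Set G)
      have h3 := Set.ncard_insert_le x₀ ({z * x₀} : Set G)
      rw [Set.ncard_singleton] at h3
      omega
    obtain ⟨y, hy, hy'⟩ := Set.exists_mem_notMem_of_ncard_lt_ncard (lt_of_le_of_lt h4
      (lt_of_lt_of_le (by norm_num : 4 < 16) hCc))
    obtain ⟨hyN, hyx⟩ := mem_inf.1 hy
    rw [mem_centralizer_singleton_iff] at hyx
    simp only [Set.mem_insert_iff, Set.mem_singleton_iff, not_or] at hy'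
    obtain ⟨hy1, hyz, hyx0, hyzx⟩ := hy'
    have hyA : y ∉ A := fun h => by rcases (hzA y).1 h with h | h <;> contradiction
    have hxx := hno x₀ hx₀ hx₀A
    have hyy := hno y hyN hyA
    have hxyA : x₀ * y ∉ A := by
      intro h
      have h1 : x₀ * (x₀ * y) = z * y := by rw [← mul_assoc, hxx]
      rcases (hzA _).1 h with h2 | h2
      · rw [h2, mul_one] at h1
        apply hyzx
        rw [h1, ← mul_assoc, hzz, one_mul]
      · rw [h2, hzc] at h1
        exact hyx0 (mul_left_cancel h1).symm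
    have h5 := hno (x₀ * y) (N.mul_mem hx₀ hyN) hxyA
    apply hz1
    calc z = x₀ * y * (x₀ * y) := h5.symm
      _ = x₀ * (y * x₀) * y := by group
      _ = (x₀ * x₀) * (y * y) := by rw [hyx]; group
      _ = 1 := by rw [hxx, hyy, hzz]
  have hDne' : (D 1).ncard ≠ 15 := by
    intro h15
    have h0 : (D z).ncard = 0 := by omega
    rw [Set.ncard_eq_zero] at h0
    have hall : ∀ x ∈ N, x * x = 1 := by
      intro x hx
      by_cases hxA : x ∈ A
      · rcases (hzA x).1 hxA with rfl | rfl
        · rw [mul_one]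
        · exact hzz
      · rcases hsq x hx with h | h
        · exact h
        · exfalso
          have h1 : π x ∈ D z := ⟨⟨x, hx, rfl⟩, fun h => hxA ((hπ1 x).1 h), x, rfl, h⟩
          rw [h0] at h1
          exact h1
    apply hnab
    intro x hx y hy
    have h1 := hall (x * y) (N.mul_mem hx hy)
    have h2 := hall x hx
    have h3 := hall y hy
    calc x * y = x * (x * y * (x * y)) * y := by rw [h1, mul_one]
      _ = (x * x) * y * x * (y * y) := by group
      _ = y * x := by rw [h2, h3]; group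
  have hDa : ∃ a, (∀ g : G, g * a = a * g) ∧ (D a).ncard = 5 := by
    obtain ⟨k, hk⟩ := hD1
    obtain ⟨l, hl⟩ := hDz
    have h1 : k = 1 ∨ l = 1 := by omega
    rcases h1 with rfl | rfl
    · exact ⟨1, fun g => by rw [mul_one, one_mul], hk⟩
    · exact ⟨z, hzc, hl⟩
  obtain ⟨a, ha, haD⟩ := hDa
  -- the centraliser of `M`
  have hCM : ∀ g : G ⧸ A, (∀ x ∈ M, g * x = x * g) → g ∈ M := by
    let xx : Fin 4 → G := fun i => s ^ (i : ℕ) * x₀ * (s ^ (i : ℕ))⁻¹
    have hxx : ∀ i, xx i ∈ N := fun i => hNn.conj_mem _ hx₀ _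
    -- the conjugates generate `M`
    have hgen : _root_.Subgroup.closure (Set.range fun i => π (xx i)) = M := by
      have h0 : π x₀ ∈ M := ⟨x₀, hx₀, rfl⟩
      have hcm : ∀ n : ℕ, π s ^ n * π x₀ * (π s ^ n)⁻¹ ∈ M := fun n => hMn.conj_mem _ h0 _
      have hW1 : closure (Set.range fun i => π (xx i)) ≤ M := by
        rw [closure_le]
        rintro _ ⟨i, rfl⟩
        exact ⟨_, hxx i, rfl⟩
      have hmem : ∀ n : ℕ, n < 4 → π s ^ n * π x₀ * (π s ^ n)⁻¹ ∈ closure (Set.range fun i => π (xx i)) := by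
        intro n hn
        refine subset_closure ⟨⟨n, hn⟩, ?_⟩
        change π (s ^ n * x₀ * (s ^ n)⁻¹) = _
        rw [map_mul, map_mul, map_inv, map_pow]
      have hmem4 : π s ^ 4 * π x₀ * (π s ^ 4)⁻¹ ∈ closure (Set.range fun i => π (xx i)) := by
        set! m : ℕ → G ⧸ A := fun n => π s ^ n * π x₀ * (π s ^ n)⁻¹ with hm
        have hconj : ∀ n, π s * m n * (π s)⁻¹ = m (n + 1) := by
          intro n
          simp only [hm]
          rw [pow_succ']
          group
        have hm5 : m 5 = m 0 := by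
          simp only [hm]
          rw [hs5', pow_zero]
        have hprod : m 0 * m 1 * m 2 * m 3 * m 4 = 1 := by
          apply hfix
          · exact M.mul_mem (M.mul_mem (M.mul_mem (M.mul_mem (hcm 0) (hcm 1)) (hcm 2)) (hcm 3)) (hcm 4)
          · calc π s * (m 0 * m 1 * m 2 * m 3 * m 4) * (π s)⁻¹
                = (π s * m 0 * (π s)⁻¹) * (π s * m 1 * (π s)⁻¹) * (π s * m 2 * (π s)⁻¹) *
                    (π s * m 3 * (π s)⁻¹) * (π s * m 4 * (π s)⁻¹) := by group
              _ = (m 1 * m 2 * m 3 * m 4) * m 0 := by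
                rw [hconj, hconj, hconj, hconj, hconj, hm5]
              _ = m 0 * (m 1 * m 2 * m 3 * m 4) := hMab _ (M.mul_mem (M.mul_mem (M.mul_mem (hcm 1) (hcm 2)) (hcm 3))
                (hcm 4)) _ (hcm 0)
              _ = m 0 * m 1 * m 2 * m 3 * m 4 := by group
        have h1 : m 4 = (m 0 * m 1 * m 2 * m 3)⁻¹ := by
          rw [eq_inv_iff_mul_eq_one, hMab _ (hcm 4) _ (M.mul_mem (M.mul_mem (M.mul_mem (hcm 0) (hcm 1)) (hcm 2))
            (hcm 3))]
          exact hprod
        change m 4 ∈ _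
        rw [h1]
        exact inv_mem (mul_mem (mul_mem (mul_mem (hmem 0 (by norm_num)) (hmem 1 (by norm_num)))
          (hmem 2 (by norm_num))) (hmem 3 (by norm_num)))
      rcases irr hs5' hMc hfix hW1 (by
        have h3 : _root_.Subgroup.closure (Set.range fun i => π (xx i)) ≤
            (closure (Set.range fun i => π (xx i))).comap (MulAut.conj (π s)).toMonoidHom := by
          rw [closure_le]
          rintro _ ⟨i, rfl⟩
          rw [SetLike.mem_coe, mem_comap]
          change π s * π (s ^ (i : ℕ) * x₀ * (s ^ (i : ℕ))⁻¹) * (π s)⁻¹ ∈ _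
          have h4 : π s * π (s ^ (i : ℕ) * x₀ * (s ^ (i : ℕ))⁻¹) * (π s)⁻¹ =
              π s ^ ((i : ℕ) + 1) * π x₀ * (π s ^ ((i : ℕ) + 1))⁻¹ := by
            rw [map_mul, map_mul, map_inv, map_pow, pow_succ']
            group
          rw [h4]
          have h5 := i.2
          by_cases h6 : (i : ℕ) + 1 < 4
          · exact hmem _ h6
          · have h7 : (i : ℕ) + 1 = 4 := by omega
            rw [h7]
            exact hmem4
        exact fun x hx => h3 hx) with h | h
      · exfalso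
        have h1 := hmem 0 (by norm_num)
        rw [h, mem_bot, pow_zero, inv_one, mul_one, one_mul] at h1
        exact hx₀A ((hπ1 _).1 h1)
      · exact h
    set! K := centralizer (M : Set (G ⧸ A)) with hK
    have hKm : ∀ k, k ∈ K ↔ ∀ x ∈ M, k * x = x * k := by
      intro k
      rw [hK, mem_centralizer_iff]
      exact ⟨fun h x hx => (h x hx).symm, fun h x hx => (h x hx).symm⟩
    have hMK : M ≤ K := fun x hx => (hKm x).2 fun y hy => hMab x hx y hy
    let F : K → (Fin 4 → Bool) := fun k i => decide ((k : G ⧸ A).out * xx i = xx i * (k : G ⧸ A).out)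
    have hout : ∀ k : G ⧸ A, π k.out = k := fun k => QuotientGroup.out_eq' k
    have hF : Function.Injective F := by
      intro k l hkl
      have hcomm : ∀ k ∈ K, ∀ i, k.out * xx i = xx i * k.out ∨ k.out * xx i = z * (xx i * k.out) := by
        intro k hk i
        apply hcomA
        rw [hout]
        exact (hKm k).1 hk _ ⟨_, hxx i, rfl⟩
      set! g := (k : G ⧸ A).out with hg
      set! h := (l : G ⧸ A).out with hh
      have h1 : ∀ i, g⁻¹ * h * xx i = xx i * (g⁻¹ * h) := by
        intro i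
        have h2 : (g * xx i = xx i * g) ↔ (h * xx i = xx i * h) := by
          have := congrFun hkl i
          simpa only [F, decide_eq_decide] using this
        have h3 : g * xx i = xx i * g ∨ g * xx i = z * (xx i * g) := hcomm k k.2 i
        have h4 : h * xx i = xx i * h ∨ h * xx i = z * (xx i * h) := hcomm l l.2 i
        by_cases h5 : g * xx i = xx i * g
        · have h6 := h2.1 h5
          calc g⁻¹ * h * xx i = g⁻¹ * (h * xx i) := by group
            _ = g⁻¹ * (xx i * g) * (g⁻¹ * h) := by rw [h6]; group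
            _ = xx i * (g⁻¹ * h) := by rw [← h5]; group
        · have h7 : ¬ h * xx i = xx i * h := fun h => h5 (h2.2 h)
          have h8 := h3.resolve_left h5
          have h9 := h4.resolve_left h7
          calc g⁻¹ * h * xx i = g⁻¹ * (h * xx i) := by group
            _ = g⁻¹ * (z * (xx i * g)) * (g⁻¹ * h) := by rw [h9]; group
            _ = xx i * (g⁻¹ * h) := by rw [← h8]; group
      have h2 : g⁻¹ * h ∈ A := by
        apply hC
        have h3 : M ≤ (centralizer ({g⁻¹ * h} : Set G)).map π := by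
          rw [← hgen, closure_le]
          rintro _ ⟨i, rfl⟩
          exact ⟨xx i, by rw [SetLike.mem_coe, mem_centralizer_singleton_iff]; exact (h1 i).symm, rfl⟩
        rw [hM, Subgroup.map_le_map_iff, hπ, QuotientGroup.ker_mk'] at h3
        have h4 : A ≤ centralizer ({g⁻¹ * h} : Set G) := by
          intro a ha
          rw [mem_centralizer_singleton_iff]
          exact (hAc a ha _).symm
        rw [sup_eq_left.2 h4] at h3
        intro x hx
        exact (mem_centralizer_singleton_iff.1 (h3 hx)).symm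
      apply Subtype.ext
      rw [← hout k, ← hout l]
      have h3 := (hπ1 _).2 h2
      rw [map_mul, map_inv, inv_mul_eq_one] at h3
      exact h3
    have h1 : Nat.card K ≤ 16 := by
      have h2 := Nat.card_le_card_of_injective F hF
      rwa [Nat.card_eq_fintype_card (α := Fin 4 → Bool), Fintype.card_fun, Fintype.card_fin, Fintype.card_bool,
        show 2 ^ 4 = 16 from rfl] at h2
    have h2 : M = K := Subgroup.eq_of_le_of_card_ge hMK (by rw [hMc]; exact h1)
    intro g hg
    rw [h2]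
    exact (hKm g).2 hg
  -- the conclusion
  obtain ⟨x, y, hxy⟩ := core2 M hMn hMc hM2 hCM hs5' hfix (D a) haD (fun m hm => ⟨hm.1, hm.2.1⟩) (hDinv a ha)
  obtain ⟨x, rfl⟩ := hπs x
  obtain ⟨y, rfl⟩ := hπs y
  refine ⟨x, y, ?_⟩
  set! H := _root_.Subgroup.closure ({x, y} : Set G) with hH; rewrite [← hH]
  have hHmap : H.map π = ⊤ := by rw [hH, MonoidHom.map_closure, Set.image_pair]; exact hxy
  have hHA : ∀ g : G, ∃ h ∈ H, ∃ b ∈ A, g = h * b := by
    intro g
    have h1 : π g ∈ H.map π := by rw [hHmap]; exact mem_top _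
    obtain ⟨h, hh, hhg⟩ := h1
    refine ⟨h, hh, h⁻¹ * g, ?_, by group⟩
    rw [← hπ1, map_mul, map_inv, hhg, inv_mul_cancel]
  have hzH : z ∈ H := by
    push Not at hnab
    obtain ⟨u, hu, v, hv, huv⟩ := hnab
    have h1 := (hcomN u hu v hv).resolve_left huv
    obtain ⟨h, hh, b, hb, rfl⟩ := hHA u
    obtain ⟨k, hk, c, hc, rfl⟩ := hHA v
    have h2 : h * k = z * (k * h) := by
      have h3 : h * b * (k * c) = h * k * (b * c) := by
        calc h * b * (k * c) = h * (b * k) * c := by group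
          _ = h * k * (b * c) := by rw [← hAc b hb k]; group
      have h4 : z * (k * c * (h * b)) = z * (k * h) * (b * c) := by
        calc z * (k * c * (h * b)) = z * (k * (c * h) * b) := by group
          _ = z * (k * h) * (c * b) := by rw [← hAc c hc h]; group
          _ = z * (k * h) * (b * c) := by rw [hAc b hb c]
      rw [h3, h4] at h1
      exact mul_right_cancel h1
    have h3 : z = h * k * (k * h)⁻¹ := by rw [h2]; group
    rw [h3]
    exact mul_mem (mul_mem hh hk) (inv_mem (mul_mem hk hh))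
  rw [eq_top_iff]
  intro g _
  obtain ⟨h, hh, b, hb, rfl⟩ := hHA g
  refine mul_mem hh ?_
  rcases (hzA b).1 hb with rfl | rfl
  · exact one_mem _
  · exact hzH

end Core

/-- **`LinRows.ext32`.** -/
theorem row_ext32 : ∀ (V : Type u) [AddCommGroup V] [Module (ZMod 3) V] [Finite V]
    (G A : Subgroup (V ≃ₗ[ZMod 3] V)), (∀ v w : V, v ≠ 0 → w ≠ 0 → ∃ g ∈ G, g v = w) → MaxAb G A →
    finrank (ZMod 3) V = 4 → Nat.card A ≤ 2 → Nat.card G ∣ 32 * 120 →
    (∃ N ≤ ⁅G, G⁆, Nor G N ∧ Nat.card N = 32) → LGood G := by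
  intro V _ _ _ G A htr hA hd hA2 _ hN
  obtain ⟨N, hNG', hNn, hN⟩ := hN
  have hfin := finite_gl (p := 3) (V := V)
  have hnt : Nontrivial V := Module.nontrivial_of_finrank_pos (R := ZMod 3) (by omega)
  have hNG : N ≤ G := hNG'.trans (Subgroup.commutator_le.2 fun a ha b hb =>
    G.mul_mem (G.mul_mem (G.mul_mem ha hb) (G.inv_mem ha)) (G.inv_mem hb))
  -- `A` is central
  have hAc : ∀ a ∈ A, ∀ g ∈ G, g * a = a * g := by
    intro a ha g hg
    by_contra hne
    have h1 : g * a * g⁻¹ ∈ A := hA.nor g hg a ha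
    have h2 : g * a * g⁻¹ ≠ a := fun h => hne (mul_inv_eq_iff_eq_mul.1 h)
    have ha1 : a ≠ 1 := by
      rintro rfl
      exact hne (by rw [mul_one, one_mul])
    have h3 : g * a * g⁻¹ ≠ 1 := by
      intro h
      apply ha1
      have : a = g⁻¹ * (g * a * g⁻¹) * g := by group
      rw [this, h]
      group
    have h4 : ({1, a, g * a * g⁻¹} : Set (V ≃ₗ[ZMod 3] V)) ⊆ A := by
      rintro x (rfl | rfl | rfl)
      · exact A.one_mem
      · exact ha
      · exact h1
    have h5 := Set.ncard_le_ncard h4 (Set.toFinite _)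
    rw [Set.ncard_eq_three.2 ⟨1, a, _, ha1.symm, h3.symm, h2.symm, rfl⟩] at h5
    have h6 : (A : Set (V ≃ₗ[ZMod 3] V)).ncard = Nat.card A := rfl
    omega
  have hAc' : ∀ g ∈ G, g ∈ centralizer (A : Set (V ≃ₗ[ZMod 3] V)) := by
    intro g hg
    rw [mem_centralizer_iff]
    exact fun a ha => (hAc a ha g hg).symm
  -- `N` is not abelian
  have hna : ¬ Com N := by
    intro hc
    have h1 : N ⊔ A = A := by
      refine hA.max _ (sup_le hNG hA.le) (hNn.sup hA.nor) ?_ le_sup_right
      intro x hx y hy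
      obtain ⟨n, hn, a, ha, rfl⟩ := exists_mul_of_mem_sup (fun a ha l hl => (hAc a ha l (hNG hl)).symm) hx
      obtain ⟨n', hn', a', ha', rfl⟩ := exists_mul_of_mem_sup (fun a ha l hl => (hAc a ha l (hNG hl)).symm) hy
      have e1 := hAc a ha n' (hNG hn')
      have e2 := hAc a' ha' n (hNG hn)
      have e3 := hA.com a ha a' ha'
      calc n * a * (n' * a') = n * (a * n') * a' := by group
        _ = (n * n') * (a * a') := by rw [← e1]; group
        _ = (n' * n) * (a' * a) := by rw [hc n hn n' hn', e3]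
        _ = n' * (n * a') * a := by group
        _ = n' * a' * (n * a) := by rw [e2]; group
    have h2 := Subgroup.card_le_of_le (sup_eq_right.1 h1)
    omega
  have hNA : N ≤ centralizer (A : Set (V ≃ₗ[ZMod 3] V)) := fun n hn => hAc' n (hNG hn)
  have hcent := hA.centralizer_eq htr hNG hNn hna hNA
  -- the centre of `N`
  have hZA : N ⊓ centralizer (N : Set (V ≃ₗ[ZMod 3] V)) ≤ A := by
    rw [← hcent]
    exact inf_le_inf_right _ hNG
  have hZ1 : ∃ z ∈ N, z ≠ 1 ∧ z ∈ A := by
    have hP : IsPGroup 2 N := IsPGroup.of_card (n := 5) (by rw [hN]; norm_num)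
    have : Nontrivial N := Finite.one_lt_card_iff_nontrivial.1 (by rw [hN]; norm_num)
    have : Fact (Nat.Prime 2) := ⟨Nat.prime_two⟩
    have h1 := hP.center_nontrivial
    obtain ⟨z, hz⟩ := exists_ne (1 : center N)
    refine ⟨z, z.1.2, fun h => hz (Subtype.ext (Subtype.ext h)), hZA (mem_inf.2 ⟨z.1.2, ?_⟩)⟩
    rw [mem_centralizer_iff]
    intro n hn
    exact congrArg Subtype.val (mem_center_iff.1 z.2 ⟨n, hn⟩)
  obtain ⟨z, hzN, hz1, hzA⟩ := hZ1
  have hzsub : ({1, z} : Set (V ≃ₗ[ZMod 3] V)) ⊆ A := by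
    rintro x (rfl | rfl)
    · exact A.one_mem
    · exact hzA
  have hncA : (A : Set (V ≃ₗ[ZMod 3] V)).ncard = Nat.card A := rfl
  have hcA : Nat.card A = 2 := by
    have h5 := Set.ncard_le_ncard hzsub (Set.toFinite _)
    rw [Set.ncard_pair hz1.symm] at h5
    omega
  have hAeq : ({1, z} : Set (V ≃ₗ[ZMod 3] V)) = A :=
    Set.eq_of_subset_of_ncard_le hzsub (by rw [Set.ncard_pair hz1.symm, hncA, hcA]) (Set.toFinite _)
  have hAN : A ≤ N := by
    intro a ha
    have h1 : a ∈ ({1, z} : Set (V ≃ₗ[ZMod 3] V)) := by rw [hAeq]; exact ha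
    rcases h1 with rfl | h1
    · exact N.one_mem
    · rw [Set.mem_singleton_iff.1 h1]; exact hzN
  have hzz : z * z = 1 := by
    have h1 : z * z ∈ ({1, z} : Set (V ≃ₗ[ZMod 3] V)) := by rw [hAeq]; exact A.mul_mem hzA hzA
    rcases h1 with h1 | h1
    · exact h1
    · exact absurd (mul_eq_left.1 h1) hz1
  -- `z = -1`
  have hzneg : ∀ v : V, z v = -v := by
    have h1 : ∀ v : V, z v = v → v = 0 := by
      intro v hv
      by_contra hv0
      apply hz1
      ext w
      by_cases hw : w = 0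
      · rw [hw]; simp
      obtain ⟨g, hg, rfl⟩ := htr v w hv0 hw
      have h2 : (z * g) v = (g * z) v := by rw [hAc z hzA g hg]
      change z (g v) = g (z v) at h2
      rw [h2, hv]
      rfl
    intro v
    have h2 : z (z v) = v := by
      change (z * z) v = v
      rw [hzz]
      rfl
    have h3 := h1 (z v + v) (by rw [map_add, h2, add_comm])
    exact eq_neg_of_add_eq_zero_left h3
  -- an element of order 5
  have hcV : Nat.card V = 81 := by
    rw [Module.natCard_eq_pow_finrank (K := ZMod 3), hd, Nat.card_zmod]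
    norm_num
  have h5 : 5 ∣ Nat.card G := by
    refine Dvd.dvd.trans ?_ (card_sub_one_dvd htr)
    rw [hcV]
    norm_num
  have : Fact (Nat.Prime 5) := ⟨by norm_num⟩
  obtain ⟨s, hs⟩ := exists_prime_orderOf_dvd_card' (G := G) 5 h5
  refine ⟨?_, ?_⟩
  · refine core1 (N.subgroupOf G) (A.subgroupOf G) ⟨?_⟩ ⟨?_⟩ ?_ ?_ ?_ ?_ s hs
    · intro n hn g
      exact hNn g g.2 n hn
    · intro n hn g
      exact hA.nor g g.2 n hn
    · rw [Nat.card_congr (subgroupOfEquivOfLe hNG).toEquiv, hN]
    · rw [Nat.card_congr (subgroupOfEquivOfLe hA.le).toEquiv, hcA]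
    · intro x hx
      exact hAN hx
    · intro g hg
      rw [mem_subgroupOf, ← hcent]
      refine mem_inf.2 ⟨g.2, ?_⟩
      rw [mem_centralizer_iff]
      intro n hn
      exact (congrArg Subtype.val (hg ⟨n, hNG hn⟩ hn)).symm
  · refine Cfsg.Agent.H490.Der.small_of_neg (p := 3) (by norm_num) (by norm_num)
      (fun v => ZModModule.char_nsmul_eq_zero 3 v) (ε := ⟨z, hA.le hzA⟩) ?_ ?_ hzneg
    · intro g
      exact Subtype.ext (hAc z hzA g g.2).symm
    · rw [pow_two]
      exact Subtype.ext hzz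

end Cfsg.Agent.H487.Gen.Ext
end

-- part: H484/GenSpSix
section
/-!
# TEAM GEN: the row `sp` of `LinRows`, `Sp_4(2)` included (helper484)
-/

set_option autoImplicit false

namespace Cfsg.Agent.H484.GenSp

open Cfsg Cfsg.Agent.H137 Subgroup Cfsg.Agent.ClassicalGeometry.SympBasic Module
  Cfsg.Agent.H440.TwoGen Cfsg.Agent.H891.Gen Cfsg.Agent.H490.Der
open scoped Matrix

universe u

section

variable {F V : Type*} [Field F] [AddCommGroup V] [Module F V] {m : ℕ}

/-- the symplectic group acting on `V` -/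
noncomputable def th (e : V ≃ₗ[F] (Fin m ⊕ Fin m → F)) : Matrix.symplecticGroup (Fin m) F →* Equiv.Perm V where
  toFun A :=
    { toFun := fun v => e.symm (A.1 *ᵥ e v)
      invFun := fun v => e.symm ((A⁻¹).1 *ᵥ e v)
      left_inv := fun v => by
        have h : (A⁻¹).1 * A.1 = 1 := congrArg Subtype.val (inv_mul_cancel A)
        show e.symm ((A⁻¹).1 *ᵥ e (e.symm (A.1 *ᵥ e v))) = v
        rw [LinearEquiv.apply_symm_apply, Matrix.mulVec_mulVec, h, Matrix.one_mulVec, LinearEquiv.symm_apply_apply]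
      right_inv := fun v => by
        have h : A.1 * (A⁻¹).1 = 1 := congrArg Subtype.val (mul_inv_cancel A)
        show e.symm (A.1 *ᵥ e (e.symm ((A⁻¹).1 *ᵥ e v))) = v
        rw [LinearEquiv.apply_symm_apply, Matrix.mulVec_mulVec, h, Matrix.one_mulVec, LinearEquiv.symm_apply_apply] }
  map_one' := by
    ext v
    show e.symm ((1 : Matrix _ _ F) *ᵥ e v) = v
    rw [Matrix.one_mulVec, LinearEquiv.symm_apply_apply]
  map_mul' A B := by
    ext v
    show e.symm ((A.1 * B.1) *ᵥ e v) = e.symm (A.1 *ᵥ e (e.symm (B.1 *ᵥ e v)))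
    rw [LinearEquiv.apply_symm_apply, Matrix.mulVec_mulVec]

theorem th_apply (e : V ≃ₗ[F] (Fin m ⊕ Fin m → F)) (A : Matrix.symplecticGroup (Fin m) F) (v : V) :
    th e A v = e.symm (A.1 *ᵥ e v) := rfl

theorem th_injective (e : V ≃ₗ[F] (Fin m ⊕ Fin m → F)) : Function.Injective (th e) := by
  intro A B h
  apply Subtype.ext
  rw [← Matrix.mulVec_injective.eq_iff]
  funext x
  have h1 : th e A (e.symm x) = th e B (e.symm x) := by rw [h]
  rw [th_apply, th_apply, LinearEquiv.apply_symm_apply] at h1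
  exact e.symm.injective h1

theorem mem_range_th {f : V → V → F} {e : V ≃ₗ[F] (Fin m ⊕ Fin m → F)} (he : ∀ u v, sympForm m F (e u) (e v) = f u v)
    {g : Equiv.Perm V} : g ∈ (th e).range ↔ Semi f g 1 1 := by
  constructor
  · rintro ⟨A, rfl⟩
    refine ⟨fun u v => ?_, fun c v => ?_, fun u v => ?_⟩
    · rw [th_apply, th_apply, th_apply, map_add, Matrix.mulVec_add, map_add]
    · rw [th_apply, th_apply, map_smul, Matrix.mulVec_smul, map_smul]
      rfl
    · rw [one_mul, th_apply, th_apply, ← he, LinearEquiv.apply_symm_apply, LinearEquiv.apply_symm_apply]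
      have h := (mem_symplecticGroup_iff (A := A.1)).1 A.2 (e u) (e v)
      rw [h, he]
      rfl
  · intro h
    let g' : V →ₗ[F] V := { toFun := g, map_add' := h.add, map_smul' := h.smul }
    let L : (Fin m ⊕ Fin m → F) →ₗ[F] (Fin m ⊕ Fin m → F) := e.toLinearMap ∘ₗ g' ∘ₗ e.symm.toLinearMap
    have hL : ∀ x, L x = e (g (e.symm x)) := fun x => rfl
    refine ⟨⟨LinearMap.toMatrix' L, ?_⟩, ?_⟩
    · rw [mem_symplecticGroup_iff]
      intro u v
      rw [LinearMap.toMatrix'_mulVec, LinearMap.toMatrix'_mulVec, hL, hL, he, h.form, one_mul]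
      show f _ _ = _
      rw [← he, LinearEquiv.apply_symm_apply, LinearEquiv.apply_symm_apply]
    · ext v
      rw [th_apply, LinearMap.toMatrix'_mulVec, hL, LinearEquiv.symm_apply_apply, LinearEquiv.symm_apply_apply]

end

/-- the symmetric group of degree six, generated by a transposition and an element -/
theorem perm_six : ∃ a b : Equiv.Perm (Fin 6), _root_.Subgroup.closure ({a, b} : Set (Equiv.Perm (Fin 6))) = ⊤ ∧ a ^ 2 = 1 ∧ a ≠ 1 := by
  refine ⟨Equiv.swap 0 1, finRotate 6, ?_, ?_, ?_⟩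
  · have h1 : (finRotate 6).IsCycle := isCycle_finRotate
    have h2 : (finRotate 6).support = Finset.univ := support_finRotate
    have h3 := Equiv.Perm.closure_cycle_adjacent_swap h1 h2 (0 : Fin 6)
    have h4 : finRotate 6 (0 : Fin 6) = 1 := by decide
    rw [h4] at h3
    rw [Set.pair_comm]
    exact h3
  · rw [sq, Equiv.swap_mul_self]
  · decide

/-- a group isomorphic to the symmetric group of degree six -/
theorem lgood_of_perm_six {p : ℕ} [hp : Fact p.Prime] {V : Type u} [AddCommGroup V] [Module (ZMod p) V] [Finite V]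
    (hp2 : p = 2) {G : Subgroup (V ≃ₗ[ZMod p] V)} (e : ↥G ≃* Equiv.Perm (Fin 6)) : LGood G := by
  have hfin : Finite (V ≃ₗ[ZMod p] V) := Finite.of_injective (fun g => (g : V → V)) DFunLike.coe_injective
  obtain ⟨a, b, hab, ha2, ha1⟩ := perm_six
  have hcl : _root_.Subgroup.closure ({e.symm a, e.symm b} : Set ↥G) = ⊤ := by
    have h := MonoidHom.map_closure (e.symm : Equiv.Perm (Fin 6) →* ↥G) {a, b}
    rw [hab, Set.image_pair, Subgroup.map_top_of_surjective _ e.symm.surjective] at h
    exact h.symm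
  refine ⟨⟨_, _, hcl⟩, ?_⟩
  have h2 : ∀ v : V, 2 • v = 0 := by
    intro v
    have := nsmul_p p v
    rwa [hp2] at this
  obtain ⟨v, hv⟩ : ∃ v : V, e.symm a • v ≠ v := by
    by_contra hcon
    push Not at hcon
    apply ha1
    have h3 : e.symm a = 1 := by
      apply Subtype.ext
      ext v
      exact hcon v
    rw [← e.apply_symm_apply a, h3, map_one]
  refine small_of_involution h2 hcl ?_ hv
  rw [← map_pow, ha2, map_one]

/-- **The row `sp` of `LinRows`.** -/
theorem sp_row_full : ∀ (p : ℕ) [Fact p.Prime] (V : Type u) [AddCommGroup V] [Module (ZMod p) V] [Finite V]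
    (G : Subgroup (V ≃ₗ[ZMod p] V)) (F : Type) [Field F] [Fintype F] [Module F V] (f : LinearMap.BilinForm F V),
    2 < finrank F V → f.IsAlt → f.Nondegenerate →
    (∀ g ∈ G, ∃ (σ : F ≃+* F) (μ : F), (∀ (c : F) (v : V), g (c • v) = σ c • g v) ∧
      ∀ u v, f (g u) (g v) = μ * σ (f u v)) →
    (∀ g : V ≃ₗ[F] V, (∀ u v, f (g u) (g v) = f u v) → ∃ h ∈ G, ∀ v, h v = g v) → LGood G := by
  intro p hp V _ _ _ G F _ _ _ f h2 hf hn hG hSp
  have hfd : FiniteDimensional F V := Module.Finite.of_finite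
  obtain ⟨m, hm, e, he⟩ := exists_coord f hf hn
  by_cases h3 : finrank F V = 4 → 3 ≤ Fintype.card F
  · exact sp_row p V G F f (by omega) h3 hf hn hG hSp
  push Not at h3
  obtain ⟨h4, h5⟩ := h3
  have hq2 : 2 ≤ Fintype.card F := Fintype.one_lt_card
  have hq : Fintype.card F = 2 := by omega
  have hm2 : m = 2 := by omega
  subst hm2
  have hF : ∀ x : F, x = 0 ∨ x = 1 := by
    intro x
    have h6 := FiniteField.pow_card x
    rw [hq] at h6
    have h7 : x * (x - 1) = 0 := by linear_combination h6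
    rcases mul_eq_zero.1 h7 with h8 | h8
    · exact Or.inl h8
    · exact Or.inr (by linear_combination h8)
  have hnt : Nontrivial V := Module.nontrivial_of_finrank_pos (R := F) (by omega)
  have hp2 : p = 2 := by
    obtain ⟨v, hv⟩ := exists_ne (0 : V)
    have h6 := nsmul_p p v
    rw [← Nat.cast_smul_eq_nsmul F] at h6
    have h7 : (p : F) = 0 := (smul_eq_zero.1 h6).resolve_right hv
    have h8 : (2 : F) = 0 := by
      have h9 := FiniteField.cast_card_eq_zero F
      rw [hq] at h9
      exact_mod_cast h9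
    have hc : CharP F 2 := CharTwo.of_one_ne_zero_of_two_eq_zero one_ne_zero h8
    have h9 : 2 ∣ p := (CharP.cast_eq_zero_iff F 2 p).1 h7
    exact ((Nat.prime_dvd_prime_iff_eq Nat.prime_two hp.out).1 h9).symm
  have hmap : G.map toPm = (th e).range := by
    ext g
    rw [mem_range_th (f := fn f) he]
    constructor
    · rintro ⟨g, hg, rfl⟩
      obtain ⟨σ, μ, h6, h7⟩ := hG g hg
      have hμ : μ = 1 := by
        rcases hF μ with h | h
        · exfalso
          obtain ⟨v, hv⟩ := exists_ne (0 : V)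
          refine hv (hn.1 v fun w => ?_)
          have h8 := h7 (g.symm v) (g.symm w)
          rwa [LinearEquiv.apply_symm_apply, LinearEquiv.apply_symm_apply, h, zero_mul] at h8
        · exact h
      have hσ : σ = 1 := by
        ext x
        rcases hF x with h | h
        · rw [h, map_zero, map_zero]
        · rw [h, map_one, map_one]
      rw [hσ, hμ] at h7
      rw [hσ] at h6
      exact ⟨fun u v => map_add g u v, h6, h7⟩
    · intro hg
      let g' : V ≃ₗ[F] V :=
        { toFun := g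
          invFun := g.symm
          map_add' := hg.add
          map_smul' := hg.smul
          left_inv := g.left_inv
          right_inv := g.right_inv }
      obtain ⟨h, hh, h1⟩ := hSp g' (fun u v => by
        have := hg.form u v
        rw [one_mul] at this
        exact this)
      exact ⟨h, hh, Equiv.ext h1⟩
  obtain ⟨E6⟩ := Cfsg.Agent.S0247.result hq
  exact lgood_of_perm_six hp2 ((G.equivMapOfInjective toPm toPm_injective).trans
    ((MulEquiv.subgroupCongr hmap).trans ((MonoidHom.ofInjective (th_injective e)).symm.trans E6)))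

end Cfsg.Agent.H484.GenSp
end

-- part: H490/AffL
section
/-!
# TEAM GEN: the affine step in the language of `LGood` (helper490)
-/

set_option autoImplicit false

namespace Cfsg.Agent.H490.AffL

open Cfsg.Agent.H440.TwoGen Cfsg.Agent.H891.Gen Cfsg.Agent.H490.Der Subgroup MulAction

universe u v

/-- the underlying permutation -/
def toP {p : ℕ} {V : Type u} [AddCommGroup V] [Module (ZMod p) V] : (V ≃ₗ[ZMod p] V) →* Equiv.Perm V where
  toFun g := g.toEquiv
  map_one' := rfl
  map_mul' _ _ := rfl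

/-- `LGood` of the linear group gives `AffGood` of the same group of permutations. -/
theorem affGood_of_lgood {p : ℕ} [Fact p.Prime] {V : Type u} [AddCommGroup V] [Module (ZMod p) V] [Finite V]
    {H : Subgroup (Equiv.Perm V)} (hadd : ∀ h ∈ H, ∀ v w : V, h (v + w) = h v + h w)
    {G : Subgroup (V ≃ₗ[ZMod p] V)} (hG : ∀ g : V ≃ₗ[ZMod p] V, g ∈ G ↔ (g.toEquiv : Equiv.Perm V) ∈ H)
    (h : LGood G) : AffGood H := by
  obtain ⟨⟨x, y, hxy⟩, hs⟩ := h
  let Φ : (V ≃ₗ[ZMod p] V) →* Equiv.Perm V := toP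
  have hlift : ∀ h ∈ H, ∃ g : V ≃ₗ[ZMod p] V, Φ g = h := by
    intro h hh
    let f : V →+ V := { toFun := h, map_zero' := by
                          have := hadd h hh 0 0
                          rw [add_zero] at this
                          exact add_eq_left.1 this.symm, map_add' := hadd h hh }
    exact ⟨LinearEquiv.ofBijective (AddMonoidHom.toZModLinearMap p f) h.bijective, Equiv.ext fun v => rfl⟩
  have hmap : G.map Φ = H := by
    apply le_antisymm
    · rintro _ ⟨g, hg, rfl⟩
      exact (hG g).1 hg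
    · intro h hh
      obtain ⟨g, rfl⟩ := hlift h hh
      exact ⟨g, (hG g).2 hh, rfl⟩
  have hcl : _root_.Subgroup.closure ({Φ x, Φ y} : Set (Equiv.Perm V)) = H := by
    rw [← hmap, ← Set.image_pair, ← MonoidHom.map_closure]
    congr 1
    have h1 : (⊤ : Subgroup ↥G).map G.subtype = G := by
      rw [← MonoidHom.range_eq_map, Subgroup.range_subtype]
    conv_rhs => rw [← h1, ← hxy, MonoidHom.map_closure, Set.image_pair]
    rfl
  have hfin : Finite ↥G := by
    have : Finite (V ≃ₗ[ZMod p] V) := Finite.of_injective (fun g => (g : V → V)) DFunLike.coe_injective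
    infer_instance
  obtain ⟨v, w, hvw⟩ := exists_pair hs x y
  refine ⟨Φ x, Φ y, hcl, v, w, ?_⟩
  rintro ⟨z, hz, hzx, hzy⟩
  refine hvw ⟨fun g => z (Φ g), ?_, hzx, hzy⟩
  intro g g'
  have := hz (Φ g) ((hG g).1 g.2) (Φ g') ((hG g').1 g'.2)
  show z (Φ (g * g')) = z (Φ g) + g • z (Φ g')
  rw [map_mul, this]
  rfl

theorem affGood_of_lin {p : ℕ} [Fact p.Prime] {V : Type u} [AddCommGroup V] [Module (ZMod p) V] [Finite V]
    (H : Subgroup (Equiv.Perm V)) (hL : Lin p H)
    (rows : ∀ G : Subgroup (V ≃ₗ[ZMod p] V), (∀ v w : V, v ≠ 0 → w ≠ 0 → ∃ g ∈ G, g v = w) → LGood G) : AffGood H := by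
  refine affGood_of_lgood (p := p) hL.add (G := H.comap toP) (fun g => Iff.rfl) (rows _ ?_)
  intro v w hv hw
  obtain ⟨h, hh, hvw⟩ := hL.trans v w hv hw
  let f : V →+ V := { toFun := h, map_zero' := by
                        have := hL.add h hh 0 0
                        rw [add_zero] at this
                        exact add_eq_left.1 this.symm, map_add' := hL.add h hh }
  have h1 : toP (LinearEquiv.ofBijective (AddMonoidHom.toZModLinearMap p f) h.bijective) = h := Equiv.ext fun v => rfl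
  exact ⟨_, by rw [mem_comap, h1]; exact hh, hvw⟩

end Cfsg.Agent.H490.AffL
end

-- part: H500/Gen/Semi
section
/-!
# `LinRows.semi` (helper500, TEAM GEN piece B)

* `small_of_pair` : if `a`, `b` generate the group and some pair `(v, w)` is not the pair of values of a derivation at
  `a`, `b` then `Small`;
* `lgood_of_affGood` : `AffGood` of the permutation group gives `LGood`;
* `lrSemi` : the field `semi` of `H891.Gen.LinRows`.
-/

set_option autoImplicit false

namespace Cfsg.Agent.H500.Gen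

open Subgroup Cfsg.Agent.H891.Gen Cfsg.Agent.H440.TwoGen Cfsg.Agent.H50.Her Module

universe u

section Pair

variable {H V : Type*} [Group H] [AddCommGroup V] [DistribMulAction H V]

theorem der_one {z : H → V} (hz : ∀ g h : H, z (g * h) = z g + g • z h) : z 1 = 0 := by
  have h := hz 1 1
  rw [mul_one, one_smul] at h
  exact add_eq_left.1 h.symm

theorem der_inv {z : H → V} (hz : ∀ g h : H, z (g * h) = z g + g • z h) (g : H) : z g⁻¹ = - (g⁻¹ • z g) := by
  have h := hz g⁻¹ g
  rw [inv_mul_cancel, der_one hz] at h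
  exact eq_neg_of_add_eq_zero_left h.symm

/-- a derivation is determined by its values on generators -/
theorem der_ext {S : Set H} (hS : closure S = ⊤) {z z' : H → V} (hz : ∀ g h : H, z (g * h) = z g + g • z h)
    (hz' : ∀ g h : H, z' (g * h) = z' g + g • z' h) (h : ∀ s ∈ S, z s = z' s) : z = z' := by
  funext g
  have hg : g ∈ _root_.Subgroup.closure S := hS ▸ mem_top g
  induction hg using Subgroup.closure_induction with
  | mem x hx => exact h x hx
  | one => rw [der_one hz, der_one hz']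
  | mul x y _ _ ihx ihy => rw [hz, hz', ihx, ihy]
  | inv x _ ihx => rw [der_inv hz, der_inv hz', ihx]

theorem small_of_pair [Finite V] {a b : H} (hcl : _root_.Subgroup.closure ({a, b} : Set H) = ⊤) (v w : V)
    (h : ∀ z : H → V, (∀ g h : H, z (g * h) = z g + g • z h) → z a = v → z b = w → False) : Small H V := by
  let f : {z : H → V // ∀ g h : H, z (g * h) = z g + g • z h} → V × V := fun z => (z.1 a, z.1 b)
  have hinj : Function.Injective f := by
    intro z z' hzz
    have h1 : z.1 a = z'.1 a := congrArg Prod.fst hzz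
    have h2 : z.1 b = z'.1 b := congrArg Prod.snd hzz
    apply Subtype.ext
    apply der_ext hcl z.2 z'.2
    rintro s (rfl | hs)
    · exact h1
    · rw [Set.mem_singleton_iff] at hs
      subst hs
      exact h2
  have hns : ¬ Function.Surjective f := by
    intro hs
    obtain ⟨z, hz⟩ := hs (v, w)
    exact h z.1 z.2 (congrArg Prod.fst hz) (congrArg Prod.snd hz)
  have : Finite {z : H → V // ∀ g h : H, z (g * h) = z g + g • z h} := Finite.of_injective f hinj
  have h3 : Nat.card {z : H → V // ∀ g h : H, z (g * h) = z g + g • z h} < Nat.card (V × V) := by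
    refine lt_of_le_of_ne (Nat.card_le_card_of_injective f hinj) ?_
    intro h4
    exact hns ((Nat.bijective_iff_injective_and_card f).2 ⟨hinj, h4⟩).2
  rw [Nat.card_prod, ← pow_two] at h3
  exact h3

end Pair

section Lin

variable {p : ℕ} [hp : Fact p.Prime] {V : Type u} [AddCommGroup V] [Module (ZMod p) V]

/-- linear automorphisms as permutations -/
def permHom : (V ≃ₗ[ZMod p] V) →* Equiv.Perm V where
  toFun g := g.toEquiv
  map_one' := rfl
  map_mul' _ _ := rfl

@[simp] theorem permHom_apply (g : V ≃ₗ[ZMod p] V) (v : V) : permHom g v = g v := rfl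

theorem permHom_injective : Function.Injective (permHom : (V ≃ₗ[ZMod p] V) →* Equiv.Perm V) := by
  intro g h hgh
  ext v
  exact congrArg (fun k : Equiv.Perm V => k v) hgh

theorem lgood_of_affGood [Finite V] {G : Subgroup (V ≃ₗ[ZMod p] V)} (h : AffGood (G.map permHom)) : LGood G := by
  obtain ⟨a', b', hcl, v, w, hvw⟩ := h
  have ha' : a' ∈ G.map permHom := hcl ▸ _root_.Subgroup.subset_closure (by simp)
  have hb' : b' ∈ G.map permHom := hcl ▸ _root_.Subgroup.subset_closure (by simp)
  obtain ⟨a, ha, rfl⟩ := ha'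
  obtain ⟨b, hb, rfl⟩ := hb'
  have hcl' : _root_.Subgroup.closure ({⟨a, ha⟩, ⟨b, hb⟩} : Set ↥G) = ⊤ := by
    apply Subgroup.map_injective (f := (permHom : (V ≃ₗ[ZMod p] V) →* Equiv.Perm V).comp G.subtype)
    · intro x y hxy
      exact Subtype.ext (permHom_injective hxy)
    · rw [MonoidHom.map_closure, Set.image_pair, ← Subgroup.map_map, ← MonoidHom.range_eq_map, Subgroup.range_subtype]
      exact hcl
  refine ⟨⟨_, _, hcl'⟩, small_of_pair hcl' v w ?_⟩
  intro z hz hza hzb
  classical
  apply hvw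
  -- extend `z`
  have hpre : ∀ g : Equiv.Perm V, g ∈ G.map permHom → ∃ x : ↥G, permHom (x : V ≃ₗ[ZMod p] V) = g := by
    rintro _ ⟨x, hx, rfl⟩
    exact ⟨⟨x, hx⟩, rfl⟩
  choose! r hr using hpre
  have hr' : ∀ x : ↥G, r (permHom (x : V ≃ₗ[ZMod p] V)) = x := by
    intro x
    apply Subtype.ext
    exact permHom_injective (hr _ ⟨x, x.2, rfl⟩)
  refine ⟨fun g => z (r g), ?_, ?_, ?_⟩
  · rintro _ ⟨g, hg, rfl⟩ _ ⟨k, hk, rfl⟩
    have h1 := hr' ⟨g, hg⟩
    have h2 := hr' ⟨k, hk⟩
    have h3 := hr' (⟨g, hg⟩ * ⟨k, hk⟩)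
    change z (r (permHom g * permHom k)) = z (r (permHom g)) + permHom g (z (r (permHom k)))
    rw [← map_mul]
    have h4 : r (permHom (g * k)) = ⟨g, hg⟩ * ⟨k, hk⟩ := h3
    have h5 : r (permHom g) = ⟨g, hg⟩ := h1
    have h6 : r (permHom k) = ⟨k, hk⟩ := h2
    rw [h4, h5, h6, hz]
    rfl
  · change z (r (permHom a)) = v
    have h1 : r (permHom a) = ⟨a, ha⟩ := hr' ⟨a, ha⟩
    rw [h1, hza]
  · change z (r (permHom b)) = w
    have h1 : r (permHom b) = ⟨b, hb⟩ := hr' ⟨b, hb⟩
    rw [h1, hzb]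

end Lin

/-- **`LinRows.semi`** -/
theorem lrSemi : ∀ (p : ℕ) [Fact p.Prime] (V : Type u) [AddCommGroup V] [Module (ZMod p) V] [Finite V] [Nontrivial V]
    (G : Subgroup (V ≃ₗ[ZMod p] V)), (∀ v w : V, v ≠ 0 → w ≠ 0 → ∃ g ∈ G, g v = w) → SemiOut p V G → LGood G := by
  intro p hp V _ _ _ _ G htr hS
  obtain ⟨F, _, _, e, h⟩ := hS
  apply lgood_of_affGood
  refine one V p (G.map permHom) ⟨inferInstance, hp.out, ?_, ?_, ?_, ?_⟩ F e ?_
  · rintro _ ⟨g, hg, rfl⟩ v w
    exact map_add g v w
  · intro v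
    have h1 : ((p : ZMod p) • v) = 0 := by
      rw [ZMod.natCast_self, zero_smul]
    rwa [Nat.cast_smul_eq_nsmul] at h1
  · exact exists_ne 0
  · intro v w hv hw
    obtain ⟨g, hg, hgv⟩ := htr v w hv hw
    exact ⟨permHom g, ⟨g, hg, rfl⟩, hgv⟩
  · rintro _ ⟨g, hg, rfl⟩
    exact h g hg

end Cfsg.Agent.H500.Gen
end

-- part: H500/Gen/SpRow
section
/-!
# `ASRows.sp` (helper500, TEAM GEN piece O)

`Out(PSp_{2m}(2)) = 1` for `m ≥ 3` (S0814), so `G = T`, which is 2-generated (S2411).
-/

set_option autoImplicit false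

namespace Cfsg.Agent.H500.Gen

open Subgroup Cfsg.Agent.H891.Gen Cfsg.Agent.H440.TwoGen Cfsg.Agent.H384.TwoTrans

universe u v

/-- **`ASRows.sp`** -/
theorem asSp : ∀ (G : Type u) (Ω : Type v) [Group G] [MulAction G Ω] (T : Subgroup G), AS G Ω T →
    ∀ (F : Type) [Field F] [Fintype F] (m : ℕ), Fintype.card F = 2 → 3 ≤ m → Nonempty (↥T ≃* Cfsg.PSp m F) →
      TwoGen G := by
  intro G Ω _ _ T A F _ _ m hF hm ⟨e⟩
  have h2 : Fact (Nat.Prime 2) := ⟨Nat.prime_two⟩
  have hfin := A.finG
  have hfinT : Finite T := inferInstance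
  have hfinM : Finite (Cfsg.PSp m F) := Finite.of_equiv T e.toEquiv
  have hs := A.simple
  have hc := S0814.result (F := F) 2 1 le_rfl (by rw [hF]; norm_num) m (by omega) (by omega)
  rw [if_neg (by omega)] at hc
  have hc' : Nat.card (MulAut (Cfsg.PSp m F)) = Nat.card (Cfsg.PSp m F) := by
    rw [hc]
    norm_num
  have hinj : Function.Injective (MulAut.conj : Cfsg.PSp m F →* MulAut (Cfsg.PSp m F)) := by
    rw [injective_iff_map_eq_one]
    intro a ha
    obtain ⟨t, rfl⟩ := e.surjective a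
    have h1 : ∀ s : T, t * s = s * t := by
      intro s
      have h3 := congrArg (fun f : MulAut (Cfsg.PSp m F) => f (e s)) ha
      have h4 : e t * e s * (e t)⁻¹ = e s := h3
      apply e.injective
      rw [map_mul, map_mul]
      calc e t * e s = e t * e s * (e t)⁻¹ * e t := by group
        _ = e s * e t := by rw [h4]
    have h5 : (t : G) ∈ centralizer (T : Set G) := by
      rw [mem_centralizer_iff]
      intro s hs
      exact (congrArg Subtype.val (h1 ⟨s, hs⟩)).symm
    rw [A.cent, mem_bot] at h5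
    have h6 : t = 1 := Subtype.ext h5
    rw [h6, map_one]
  have hsurj := ((Nat.bijective_iff_injective_and_card _).2 ⟨hinj, hc'.symm⟩).2
  exact Cfsg.Agent.H487.Gen.twoGen_of_inner A.normal A.cent e (fun φ => hsurj φ) (S2411.result m (by omega) (by omega))

end Cfsg.Agent.H500.Gen
end

-- part: H500/Gen/TwoHom
section
/-!
# The 2-homogeneous groups which are not 2-transitive (helper500, TEAM GEN piece B)

* `twoGen_affine` : a group of semiaffine permutations of a finite field containing all translations, such that the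
  stabiliser of `0` is transitive on the non-zero elements up to sign, is generated by two elements;
* `notTwo` : the row `H487.Gen.NotTwo` (2-homogeneous, not 2-transitive groups are 2-generated).
-/

set_option autoImplicit false

namespace Cfsg.Agent.H500.Gen

open Subgroup Cfsg.Agent.H891.Gen Cfsg.Agent.H440.TwoGen
open scoped Pointwise

universe u

theorem twoGen_of_closure {G : Type*} [Group G] {H : Subgroup G} {x y : G} (h : _root_.Subgroup.closure ({x, y} : Set G) = H) :
    TwoGen ↥H := by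
  have hx : x ∈ H := h ▸ _root_.Subgroup.subset_closure (by simp)
  have hy : y ∈ H := h ▸ _root_.Subgroup.subset_closure (by simp)
  refine ⟨⟨x, hx⟩, ⟨y, hy⟩, ?_⟩
  apply Subgroup.map_injective H.subtype_injective
  rw [MonoidHom.map_closure, Set.image_pair, ← MonoidHom.range_eq_map, Subgroup.range_subtype]
  exact h

section Affine

variable {F : Type*} [Field F]

/-- translation -/
def tr (b : F) : Equiv.Perm F := Equiv.addRight b

@[simp] theorem tr_apply (b x : F) : tr b x = x + b := rfl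

theorem tr_inv_apply (b x : F) : (tr b)⁻¹ x = x - b := by
  apply (tr b).injective
  have : tr b ((tr b)⁻¹ x) = x := by simp
  rw [this, tr_apply]
  ring

theorem tr_neg (b : F) : tr (-b) = (tr b)⁻¹ := by
  ext x
  rw [tr_apply, tr_inv_apply]
  ring

/-- the elements of `G` fixing `0` -/
def stab0 (G : Subgroup (Equiv.Perm F)) : Subgroup (Equiv.Perm F) where
  carrier := {g | g ∈ G ∧ g 0 = 0}
  one_mem' := ⟨one_mem G, rfl⟩
  mul_mem' := by
    rintro g h ⟨hg, hg0⟩ ⟨hh, hh0⟩
    exact ⟨mul_mem hg hh, by rw [Equiv.Perm.mul_apply, hh0, hg0]⟩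
  inv_mem' := by
    rintro g ⟨hg, hg0⟩
    refine ⟨inv_mem hg, ?_⟩
    apply g.injective
    have : g (g⁻¹ 0) = 0 := by simp only [_root_.Equiv.Perm.coe_inv, _root_.Equiv.apply_symm_apply]
    rw [this, hg0]

/-- A group of semiaffine permutations of a finite field containing all translations, such that the stabiliser of `0`
is transitive on the non-zero elements up to sign, is 2-generated. -/
theorem twoGen_affine [Finite F] (G : Subgroup (Equiv.Perm F))
    (hG : ∀ g ∈ G, ∃ (c : F) (σ : F ≃+* F) (b : F), ∀ x, g x = c * σ x + b) (hT : ∀ b, tr b ∈ G)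
    (hH : ∀ d : F, d ≠ 0 → ∃ h ∈ G, h 0 = 0 ∧ (h 1 = d ∨ h 1 = -d)) : TwoGen ↥G := by
  have hsemi : ∀ h ∈ stab0 G, ∃ (c : F) (σ : F ≃+* F), ∀ v, (AddEquiv.refl F) (h v) = c * σ ((AddEquiv.refl F) v) := by
    rintro h ⟨hh, hh0⟩
    obtain ⟨c, σ, b, hb⟩ := hG h hh
    have h1 := hb 0
    rw [hh0, map_zero, mul_zero, zero_add] at h1
    refine ⟨c, σ, fun v => ?_⟩
    change h v = c * σ v
    rw [hb, ← h1, add_zero]
  -- elements of `H` are additive
  have hadd : ∀ h ∈ stab0 G, ∀ x y, h (x + y) = h x + h y := by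
    intro h hh x y
    obtain ⟨c, σ, hc⟩ := hsemi h hh
    have hc' : ∀ v, h v = c * σ v := hc
    rw [hc', hc', hc', map_add]
    ring
  have hneg : ∀ h ∈ stab0 G, ∀ x, h (-x) = - h x := by
    intro h hh x
    have h1 := hadd h hh x (-x)
    rw [add_neg_cancel, hh.2] at h1
    exact (neg_eq_of_add_eq_zero_right h1.symm).symm
  obtain ⟨a, ha, b, hb, hcl, ⟨c, hc⟩, hz⟩ := struct (AddEquiv.refl F) (stab0 G) hsemi
  have hc' : ∀ v, a v = c * v := hc
  -- the criterion
  have key : ∀ K : Subgroup (Equiv.Perm F), K ≤ G → (∃ k ∈ K, ∃ e, ∀ y, k y = a y + e) →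
      (∃ k ∈ K, ∃ e, ∀ y, k y = b y + e) → (∃ d, d ≠ 0 ∧ tr d ∈ K) → K = G := by
    rintro K hKG hka hkb ⟨d, hd, hdK⟩
    have hcov : ∀ x ∈ _root_.Subgroup.closure ({a, b} : Set (Equiv.Perm F)), x ∈ stab0 G ∧ ∃ k ∈ K, ∃ e, ∀ y, k y = x y + e := by
      intro x hx
      induction hx using closure_induction with
      | mem y hy =>
        rcases hy with rfl | hy
        · exact ⟨ha, hka⟩
        · rw [Set.mem_singleton_iff] at hy
          subst hy
          exact ⟨hb, hkb⟩
      | one => exact ⟨one_mem _, 1, one_mem _, 0, fun y => by simp⟩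
      | mul x y _ _ ihx ihy =>
        obtain ⟨hx, k, hk, e, hke⟩ := ihx
        obtain ⟨hy, l, hl, f, hlf⟩ := ihy
        refine ⟨mul_mem hx hy, k * l, mul_mem hk hl, x f + e, fun z => ?_⟩
        rw [Equiv.Perm.mul_apply, Equiv.Perm.mul_apply, hlf, hke, hadd x hx]
        ring
      | inv x _ ihx =>
        obtain ⟨hx, k, hk, e, hke⟩ := ihx
        refine ⟨inv_mem hx, k⁻¹, inv_mem hk, -(x⁻¹ e), fun z => ?_⟩
        apply k.injective
        have h1 : k (k⁻¹ z) = z := by simp
        have h2 : x (x⁻¹ z) = z := by simp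
        have h3 : x (x⁻¹ e) = e := by simp
        rw [h1, hke, hadd x hx, hneg x hx, h2, h3]
        ring
    rw [hcl] at hcov
    have hTK : ∀ y, tr y ∈ K := by
      intro y
      by_cases hy : y = 0
      · subst hy
        have : tr (0 : F) = 1 := by ext x; simp
        rw [this]
        exact one_mem K
      obtain ⟨h, hh, hh0, h1⟩ := hH y hy
      obtain ⟨h', hh', hh'0, h1'⟩ := hH d hd
      have hm : h ∈ stab0 G := ⟨hh, hh0⟩
      have hm' : h' ∈ stab0 G := ⟨hh', hh'0⟩
      have hm'' : h * h'⁻¹ ∈ stab0 G := mul_mem hm (inv_mem hm')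
      have h2 : (h * h'⁻¹) d = y ∨ (h * h'⁻¹) d = -y := by
        have h3 : h'⁻¹ d = 1 ∨ h'⁻¹ d = -1 := by
          rcases h1' with h1' | h1'
          · left
            apply h'.injective
            rw [h1']
            simp
          · right
            apply h'.injective
            rw [hneg h' hm', h1', neg_neg]
            simp
        rw [Equiv.Perm.mul_apply]
        rcases h3 with h3 | h3
        · rw [h3]
          exact h1
        · rw [h3, hneg h hm]
          rcases h1 with h1 | h1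
          · right; rw [h1]
          · left; rw [h1, neg_neg]
      obtain ⟨-, k, hk, e, hke⟩ := hcov _ hm''
      have h4 : k * tr d * k⁻¹ = tr ((h * h'⁻¹) d) := by
        ext x
        have h5 : k (k⁻¹ x) = x := by simp
        rw [hke] at h5
        rw [Equiv.Perm.mul_apply, Equiv.Perm.mul_apply, tr_apply, tr_apply, hke, hadd _ hm'']
        linear_combination h5
      have h6 : tr ((h * h'⁻¹) d) ∈ K := h4 ▸ mul_mem (mul_mem hk hdK) (inv_mem hk)
      rcases h2 with h2 | h2
      · rwa [h2] at h6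
      · rw [h2, tr_neg] at h6
        exact inv_mem_iff.1 h6
    apply le_antisymm hKG
    intro g hg
    have h1 : (tr (g 0))⁻¹ * g ∈ stab0 G := by
      refine ⟨mul_mem (inv_mem (hT _)) hg, ?_⟩
      rw [Equiv.Perm.mul_apply, tr_inv_apply, sub_self]
    obtain ⟨-, k, hk, e, hke⟩ := hcov _ h1
    have h2 : g = tr (g 0) * ((tr e)⁻¹ * k) := by
      ext x
      rw [Equiv.Perm.mul_apply, Equiv.Perm.mul_apply, tr_apply, tr_inv_apply, hke, Equiv.Perm.mul_apply, tr_inv_apply]
      ring
    rw [h2]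
    exact mul_mem (hTK _) (mul_mem (inv_mem (hTK _)) hk)
  by_cases h1 : a = 1
  · apply twoGen_of_closure (x := tr 1) (y := b)
    apply key
    · rw [closure_le]
      rintro x (rfl | hx)
      · exact hT 1
      · rw [Set.mem_singleton_iff] at hx
        subst hx
        exact hb.1
    · exact ⟨1, one_mem _, 0, fun y => by rw [h1]; simp⟩
    · exact ⟨b, _root_.Subgroup.subset_closure (by simp), 0, fun y => by simp⟩
    · exact ⟨1, one_ne_zero, _root_.Subgroup.subset_closure (by simp)⟩
  · apply twoGen_of_closure (x := a) (y := tr 1 * b)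
    have haK : a ∈ _root_.Subgroup.closure ({a, tr 1 * b} : Set (Equiv.Perm F)) := _root_.Subgroup.subset_closure (by simp)
    have hbK : tr 1 * b ∈ closure ({a, tr 1 * b} : Set (Equiv.Perm F)) := _root_.Subgroup.subset_closure (by simp)
    apply key
    · rw [closure_le]
      rintro x (rfl | hx)
      · exact ha.1
      · rw [Set.mem_singleton_iff] at hx
        subst hx
        exact mul_mem (hT 1) hb.1
    · exact ⟨a, haK, 0, fun y => by simp⟩
    · exact ⟨_, hbK, 1, fun y => by simp⟩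
    · obtain ⟨d, σ, hd⟩ := hsemi b hb
      have h2 := conj_homothety hc hd
      have h2' : ∀ v, (b * a * b⁻¹) v = σ c * v := h2
      have h3 : b * a * b⁻¹ ∈ stab0 G := mul_mem (mul_mem hb ha) (inv_mem hb)
      have h4 : b * a * b⁻¹ ∈ _root_.Subgroup.closure ({a, tr 1 * b} : Set (Equiv.Perm F)) :=
        (zpowers_le.2 haK) (hz _ h3 ⟨_, h2⟩)
      refine ⟨1 - σ c, ?_, ?_⟩
      · intro h
        apply h1
        have h5 : σ c = σ 1 := by rw [map_one]; linear_combination -h
        have h6 := σ.injective h5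
        ext v
        rw [hc', h6, one_mul, Equiv.Perm.one_apply]
      · have h5 : tr (1 - σ c) = (tr 1 * b) * a * (tr 1 * b)⁻¹ * (b * a * b⁻¹)⁻¹ := by
          rw [eq_mul_inv_iff_mul_eq]
          ext x
          have h6 : (tr (1 : F) * b * a * (tr (1 : F) * b)⁻¹ : Equiv.Perm F) x =
              (tr (1 : F)) ((b * a * b⁻¹) ((tr (1 : F))⁻¹ x)) := by
            rw [mul_inv_rev]
            simp only [Equiv.Perm.mul_apply]
          rw [h6, h2', Equiv.Perm.mul_apply, h2', tr_apply, tr_apply, tr_inv_apply]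
          ring
        rw [h5]
        exact mul_mem (mul_mem (mul_mem hbK haK) (inv_mem hbK)) (inv_mem h4)

end Affine

/-- **Row `NotTwo`**: 2-homogeneous groups which are not 2-transitive are 2-generated. -/
theorem notTwo (α : Type u) [Fintype α] [DecidableEq α] (G : Subgroup (Equiv.Perm α)) (hne : G ≠ ⊥)
    (h2 : MulAction.IsPretransitive G (Set.powersetCard α 2)) (hn2 : ¬ MulAction.IsMultiplyPretransitive G α 2) :
    TwoGen ↥G := by
  obtain ⟨-, p, f, hp, hp2, hcard, h34, e, he, hT⟩ := S0737.result G hne h2 hn2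
  have hf : f ≠ 0 := by
    rintro rfl
    norm_num at h34
  have : Finite (GaloisField p f) := Finite.of_equiv α e
  -- transport to the field
  let φ : Equiv.Perm α ≃* Equiv.Perm (GaloisField p f) := e.permCongrHom
  have hφ : ∀ (g : Equiv.Perm α) (x : GaloisField p f), φ g x = e (g (e.symm x)) := fun g x => rfl
  let G' : Subgroup (Equiv.Perm (GaloisField p f)) := G.map φ.toMonoidHom
  have hequiv : ↥G ≃* ↥G' := φ.subgroupMap G
  refine TwoGen.of_equiv hequiv.symm (twoGen_affine G' ?_ ?_ ?_)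
  · rintro _ ⟨g, hg, rfl⟩
    obtain ⟨c, b, σ, h⟩ := he ⟨g, hg⟩
    refine ⟨c, σ, b, fun x => ?_⟩
    exact h x
  · intro b
    obtain ⟨g, hg⟩ := hT b
    refine ⟨g, g.2, ?_⟩
    ext x
    change e ((g : Equiv.Perm α) (e.symm x)) = x + b
    rw [hg, e.apply_symm_apply]
  · intro d hd
    have h01 : e.symm 0 ≠ e.symm 1 := fun h => zero_ne_one (e.symm.injective h)
    have h0d : e.symm 0 ≠ e.symm d := fun h => hd (e.symm.injective h).symm
    obtain ⟨g, hg⟩ := h2.exists_smul_eq (⟨{e.symm 0, e.symm 1}, by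
      rw [Set.powersetCard.mem_iff, Finset.card_pair h01]⟩ : Set.powersetCard α 2)
      (⟨{e.symm 0, e.symm d}, by rw [Set.powersetCard.mem_iff, Finset.card_pair h0d]⟩ : Set.powersetCard α 2)
    have hg' : ∀ x ∈ ({e.symm 0, e.symm 1} : Finset α), (g : Equiv.Perm α) x ∈ ({e.symm 0, e.symm d} : Finset α) := by
      intro x hx
      have h3 : g • ({e.symm 0, e.symm 1} : Finset α) = {e.symm 0, e.symm d} := congrArg Subtype.val hg
      rw [← h3]
      exact Finset.mem_smul_finset.2 ⟨x, hx, rfl⟩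
    have hg0 := hg' (e.symm 0) (by simp only [_root_.Finset.mem_insert, _root_.Finset.mem_singleton, _root_.EmbeddingLike.apply_eq_iff_eq, _root_.zero_ne_one, _root_.or_false])
    have hg1 := hg' (e.symm 1) (by simp only [_root_.Finset.mem_insert, _root_.EmbeddingLike.apply_eq_iff_eq, _root_.one_ne_zero, _root_.Finset.mem_singleton, _root_.or_true])
    rw [Finset.mem_insert, Finset.mem_singleton] at hg0 hg1
    rcases hg0 with hg0 | hg0
    · refine ⟨φ g, ⟨g, g.2, rfl⟩, ?_, Or.inl ?_⟩
      · rw [hφ, hg0, e.apply_symm_apply]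
      · rcases hg1 with hg1 | hg1
        · exact absurd ((g : Equiv.Perm α).injective (hg0.trans hg1.symm)) h01
        · rw [hφ, hg1, e.apply_symm_apply]
    · obtain ⟨t, ht⟩ := hT (-d)
      have htd : ∀ x, φ t x = x + -d := fun x => by rw [hφ, ht, e.apply_symm_apply]
      refine ⟨φ t * φ g, ⟨t * g, mul_mem t.2 g.2, map_mul φ _ _⟩, ?_, Or.inr ?_⟩
      · rw [Equiv.Perm.mul_apply, htd, hφ, hg0, e.apply_symm_apply, add_neg_cancel]
      · rcases hg1 with hg1 | hg1
        · rw [Equiv.Perm.mul_apply, htd, hφ, hg1, e.apply_symm_apply, zero_add]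
        · exact absurd ((g : Equiv.Perm α).injective (hg0.trans hg1.symm)) h01

end Cfsg.Agent.H500.Gen
end

-- part: H791/Gen/DerCount
section
/-!
# TEAM GEN: counting derivations (helper791)

* `small_of` : `Small H V` for a module `V` of exponent two if a normal subgroup `N` without fixed vectors is
  contained in `⟨P, w⟩` with `|P|` odd and `w` an involution.
-/

set_option autoImplicit false

namespace Cfsg.Agent.H791.Gen.DerCount

open Subgroup Cfsg.Agent.H891.Gen

universe u v

variable {H : Type u} [Group H] {V : Type v} [AddCommGroup V] [DistribMulAction H V]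

/-- derivations -/
abbrev Der (H : Type u) [Group H] (V : Type v) [AddCommGroup V] [DistribMulAction H V] : Type (max u v) :=
  {z : H → V // ∀ g h : H, z (g * h) = z g + g • z h}

theorem der_one (z : Der H V) : z.1 1 = 0 := by
  have h := z.2 1 1
  rw [mul_one, one_smul] at h
  exact left_eq_add.1 h

theorem der_inv (z : Der H V) (g : H) : z.1 g⁻¹ = -(g⁻¹ • z.1 g) := by
  have h := z.2 g⁻¹ g
  rw [inv_mul_cancel, der_one] at h
  exact eq_neg_of_add_eq_zero_left h.symm

theorem eq_on_closure {z z' : Der H V} {s : Set H} (h : ∀ x ∈ s, z.1 x = z'.1 x) :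
    ∀ x ∈ _root_.Subgroup.closure s, z.1 x = z'.1 x := by
  intro x hx
  induction hx using closure_induction with
  | mem x hx => exact h x hx
  | one => rw [der_one, der_one]
  | mul x y _ _ hx hy => rw [z.2, z'.2, hx, hy]
  | inv x _ hx => rw [der_inv, der_inv, hx]

theorem eq_of_normal {N : Subgroup H} (hN : N.Normal) (h0 : ∀ v : V, (∀ n ∈ N, n • v = v) → v = 0) {z z' : Der H V}
    (h : ∀ x ∈ N, z.1 x = z'.1 x) : z = z' := by
  apply Subtype.ext
  funext g
  rw [← sub_eq_zero]
  apply h0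
  intro n hn
  have h1 : z.1 (n * g) = z.1 n + n • z.1 g := z.2 _ _
  have h2 : z.1 (n * g) = z.1 g + g • z.1 (g⁻¹ * n * g) := by
    rw [← z.2]; group
  have h1' : z'.1 (n * g) = z'.1 n + n • z'.1 g := z'.2 _ _
  have h2' : z'.1 (n * g) = z'.1 g + g • z'.1 (g⁻¹ * n * g) := by
    rw [← z'.2]; group
  have h3 : g⁻¹ * n * g ∈ N := by
    have := hN.conj_mem n hn g⁻¹
    rwa [inv_inv] at this
  rw [h2, h n hn, h _ h3] at h1
  rw [h2'] at h1'
  rw [smul_sub]
  have h4 : n • z.1 g = z.1 g + g • z'.1 (g⁻¹ * n * g) - z'.1 n := by rw [h1]; abel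
  have h5 : n • z'.1 g = z'.1 g + g • z'.1 (g⁻¹ * n * g) - z'.1 n := by rw [h1']; abel
  rw [h4, h5]
  abel

/-- a derivation is inner on a subgroup of odd order -/
theorem inner_of_odd [Finite H] (P : Subgroup H) (hP : Odd (Nat.card ↥P)) (h2 : ∀ v : V, v + v = 0) (z : Der H V) :
    ∃ v : V, ∀ x ∈ P, z.1 x = v - x • v := by
  classical
  have : Fintype ↥P := Fintype.ofFinite _
  refine ⟨∑ y : ↥P, z.1 y, fun x hx => ?_⟩
  have h1 : x • (∑ y : ↥P, z.1 y) = ∑ y : ↥P, z.1 y - (Nat.card ↥P) • z.1 x := by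
    rw [Finset.smul_sum]
    have h3 : ∀ y : ↥P, x • z.1 y = z.1 (x * y) - z.1 x := fun y => by rw [z.2]; abel
    simp_rw [h3]
    rw [Finset.sum_sub_distrib, Finset.sum_const, Finset.card_univ, Nat.card_eq_fintype_card]
    congr 1
    exact Fintype.sum_equiv (Equiv.mulLeft (⟨x, hx⟩ : ↥P)) _ _ (fun y => rfl)
  rw [h1]
  obtain ⟨k, hk⟩ := hP
  rw [hk, add_smul, mul_comm, mul_smul, two_smul, h2, smul_zero, zero_add, one_smul]
  abel

theorem small_of [Finite H] [Finite V] [Nontrivial V] (h2 : ∀ v : V, v + v = 0) {N P : Subgroup H} {w : H}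
    (hN : N.Normal) (h0 : ∀ v : V, (∀ n ∈ N, n • v = v) → v = 0) (hP : Odd (Nat.card ↥P)) (hww : w * w = 1)
    (hw : w = 1 ∨ ∃ v : V, w • v ≠ v) (hgen : N ≤ _root_.Subgroup.closure ((P : Set H) ∪ {w})) : Small H V := by
  classical
  choose f hf using fun z : Der H V => inner_of_odd P hP h2 z
  let K : Set V := {v | ∃ z : Der H V, z.1 w = v}
  have hK : K ≠ Set.univ := by
    rcases hw with rfl | ⟨v, hv⟩
    · obtain ⟨v, hv⟩ := exists_ne (0 : V)
      intro h
      have h1 : v ∈ K := by rw [h]; trivial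
      obtain ⟨z, hz⟩ := h1
      rw [der_one] at hz
      exact hv hz.symm
    · intro h
      have h1 : v ∈ K := by rw [h]; trivial
      obtain ⟨z, hz⟩ := h1
      have h3 := z.2 w w
      rw [hww, der_one, hz] at h3
      apply hv
      have h4 : w • v = -v := (neg_eq_of_add_eq_zero_right h3.symm).symm
      rw [h4]
      exact neg_eq_of_add_eq_zero_left (h2 v)
  let F : Der H V → V × ↥K := fun z => (f z, ⟨z.1 w, z, rfl⟩)
  have hF : Function.Injective F := by
    intro z z' h
    have h3 : f z = f z' := congrArg Prod.fst h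
    have h4 : z.1 w = z'.1 w := congrArg (fun x => x.2.1) h
    refine eq_of_normal hN h0 fun x hx => eq_on_closure (s := (P : Set H) ∪ {w}) ?_ x (hgen hx)
    rintro y (hy | hy)
    · rw [hf z y hy, hf z' y hy, h3]
    · rw [Set.mem_singleton_iff] at hy
      rw [hy, h4]
  have h5 : Nat.card (Der H V) ≤ Nat.card V * Nat.card ↥K := by
    have := Nat.card_le_card_of_injective F hF
    rwa [Nat.card_prod] at this
  have h6 : Nat.card ↥K < Nat.card V := by
    rw [Nat.card_coe_set_eq, ← Set.ncard_univ]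
    exact Set.ncard_lt_ncard (lt_of_le_of_ne (Set.subset_univ _) hK) (Set.toFinite _)
  have h7 : 0 < Nat.card V := Nat.card_pos
  change Nat.card (Der H V) < Nat.card V ^ 2
  rw [pow_two]
  exact h5.trans_lt (Nat.mul_lt_mul_of_pos_left h6 h7)

end Cfsg.Agent.H791.Gen.DerCount
end

-- part: H791/Gen/U33
section
/-!
# TEAM GEN: the row `U₃(3)` of the transitive linear groups (helper791)

* `psu_pair` : `PSU₃(q)` is generated by a Sylow subgroup in defining characteristic and an involution;
* `u33` : the field `LinRows.u33`.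
-/

set_option autoImplicit false
set_option linter.unusedSectionVars false

namespace Cfsg.Agent.H791.Gen.U33

open Cfsg Subgroup Matrix

universe u v

section Pair

open Cfsg.Agent.H961.LinePSU3 Cfsg.Agent.LieRecognition.PSUThreeSylow Cfsg.Agent.LieClassical.HermSiegel
  Cfsg.Agent.H137.Herm

variable {F : Type u} [Field F] [Fintype F] {q : ℕ}

/-- the stabiliser of a vector -/
def Pe (q : ℕ) (e : Fin 3 → F) : Subgroup (SU 3 F q) where
  carrier := {g | act g e = e}
  one_mem' := act_one e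
  mul_mem' := by
    intro g k hg hk
    change act (g * k) e = e
    rw [act_mul]
    have hg' : act g e = e := hg
    have hk' : act k e = e := hk
    rw [hk', hg']
  inv_mem' := by
    intro g hg
    have hg' : act g e = e := hg
    change act g⁻¹ e = e
    nth_rewrite 1 [← hg']
    rw [act_inv_act]

theorem mem_Pe {e : Fin 3 → F} {g : SU 3 F q} : g ∈ Pe q e ↔ act g e = e := Iff.rfl

/-- `SU₃(q)` is generated by a Sylow subgroup in defining characteristic and an involution -/
theorem su_pair {r f : ℕ} [Fact r.Prime] [CharP F r] (hF : Fintype.card F = q ^ 2) (hqr : q = r ^ f) (hq : 2 ≤ q) :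
    ∃ (P : Subgroup (SU 3 F q)) (w : SU 3 F q), IsPGroup r P ∧ w * w = 1 ∧ _root_.Subgroup.closure ((P : Set (SU 3 F q)) ∪ {w}) = ⊤ := by
  obtain ⟨σ, hs, hσ, T, T', h, hT⟩ := exists_T_all (r := r) hF hqr hq
  have h' : T' * T = 1 := mul_eq_one_comm.mp h
  -- the form
  have hform : ∀ u v : Fin 3 → F, hermForm 3 F q (T *ᵥ u) (T *ᵥ v) = u ⬝ᵥ (Jm F *ᵥ fun i => σ (v i)) := by
    intro u v
    have h1 : ∀ u v : Fin 3 → F, hermForm 3 F q u v = u ⬝ᵥ (fun i => σ (v i)) := by
      intro u v
      simp only [hermForm, dotProduct, hs]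
    have h2 : (fun i => σ ((T *ᵥ v) i)) = T.map σ *ᵥ (fun i => σ (v i)) := by
      funext i
      simp [Matrix.mulVec, dotProduct, map_sum, map_mul]
    rw [h1, h2, ← hT, ← Matrix.mulVec_mulVec, Matrix.dotProduct_mulVec u, Matrix.vecMul_transpose]
  -- the Weyl element
  obtain ⟨w, hw⟩ := exists_of_mem hs h hT (k := ⟨-Jm F, by rw [Matrix.det_fin_three]; simp [Jm]⟩) (by
    change (-Jm F)ᵀ * Jm F * (-Jm F).map σ = Jm F
    have h1 : (-Jm F).map σ = -Jm F := by
      ext i j
      (revert i j; simp only [Jm, _root_.Fin.forall_fin_succ, _root_.Matrix.neg_of, _root_.Matrix.neg_cons, _root_.neg_zero, _root_.Matrix.neg_empty, _root_.Matrix.map_apply, _root_.Matrix.of_apply, _root_.Matrix.cons_val', _root_.Matrix.cons_val_fin_one, _root_.Matrix.neg_apply, Fin.isValue, _root_.Matrix.cons_val_zero, _root_.Matrix.cons_val_succ, _root_.forall_const, _root_.map_zero, _root_.map_neg, _root_.map_one, _root_.and_self, _root_.implies_true])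
    rw [h1, Matrix.transpose_neg, Jm_transpose, Matrix.neg_mul, Jm_mul_Jm, neg_mul_neg, one_mul])
  have hwm : T' * w.1.1 * T = -Jm F := hw
  have hwm' : w.1.1 = T * (-Jm F) * T' := by
    rw [← hwm]
    calc w.1.1 = (T * T') * w.1.1 * (T * T') := by rw [h, one_mul, mul_one]
      _ = T * (T' * w.1.1 * T) * T' := by simp only [Matrix.mul_assoc]
  have hww : w * w = 1 := by
    apply Subtype.ext
    apply Subtype.ext
    change w.1.1 * w.1.1 = 1
    rw [hwm']
    calc T * (-Jm F) * T' * (T * (-Jm F) * T') = T * ((-Jm F) * (T' * T) * (-Jm F)) * T' := by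
          simp only [Matrix.mul_assoc]
      _ = T * T' := by rw [h', mul_one, neg_mul_neg, Jm_mul_Jm, mul_one]
      _ = 1 := h
  set! e : Fin 3 → F := T *ᵥ e1 F with he
  have hee : hermForm 3 F q e e = 0 := by
    rw [he, hform]
    simp [Jm, e1, Matrix.mulVec, dotProduct, Fin.sum_univ_three]
  have hf : act w e = T *ᵥ (-e3 F) := by
    change w.1.1 *ᵥ e = _
    rw [hwm', he, Matrix.mulVec_mulVec]
    have h1 : T * (-Jm F) * T' * T = T * (-Jm F) := by rw [Matrix.mul_assoc, h', mul_one]
    rw [h1, ← Matrix.mulVec_mulVec]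
    congr 1
    ext i
    (revert i; simp only [Jm, e1, e3, Matrix.mulVec, dotProduct, Fin.sum_univ_three, _root_.Fin.forall_fin_succ, _root_.Matrix.neg_apply, _root_.Matrix.of_apply, _root_.Matrix.cons_val', _root_.Matrix.cons_val_fin_one, _root_.neg_mul, _root_.Finset.sum_neg_distrib, Fin.isValue, _root_.Matrix.cons_val_zero, _root_.mul_one, _root_.Matrix.cons_val_one, _root_.MulZeroClass.mul_zero, _root_.add_zero, _root_.Matrix.cons_val, _root_.Pi.neg_apply, _root_.neg_inj, _root_.Matrix.cons_val_succ, _root_.implies_true, _root_.and_self])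
  have hff : hermForm 3 F q (act w e) (act w e) = 0 := by rw [herm_act, hee]
  have hef : hermForm 3 F q e (act w e) ≠ 0 := by
    rw [hf, he, hform]
    simp [Jm, e1, e3, Matrix.mulVec, dotProduct, Fin.sum_univ_three]
  refine ⟨Pe q e, w, ?_, hww, ?_⟩
  · rintro ⟨g, hg⟩
    refine ⟨2, Subtype.ext ?_⟩
    have hg' : g.1.1 *ᵥ (T *ᵥ e1 F) = T *ᵥ e1 F := hg
    have h1 := unip (r := r) _ (symm_mem hs h hT g) (by
      change (T' * g.1.1 * T) *ᵥ e1 F = e1 F
      rw [← Matrix.mulVec_mulVec, ← Matrix.mulVec_mulVec, hg', Matrix.mulVec_mulVec, h', Matrix.one_mulVec])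
    rw [← map_pow] at h1
    apply Subtype.ext
    exact (MulEquiv.map_eq_one_iff _).1 h1
  · set! K := _root_.Subgroup.closure ((Pe q e : Set (SU 3 F q)) ∪ {w}) with hK; rewrite [← hK]
    have hPK : Pe q e ≤ K := fun x hx => _root_.Subgroup.subset_closure (Or.inl hx)
    have hwK : w ∈ K := _root_.Subgroup.subset_closure (Or.inr rfl)
    refine eq_top_of_full (hF := hF) le_rfl hee hff hef ?_ ?_
    · intro x μ hx
      exact ⟨hx, hPK (act_siegel_self hF hx)⟩
    · intro x μ hx
      refine ⟨hx, ?_⟩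
      set! s := siegel hF (act w e) x μ hx with hs'; rewrite [← hs']
      have h1 : w⁻¹ * s * w ∈ Pe q e := by
        rw [mem_Pe, act_mul, act_mul, hs', act_siegel_self hF hx, act_inv_act]
      have h2 := mul_mem (mul_mem hwK (hPK h1)) (inv_mem hwK)
      have h3 : w * (w⁻¹ * s * w) * w⁻¹ = s := by group
      rwa [h3] at h2

/-- a quotient of a group generated by a `p`-group and an involution -/
theorem pair_map {r : ℕ} {A B : Type*} [Group A] [Group B] (π : A →* B) (hπ : Function.Surjective π)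
    (h : ∃ (P : Subgroup A) (w : A), IsPGroup r P ∧ w * w = 1 ∧ _root_.Subgroup.closure ((P : Set A) ∪ {w}) = ⊤) :
    ∃ (P : Subgroup B) (w : B), IsPGroup r P ∧ w * w = 1 ∧ _root_.Subgroup.closure ((P : Set B) ∪ {w}) = ⊤ := by
  obtain ⟨P, w, hP, hw, hc⟩ := h
  refine ⟨P.map π, π w, hP.map π, by rw [← map_mul, hw, map_one], ?_⟩
  have h1 : (_root_.Subgroup.closure ((P : Set A) ∪ {w})).map π = _root_.Subgroup.closure (((P.map π : Subgroup B) : Set B) ∪ {π w}) := by
    rw [MonoidHom.map_closure, Set.image_union, Set.image_singleton, Subgroup.coe_map]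
  rw [← h1, hc, ← MonoidHom.range_eq_map, MonoidHom.range_eq_top.2 hπ]

theorem psu_pair {r f : ℕ} [Fact r.Prime] [CharP F r] (hF : Fintype.card F = q ^ 2) (hqr : q = r ^ f) (hq : 2 ≤ q) :
    ∃ (P : Subgroup (PSU 3 F q)) (w : PSU 3 F q), IsPGroup r P ∧ w * w = 1 ∧
      _root_.Subgroup.closure ((P : Set (PSU 3 F q)) ∪ {w}) = ⊤ :=
  pair_map (QuotientGroup.mk' (center (SU 3 F q))) (QuotientGroup.mk'_surjective _) (su_pair hF hqr hq)

end Pair

section Row

open Cfsg.Agent.H891.Gen Cfsg.Agent.H440.TwoGen Cfsg.Agent.H50.Her Module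

/-- **TEAM GEN**: `U₃(3) ≤ G ≤ G₂(2)` in dimension six over the field with two elements -/
theorem u33 (V : Type u) [AddCommGroup V] [Module (ZMod 2) V] [Finite V]
    (G A L : Subgroup (V ≃ₗ[ZMod 2] V)) (htr : ∀ v w : V, v ≠ 0 → w ≠ 0 → ∃ g ∈ G, g v = w) (_hA : MaxAb G A)
    (hL : Perf G A L) (_hq : Quasi A L) (h6 : finrank (ZMod 2) V = 6) (he : Nat.card (endAlg L) = 2)
    (hE : ∃ (E : Type) (_ : Field E) (_ : Fintype E), Fintype.card E = 9 ∧ Nonempty (L ≃* Cfsg.PSU 3 E 3)) :
    LGood G := by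
  classical
  obtain ⟨E, _, _, hE9, ⟨e⟩⟩ := hE
  have hF : Fintype.card E = 3 ^ 2 := hE9
  have hfin : Finite (V ≃ₗ[ZMod 2] V) := DFunLike.finite _
  have hnt : Nontrivial V := Module.nontrivial_of_finrank_pos (R := ZMod 2) (by omega)
  -- the centraliser
  have hA1 : A = ⊥ := by
    rw [Subgroup.eq_bot_iff_forall]
    intro a ha
    by_contra ha1
    have h1 : a ∈ G ⊓ centralizer (L : Set (V ≃ₗ[ZMod 2] V)) := by rw [hL.centralizer_eq]; exact ha
    have h2 : (a : End (ZMod 2) V) ∈ endAlg L := by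
      rw [mem_endAlg]
      intro g hg v
      exact (DFunLike.congr_fun (mem_centralizer_iff.1 (mem_inf.1 h1).2 g hg) v).symm
    have h3 : (⟨(a : End (ZMod 2) V), h2⟩ : endAlg L) ≠ 0 := by
      intro h0
      obtain ⟨v, hv⟩ := exists_ne (0 : V)
      have h4 : (a : End (ZMod 2) V) = 0 := congrArg Subtype.val h0
      apply hv
      apply a.injective
      rw [map_zero]
      exact LinearMap.congr_fun h4 v
    have h4 : (⟨(a : End (ZMod 2) V), h2⟩ : endAlg L) ≠ 1 := by
      intro h0
      have h4 : (a : End (ZMod 2) V) = 1 := congrArg Subtype.val h0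
      apply ha1
      ext v
      exact LinearMap.congr_fun h4 v
    have h5 : (0 : endAlg L) ≠ 1 := by
      intro h0
      obtain ⟨v, hv⟩ := exists_ne (0 : V)
      have h6 : (0 : End (ZMod 2) V) = 1 := congrArg Subtype.val h0
      exact hv (LinearMap.congr_fun h6 v).symm
    have hfe : Finite (endAlg L) := Nat.finite_of_card_ne_zero (by omega)
    have : Fintype (endAlg L) := Fintype.ofFinite _
    have h6 : ({(0 : endAlg L), 1, ⟨(a : End (ZMod 2) V), h2⟩} : Finset (endAlg L)).card = 3 := by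
      rw [Finset.card_eq_three]
      exact ⟨_, _, _, h5, Ne.symm h3, Ne.symm h4, rfl⟩
    have h7 := Finset.card_le_univ ({(0 : endAlg L), 1, ⟨(a : End (ZMod 2) V), h2⟩} : Finset (endAlg L))
    rw [h6, ← Nat.card_eq_fintype_card, he] at h7
    omega
  -- the normal subgroup
  have hN : (L.subgroupOf G).Normal := by
    constructor
    intro n hn g
    rw [mem_subgroupOf] at hn ⊢
    exact hL.nor g.1 g.2 n.1 hn
  have hcN : centralizer ((L.subgroupOf G : Subgroup ↥G) : Set ↥G) = ⊥ := by
    rw [Subgroup.eq_bot_iff_forall]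
    intro g hg
    have h1 : g.1 ∈ G ⊓ centralizer (L : Set (V ≃ₗ[ZMod 2] V)) := by
      refine mem_inf.2 ⟨g.2, ?_⟩
      rw [mem_centralizer_iff]
      intro l hl
      exact congrArg Subtype.val (mem_centralizer_iff.1 hg ⟨l, hL.le hl⟩ (mem_subgroupOf.2 hl))
    rw [hL.centralizer_eq, hA1, mem_bot] at h1
    exact Subtype.ext h1
  let e' : ↥(L.subgroupOf G) ≃* PSU 3 E 3 := (subgroupOfEquivOfLe hL.le).trans e
  constructor
  · obtain ⟨S, hS, ⟨φ⟩⟩ := Cfsg.Agent.H450.GenU.exists_sub (L.subgroupOf G) hcN e'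
    exact (Cfsg.Agent.H450.GenU.twoGen_of_inn hF le_rfl S hS).of_equiv φ.symm
  · -- the characteristic
    have : Fact (Nat.Prime 3) := ⟨Nat.prime_three⟩
    have hch : CharP E 3 := by
      obtain ⟨r, hr⟩ := CharP.exists E
      obtain ⟨n, hrp, hn⟩ := FiniteField.card E r
      have h1 : r ∣ 3 ^ 2 := by rw [← hF, hn]; exact dvd_pow_self r n.ne_zero
      have h2 : r = 3 := (Nat.prime_dvd_prime_iff_eq hrp Nat.prime_three).1 (hrp.dvd_of_dvd_pow h1)
      rwa [h2] at hr
    obtain ⟨P, w, hP, hw, hc⟩ := pair_map e'.symm.toMonoidHom e'.symm.surjective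
      (psu_pair (F := E) (r := 3) (f := 1) hF (by norm_num) (by norm_num))
    have h2V : ∀ v : V, v + v = 0 := by
      intro v
      rw [← two_smul (ZMod 2) v, show (2 : ZMod 2) = 0 by decide, zero_smul]
    refine DerCount.small_of h2V (N := L.subgroupOf G) (P := P.map (L.subgroupOf G).subtype) (w := (w : ↥G)) hN ?_ ?_ ?_ ?_ ?_
    · -- no fixed vectors
      intro v hv
      by_contra hv0
      apply hL.not_le
      intro l hl
      rw [hA1, mem_bot]
      ext x
      by_cases hx : x = 0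
      · rw [hx, map_zero, map_zero]
      obtain ⟨g, hg, rfl⟩ := htr v x hv0 hx
      have h1 : g⁻¹ * l * g ∈ L := by
        have := hL.nor g⁻¹ (inv_mem hg) l hl
        rwa [inv_inv] at this
      have h2 := hv ⟨_, hL.le h1⟩ (mem_subgroupOf.2 h1)
      have h3 : (g⁻¹ * l * g) v = v := h2
      have h4 : g ((g⁻¹ * l * g) v) = l (g v) := by
        change (g * (g⁻¹ * l * g)) v = (l * g) v
        congr 1
        group
      rw [← h4, h3]
      rfl
    · have h1 : IsPGroup 3 ↥(P.map (L.subgroupOf G).subtype) := hP.map _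
      obtain ⟨n, hn⟩ := IsPGroup.iff_card.1 h1
      rw [hn]
      exact Odd.pow (by decide)
    · exact congrArg Subtype.val hw
    · by_cases h1 : (w : ↥G) = 1
      · exact Or.inl h1
      · right
        by_contra hcon
        push Not at hcon
        apply h1
        apply Subtype.ext
        ext v
        exact hcon v
    · have h1 : (_root_.Subgroup.closure ((P : Set ↥(L.subgroupOf G)) ∪ {w})).map (L.subgroupOf G).subtype =
          _root_.Subgroup.closure (((P.map (L.subgroupOf G).subtype : Subgroup ↥G) : Set ↥G) ∪ {(w : ↥G)}) := by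
        simp only [MonoidHom.map_closure, Set.image_union, Set.image_singleton, Subgroup.coe_map]
        rfl
      rw [← h1, hc, ← MonoidHom.range_eq_map, Subgroup.range_subtype]

end Row

end Cfsg.Agent.H791.Gen.U33
end

-- part: H487/Gen/Final
section
/-!
# TEAM GEN: S3565 from the hubs (helper487)

`final` : S3565 from `Rows` (HUB H1), Hering's theorem (`H667.HerFin.Main`), the classification, and the rows
which are still missing.
-/

set_option autoImplicit false

namespace Cfsg.Agent.H487.Gen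

open Cfsg.Agent.H440.TwoGen Cfsg.Agent.H384.TwoTrans Cfsg.Agent.H891.Gen Cfsg.Agent.H50.Her MulAction Module Subgroup

universe u v

/-- The type of `ASRows.alt`. -/
def AltRow : Prop :=
  ∀ (G : Type u) (Ω : Type v) [Group G] [MulAction G Ω] (T : Subgroup G), AS G Ω T →
    ∀ n : ℕ, 5 ≤ n → Nonempty (↥T ≃* ↥(alternatingGroup (Fin n))) → TwoGen G

/-- The type of `ASRows.psl42`. -/
def Psl42Row : Prop :=
  ∀ (G : Type u) (Ω : Type v) [Group G] [MulAction G Ω] (T : Subgroup G), AS G Ω T →
    ∀ (F : Type) [Field F] [Fintype F], Fintype.card F = 2 →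
      Nonempty (↥T ≃* Matrix.ProjectiveSpecialLinearGroup (Fin 4) F) → Nat.card Ω = 8 → TwoGen G

/-- The type of `LinRows.g2`. -/
def G2Row : Prop :=
  ∀ (V : Type u) [AddCommGroup V] [Module (ZMod 2) V] [Finite V]
    (G L : Subgroup (V ≃ₗ[ZMod 2] V)) (F : Type) [Field F] [Fintype F] [Module F V],
    (∀ v w : V, v ≠ 0 → w ≠ 0 → ∃ g ∈ G, g v = w) → finrank F V = 6 → 4 ≤ Fintype.card F → SemiL F G → L ≤ G →
    Nor G L → (∀ g ∈ L, ∀ (c : F) (v : V), g (c • v) = c • g v) →
    (∀ g ∈ G, (∀ h ∈ L, g * h = h * g) → ∃ c : F, ∀ v, g v = c • v) →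
    Nonempty (L ≃* Cfsg.Lie.chevG2.group F) → LGood G

/-- The almost simple rows. -/
theorem asRows (h1 : AltRow.{u, v}) (h2 : Psl42Row.{u, v}) : ASRows.{u, v} where
  alt := h1
  psl2 := Cfsg.Agent.H791.Gen.psl2_row
  psl := Cfsg.Agent.H230.GenPsl.psl_final
  psl42 := h2
  sp := Cfsg.Agent.H500.Gen.asSp
  psu := fun _ _ _ _ T A F _ _ q hq hF e => Cfsg.Agent.H450.GenU.row_psu T A F q hq hF e
  sz := Cfsg.Agent.H491.Gen.sz
  ree := Cfsg.Agent.H491.Gen.ree
  m11 := SporRows.row_m11
  m12 := SporRows.row_m12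
  m22 := SporRows.row_m22
  m23 := SporRows.row_m23
  m24 := SporRows.row_m24
  hs := SporRows.row_hs
  co3 := SporRows.row_co3

/-- The linear rows. -/
theorem linRows (h1 : G2Row.{u}) : LinRows.{u} where
  semi := Cfsg.Agent.H500.Gen.lrSemi
  sl23 := Cfsg.Agent.H479.GenLin.row_sl23
  quat := Cfsg.Agent.H479.GenLin.row_quat
  ext32 := Ext.row_ext32
  sl := Cfsg.Agent.H490.GenSL.lin_sl
  sp := Cfsg.Agent.H484.GenSp.sp_row_full
  g2 := h1
  sl25 := Cfsg.Agent.H479.GenLin.row_sl25
  sl25' := Cfsg.Agent.H495.Gen.sl25'_row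
  a67 := ASixSeven.row_a67
  sl213 := Cfsg.Agent.H495.Gen.sl213_row
  u33 := Cfsg.Agent.H791.Gen.U33.u33

/-- The transitive linear groups. -/
theorem lgood (hH : Cfsg.Agent.H667.HerFin.Main.{u}) (R : LinRows.{u}) (p : ℕ) [Fact p.Prime] (V : Type u)
    [AddCommGroup V] [Module (ZMod p) V] [Finite V] [Nontrivial V] (G : Subgroup (V ≃ₗ[ZMod p] V))
    (htr : ∀ v w : V, v ≠ 0 → w ≠ 0 → ∃ g ∈ G, g v = w) : LGood G := by
  refine R.main htr (hH p V G ⊥ htr bot_le ?_ ?_)
  · intro g _ n hn
    rw [mem_bot] at hn ⊢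
    rw [hn, mul_one, mul_inv_cancel]
  · intro a ha b hb
    rw [mem_bot] at ha hb
    rw [ha, hb]

/-- **S3565** from HUB H1, Hering's theorem, the classification and the rows which are still missing. -/
theorem final (h1 : AltRow.{u, v}) (h2 : Psl42Row.{u, v}) (h3 : G2Row.{u}) (hR : Rows.{u, v})
    (hH : Cfsg.Agent.H667.HerFin.Main.{u})
    (hS : ∀ (X : Type u) [Group X] [Finite X] [IsSimpleGroup X], Cfsg.IsKnownSimple' X)
    {G : Type u} {Ω : Type v} [Group G] [Finite G] [MulAction G Ω] [FaithfulSMul G Ω] [Fintype Ω] [DecidableEq Ω]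
    (h : ∀ I J : Finset Ω, I.card = 2 → J.card = 2 → ∃ g : G, ∀ x ∈ I, g • x ∈ J) :
    ∃ x y : G, Subgroup.closure ({x, y} : Set G) = ⊤ := by
  refine main (fun G Ω _ _ T A => hR.main hS A) (asRows h1 h2) Cfsg.Agent.H490.AffStep.affineStep ?_
    (fun α _ _ G => Cfsg.Agent.H500.Gen.notTwo α G) h
  intro V _ p H hL
  have hp := Fact.mk hL.prime
  have hfin := hL.fin
  have hnt : Nontrivial V := by
    obtain ⟨v, hv⟩ := hL.ne
    exact ⟨v, 0, hv⟩
  let _ : Module (ZMod p) V := AddCommGroup.zmodModule hL.tors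
  exact Cfsg.Agent.H490.AffL.affGood_of_lin (p := p) H hL fun G htr => lgood hH (linRows h3) p V G htr

end Cfsg.Agent.H487.Gen
end
end
end
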